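import Mathlib
import Groth.Prelude.Def_RDerDelta

/-!
The horseshoe lemma for injective resolutions, in the form of `RDer.SESRes`.
-/

set_option autoImplicit false
universe v u
open CategoryTheory CategoryTheory.Limits

namespace Groth.Agent.Lib.Helper47.Horseshoe

variable {C : Type u} [Category.{v} C] [Abelian C]

/-- the augmentation of an injective resolution, as a morphism of `C` -/
noncomputable def aug {X : C} (I : InjectiveResolution X) : X ⟶ I.cocomplex.X 0 := I.ι.f 0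

lemma aug_d {X : C} (I : InjectiveResolution X) : aug I ≫ I.cocomplex.d 0 1 = 0 :=
  I.ι_f_zero_comp_complex_d

instance {X : C} (I : InjectiveResolution X) : Mono (aug I) :=
  inferInstanceAs (Mono (I.ι.f 0))

lemma aug_exact {X : C} (I : InjectiveResolution X) :
    (ShortComplex.mk (aug I) (I.cocomplex.d 0 1) (aug_d I)).Exact := I.exact₀

section

variable {S : ShortComplex C} (hS : S.ShortExact)
  (I₁ : InjectiveResolution S.X₁) (I₃ : InjectiveResolution S.X₃)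

/-- extension of the augmentation of `I₁` to `X₂` -/
noncomputable def rho : S.X₂ ⟶ I₁.cocomplex.X 0 :=
  have := hS.mono_f
  Injective.factorThru (aug I₁) S.f

lemma f_rho : S.f ≫ rho hS I₁ = aug I₁ := by
  have := hS.mono_f
  exact Injective.comp_factorThru _ _

/-- the class of the extension -/
noncomputable def ee : S.X₃ ⟶ I₁.cocomplex.X 1 :=
  have := hS.epi_g
  hS.exact.desc (-(rho hS I₁ ≫ I₁.cocomplex.d 0 1)) (by
    rw [Preadditive.comp_neg, ← Category.assoc, f_rho, aug_d, neg_zero])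

lemma g_ee : S.g ≫ ee hS I₁ = -(rho hS I₁ ≫ I₁.cocomplex.d 0 1) := by
  have := hS.epi_g
  exact hS.exact.g_desc _ _

lemma ee_d : ee hS I₁ ≫ I₁.cocomplex.d 1 2 = 0 := by
  have := hS.epi_g
  rw [← cancel_epi S.g, ← Category.assoc, g_ee, Preadditive.neg_comp, Category.assoc,
    I₁.cocomplex.d_comp_d, comp_zero, neg_zero, comp_zero]

noncomputable def th0 : I₃.cocomplex.X 0 ⟶ I₁.cocomplex.X 1 :=
  Injective.factorThru (ee hS I₁) (aug I₃)

lemma aug_th0 : aug I₃ ≫ th0 hS I₁ I₃ = ee hS I₁ := Injective.comp_factorThru _ _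

noncomputable def th1 : I₃.cocomplex.X 1 ⟶ I₁.cocomplex.X 2 :=
  (aug_exact I₃).descToInjective (-(th0 hS I₁ I₃ ≫ I₁.cocomplex.d 1 2)) (by
    dsimp
    rw [Preadditive.comp_neg, ← Category.assoc, aug_th0, ee_d, neg_zero])

lemma d_th1 : I₃.cocomplex.d 0 1 ≫ th1 hS I₁ I₃ = -(th0 hS I₁ I₃ ≫ I₁.cocomplex.d 1 2) :=
  (aug_exact I₃).comp_descToInjective _ _

/-- auxiliary recursion for the twisting cochain -/
noncomputable def thAux : ∀ n : ℕ,
    Σ' (a : I₃.cocomplex.X n ⟶ I₁.cocomplex.X (n + 1))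
      (b : I₃.cocomplex.X (n + 1) ⟶ I₁.cocomplex.X (n + 2)),
      a ≫ I₁.cocomplex.d (n + 1) (n + 2) = -(I₃.cocomplex.d n (n + 1) ≫ b)
  | 0 => ⟨th0 hS I₁ I₃, th1 hS I₁ I₃, by rw [d_th1, neg_neg]⟩
  | n + 1 => ⟨(thAux n).2.1,
      (I₃.exact_succ n).descToInjective (-((thAux n).2.1 ≫ I₁.cocomplex.d (n + 2) (n + 3))) (by
        dsimp
        have h' : I₃.cocomplex.d n (n + 1) ≫ (thAux n).2.1 =
            -((thAux n).1 ≫ I₁.cocomplex.d (n + 1) (n + 2)) :=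
          (neg_eq_iff_eq_neg.mpr (thAux n).2.2).symm
        rw [Preadditive.comp_neg, ← Category.assoc, h', Preadditive.neg_comp, Category.assoc,
          I₁.cocomplex.d_comp_d, comp_zero, neg_zero, neg_zero]),
      by
        rw [(I₃.exact_succ n).comp_descToInjective, neg_neg]⟩

/-- the components of the twisting cochain -/
noncomputable def th (n : ℕ) : I₃.cocomplex.X n ⟶ I₁.cocomplex.X (n + 1) := (thAux hS I₁ I₃ n).1

lemma th_succ (n : ℕ) : th hS I₁ I₃ (n + 1) = (thAux hS I₁ I₃ n).2.1 := rfl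

lemma th_d (n : ℕ) : th hS I₁ I₃ n ≫ I₁.cocomplex.d (n + 1) (n + 2) =
    -(I₃.cocomplex.d n (n + 1) ≫ th hS I₁ I₃ (n + 1)) := by
  rw [th_succ]
  exact (thAux hS I₁ I₃ n).2.2

lemma aug_th : aug I₃ ≫ th hS I₁ I₃ 0 = ee hS I₁ := aug_th0 hS I₁ I₃

/-- the differential of the middle complex -/
noncomputable def d₂ (n : ℕ) : I₁.cocomplex.X n ⊞ I₃.cocomplex.X n ⟶
    I₁.cocomplex.X (n + 1) ⊞ I₃.cocomplex.X (n + 1) :=
  biprod.fst ≫ I₁.cocomplex.d n (n + 1) ≫ biprod.inl +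
    biprod.snd ≫ th hS I₁ I₃ n ≫ biprod.inl +
    biprod.snd ≫ I₃.cocomplex.d n (n + 1) ≫ biprod.inr

lemma d₂_fst (n : ℕ) : d₂ hS I₁ I₃ n ≫ biprod.fst =
    biprod.fst ≫ I₁.cocomplex.d n (n + 1) + biprod.snd ≫ th hS I₁ I₃ n := by
  simp [d₂]

lemma d₂_snd (n : ℕ) : d₂ hS I₁ I₃ n ≫ biprod.snd = biprod.snd ≫ I₃.cocomplex.d n (n + 1) := by
  simp [d₂]

lemma inl_d₂ (n : ℕ) : biprod.inl ≫ d₂ hS I₁ I₃ n = I₁.cocomplex.d n (n + 1) ≫ biprod.inl := by
  simp [d₂]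

lemma d₂_sq (n : ℕ) : d₂ hS I₁ I₃ n ≫ d₂ hS I₁ I₃ (n + 1) = 0 := by
  apply biprod.hom_ext
  · rw [Category.assoc, d₂_fst, Preadditive.comp_add, ← Category.assoc, d₂_fst,
      ← Category.assoc, d₂_snd, Preadditive.add_comp, Category.assoc, Category.assoc,
      Category.assoc, I₁.cocomplex.d_comp_d, comp_zero, zero_add, th_d, Preadditive.comp_neg,
      neg_add_cancel, zero_comp]
  · rw [Category.assoc, d₂_snd, ← Category.assoc, d₂_snd, Category.assoc,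
      I₃.cocomplex.d_comp_d, comp_zero, zero_comp]

/-- the middle complex -/
noncomputable def cx₂ : CochainComplex C ℕ :=
  CochainComplex.of (fun n => I₁.cocomplex.X n ⊞ I₃.cocomplex.X n) (d₂ hS I₁ I₃) (d₂_sq hS I₁ I₃)

lemma cx₂_d (n : ℕ) : (cx₂ hS I₁ I₃).d n (n + 1) = d₂ hS I₁ I₃ n := by
  exact CochainComplex.of_d (fun n => I₁.cocomplex.X n ⊞ I₃.cocomplex.X n) (d₂ hS I₁ I₃) n

/-- the inclusion of the first complex -/
noncomputable def ff : I₁.cocomplex ⟶ cx₂ hS I₁ I₃ where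
  f n := (biprod.inl : I₁.cocomplex.X n ⟶ I₁.cocomplex.X n ⊞ I₃.cocomplex.X n)
  comm' i j hij := by
    obtain rfl : i + 1 = j := hij
    rw [cx₂_d]
    exact inl_d₂ hS I₁ I₃ i

/-- the projection to the third complex -/
noncomputable def gg : cx₂ hS I₁ I₃ ⟶ I₃.cocomplex where
  f n := (biprod.snd : I₁.cocomplex.X n ⊞ I₃.cocomplex.X n ⟶ I₃.cocomplex.X n)
  comm' i j hij := by
    obtain rfl : i + 1 = j := hij
    rw [cx₂_d]
    exact (d₂_snd hS I₁ I₃ i).symm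

lemma ff_gg : ff hS I₁ I₃ ≫ gg hS I₁ I₃ = 0 := by
  ext n
  exact biprod.inl_snd

lemma shortExact_cx : (ShortComplex.mk (ff hS I₁ I₃) (gg hS I₁ I₃) (ff_gg hS I₁ I₃)).ShortExact := by
  apply HomologicalComplex.shortExact_of_degreewise_shortExact
  intro n
  exact (ShortComplex.Splitting.ofHasBinaryBiproduct (I₁.cocomplex.X n)
    (I₃.cocomplex.X n)).shortExact

/-- the augmentation of the middle complex -/
noncomputable def aug₂ : S.X₂ ⟶ I₁.cocomplex.X 0 ⊞ I₃.cocomplex.X 0 :=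
  biprod.lift (rho hS I₁) (S.g ≫ aug I₃)

lemma aug₂_fst : aug₂ hS I₁ I₃ ≫
    (biprod.fst : I₁.cocomplex.X 0 ⊞ I₃.cocomplex.X 0 ⟶ I₁.cocomplex.X 0) = rho hS I₁ :=
  biprod.lift_fst _ _

lemma aug₂_snd : aug₂ hS I₁ I₃ ≫
    (biprod.snd : I₁.cocomplex.X 0 ⊞ I₃.cocomplex.X 0 ⟶ I₃.cocomplex.X 0) = S.g ≫ aug I₃ :=
  biprod.lift_snd _ _

lemma aug₂_d₂ : aug₂ hS I₁ I₃ ≫ d₂ hS I₁ I₃ 0 = 0 := by
  apply biprod.hom_ext
  · rw [Category.assoc, d₂_fst, zero_comp, Preadditive.comp_add, ← Category.assoc, aug₂_fst,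
      ← Category.assoc, aug₂_snd, Category.assoc, aug_th, g_ee, add_neg_cancel]
  · rw [Category.assoc, d₂_snd, zero_comp, ← Category.assoc, aug₂_snd, Category.assoc, aug_d,
      comp_zero]

lemma f_aug₂ : S.f ≫ aug₂ hS I₁ I₃ = aug I₁ ≫
    (biprod.inl : I₁.cocomplex.X 0 ⟶ I₁.cocomplex.X 0 ⊞ I₃.cocomplex.X 0) := by
  apply biprod.hom_ext
  · rw [Category.assoc, aug₂_fst, f_rho, Category.assoc, biprod.inl_fst, Category.comp_id]
  · rw [Category.assoc, aug₂_snd, ← Category.assoc, S.zero, zero_comp, Category.assoc,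
      biprod.inl_snd, comp_zero]

instance mono_aug₂ : Mono (aug₂ hS I₁ I₃) := by
  have := hS.mono_f
  rw [Preadditive.mono_iff_cancel_zero]
  intro A a ha
  have h1 : a ≫ S.g = 0 := by
    have h := congrArg (· ≫ (biprod.snd : I₁.cocomplex.X 0 ⊞ I₃.cocomplex.X 0 ⟶ _)) ha
    simp only [Category.assoc, zero_comp] at h
    rw [aug₂_snd, ← Category.assoc] at h
    exact zero_of_comp_mono _ h
  have h2 : hS.exact.lift a h1 ≫ S.f = a := hS.exact.lift_f _ _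
  have h3 : hS.exact.lift a h1 ≫ aug I₁ = 0 := by
    have h := congrArg (· ≫ (biprod.fst : I₁.cocomplex.X 0 ⊞ I₃.cocomplex.X 0 ⟶ _)) ha
    simp only [Category.assoc, zero_comp] at h
    rw [aug₂_fst] at h
    rw [← f_rho hS I₁, ← Category.assoc, h2]
    exact h
  rw [← h2, zero_of_comp_mono _ h3, zero_comp]

lemma aug₂_exact :
    (ShortComplex.mk (aug₂ hS I₁ I₃) (d₂ hS I₁ I₃ 0) (aug₂_d₂ hS I₁ I₃)).Exact := by
  have := hS.epi_g
  rw [ShortComplex.exact_iff_exact_up_to_refinements]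
  intro A y hy
  dsimp at y hy
  have hy3 : (y ≫ biprod.snd) ≫ I₃.cocomplex.d 0 1 = 0 := by
    rw [Category.assoc, ← d₂_snd hS I₁ I₃, ← Category.assoc, hy, zero_comp]
  have hy1 : (y ≫ biprod.fst) ≫ I₁.cocomplex.d 0 1 + (y ≫ biprod.snd) ≫ th hS I₁ I₃ 0 = 0 := by
    rw [Category.assoc, Category.assoc, ← Preadditive.comp_add, ← d₂_fst hS I₁ I₃,
      ← Category.assoc, hy, zero_comp]
  obtain ⟨A₁, π₁, hπ₁, x₃, hx₃⟩ := (aug_exact I₃).exact_up_to_refinements _ hy3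
  obtain ⟨A₂, π₂, hπ₂, x₂, hx₂⟩ := surjective_up_to_refinements_of_epi S.g x₃
  dsimp at x₃ hx₃
  have hz : (π₂ ≫ π₁ ≫ y ≫ biprod.fst - x₂ ≫ rho hS I₁) ≫ I₁.cocomplex.d 0 1 = 0 := by
    have e1 : (y ≫ biprod.fst) ≫ I₁.cocomplex.d 0 1 = -((y ≫ biprod.snd) ≫ th hS I₁ I₃ 0) :=
      eq_neg_of_add_eq_zero_left hy1
    have e2 : rho hS I₁ ≫ I₁.cocomplex.d 0 1 = -(S.g ≫ ee hS I₁) := by
      rw [g_ee hS I₁, neg_neg]
    have t1 : π₂ ≫ π₁ ≫ (y ≫ biprod.snd) ≫ th hS I₁ I₃ 0 = π₂ ≫ x₃ ≫ ee hS I₁ := by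
      rw [← Category.assoc π₁, hx₃, Category.assoc, aug_th hS I₁ I₃]
    have t2 : x₂ ≫ S.g ≫ ee hS I₁ = π₂ ≫ x₃ ≫ ee hS I₁ := by
      rw [← Category.assoc, ← hx₂, Category.assoc]
    rw [Preadditive.sub_comp]
    simp only [Category.assoc]
    rw [← Category.assoc y, e1, e2]
    simp only [Preadditive.comp_neg]
    rw [t1, t2]
    abel
  obtain ⟨A₃, π₃, hπ₃, x₁, hx₁⟩ := (aug_exact I₁).exact_up_to_refinements _ hz
  dsimp at x₁ hx₁
  refine ⟨A₃, π₃ ≫ π₂ ≫ π₁, inferInstance, π₃ ≫ x₂ + x₁ ≫ S.f, ?_⟩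
  change (π₃ ≫ π₂ ≫ π₁) ≫ y = (π₃ ≫ x₂ + x₁ ≫ S.f) ≫ aug₂ hS I₁ I₃
  apply biprod.hom_ext
  · simp only [Category.assoc, Preadditive.add_comp]
    rw [aug₂_fst hS I₁ I₃, f_rho hS I₁, ← hx₁, Preadditive.comp_sub]
    abel
  · simp only [Category.assoc, Preadditive.add_comp]
    rw [aug₂_snd hS I₁ I₃, ← Category.assoc S.f, S.zero, zero_comp, comp_zero, add_zero,
      ← Category.assoc x₂, ← hx₂, hx₃]
    simp only [Category.assoc]

lemma cx₂_exactAt_succ (n : ℕ) : (cx₂ hS I₁ I₃).ExactAt (n + 1) := by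
  rw [HomologicalComplex.exactAt_iff_isZero_homology]
  have h := (shortExact_cx hS I₁ I₃).homology_exact₂ (n + 1)
  exact h.isZero_of_both_zeros
    ((I₁.cocomplex_exactAt_succ n).isZero_homology.eq_of_src _ _)
    ((I₃.cocomplex_exactAt_succ n).isZero_homology.eq_of_tgt _ _)

instance cx₂_injective (n : ℕ) : Injective ((cx₂ hS I₁ I₃).X n) := by
  change Injective (I₁.cocomplex.X n ⊞ I₃.cocomplex.X n)
  infer_instance

/-- the augmentation as a morphism of complexes -/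
noncomputable def ι₂ : (CochainComplex.single₀ C).obj S.X₂ ⟶ cx₂ hS I₁ I₃ :=
  (CochainComplex.fromSingle₀Equiv _ _).symm ⟨aug₂ hS I₁ I₃, by
    rw [cx₂_d]
    exact aug₂_d₂ hS I₁ I₃⟩

lemma ι₂_f_zero : (ι₂ hS I₁ I₃).f 0 = aug₂ hS I₁ I₃ :=
  CochainComplex.fromSingle₀Equiv_symm_apply_f_zero _ _

set_option backward.isDefEq.respectTransparency false in
lemma quasiIsoAt_zero : QuasiIsoAt (ι₂ hS I₁ I₃) 0 := by
  rw [CochainComplex.quasiIsoAt₀_iff, ShortComplex.quasiIso_iff_of_zeros]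
  · refine (ShortComplex.exact_and_mono_f_iff_of_iso ?_).2
      ⟨aug₂_exact hS I₁ I₃, by dsimp; infer_instance⟩
    exact ShortComplex.isoMk (Iso.refl _) (Iso.refl _) (Iso.refl _)
      (by simp [ι₂_f_zero]) (by simp [cx₂_d])
  all_goals rfl

/-- the middle resolution -/
noncomputable def res₂ : InjectiveResolution S.X₂ where
  cocomplex := cx₂ hS I₁ I₃
  ι := ι₂ hS I₁ I₃
  quasiIso := ⟨fun n => by
    cases n
    · exact quasiIsoAt_zero hS I₁ I₃
    · rw [quasiIsoAt_iff_exactAt]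
      · apply cx₂_exactAt_succ
      · apply CochainComplex.exactAt_succ_single_obj⟩

/-- the horseshoe lemma: a resolution of the short exact sequence with prescribed ends -/
noncomputable def sesRes : RDer.SESRes S where
  I₁ := I₁
  I₂ := res₂ hS I₁ I₃
  I₃ := I₃
  f := ff hS I₁ I₃
  g := gg hS I₁ I₃
  zero := ff_gg hS I₁ I₃
  ι_f := by
    apply HomologicalComplex.from_single_hom_ext
    change I₁.ι.f 0 ≫ (ff hS I₁ I₃).f 0 =
      ((CochainComplex.single₀ C).map S.f).f 0 ≫ (ι₂ hS I₁ I₃).f 0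
    rw [CochainComplex.single₀_map_f_zero, ι₂_f_zero]
    exact (f_aug₂ hS I₁ I₃).symm
  ι_g := by
    apply HomologicalComplex.from_single_hom_ext
    change (ι₂ hS I₁ I₃).f 0 ≫ (gg hS I₁ I₃).f 0 =
      ((CochainComplex.single₀ C).map S.g).f 0 ≫ I₃.ι.f 0
    rw [CochainComplex.single₀_map_f_zero, ι₂_f_zero]
    exact aug₂_snd hS I₁ I₃
  shortExact := shortExact_cx hS I₁ I₃

end

/-- the horseshoe lemma -/
theorem nonempty_sesRes [HasInjectiveResolutions C] {S : ShortComplex C} (hS : S.ShortExact) :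
    Nonempty (RDer.SESRes S) :=
  ⟨sesRes hS (injectiveResolution S.X₁) (injectiveResolution S.X₃)⟩

end Groth.Agent.Lib.Helper47.Horseshoe
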