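import Mathlib
import Groth.Prelude.Def_RDerDelta

/-!
Morphisms of injective resolutions of short exact sequences lying over a morphism of short
complexes, and the resulting naturality / independence of `RDer.SESRes.delta`.
-/

set_option autoImplicit false
universe v u v' u'
open CategoryTheory CategoryTheory.Limits

namespace Groth.Agent.Lib.Helper47.SESResLib

variable {C : Type u} [Category.{v} C] [Abelian C] {D : Type u'} [Category.{v'} D] [Abelian D]

open RDer

section Lift

variable {S S' : ShortComplex C} (φ : S ⟶ S') (T : SESRes S) (T' : SESRes S')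

/-- a first lift of the middle morphism -/
noncomputable def a₂ : T.I₂.cocomplex ⟶ T'.I₂.cocomplex :=
  InjectiveResolution.desc φ.τ₂ T'.I₂ T.I₂

lemma ι_a₂ : T.I₂.ι ≫ a₂ φ T T' = (CochainComplex.single₀ C).map φ.τ₂ ≫ T'.I₂.ι :=
  InjectiveResolution.desc_commutes _ _ _

/-- the obstruction -/
noncomputable def cc : T.I₁.cocomplex ⟶ T'.I₃.cocomplex := T.f ≫ a₂ φ T T' ≫ T'.g

lemma ι_cc : T.I₁.ι ≫ cc φ T T' = 0 := by
  unfold cc
  rw [← Category.assoc, T.ι_f, Category.assoc, ← Category.assoc T.I₂.ι, ι_a₂, Category.assoc,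
    T'.ι_g, ← Category.assoc, ← Category.assoc, ← Functor.map_comp, ← Functor.map_comp,
    Category.assoc, φ.comm₂₃, ← Category.assoc, S.zero, zero_comp, Functor.map_zero, zero_comp]

noncomputable def HH : Homotopy (cc φ T T') 0 :=
  InjectiveResolution.descHomotopyZero _ (ι_cc φ T T')

instance mono_f_f (i : ℕ) : Mono (T.f.f i) := (T.splitting i).mono_f

/-- the degreewise section -/
noncomputable def sec (j : ℕ) : T.I₃.cocomplex.X j ⟶ T.I₂.cocomplex.X j := (T.splitting j).s

lemma sec_g (j : ℕ) : sec T j ≫ T.g.f j = 𝟙 _ := (T.splitting j).s_g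

noncomputable def hh (i j : ℕ) : T.I₂.cocomplex.X i ⟶ T'.I₂.cocomplex.X j :=
  Injective.factorThru ((HH φ T T').hom i j) (T.f.f i) ≫ sec T' j

lemma f_hh_g (i j : ℕ) : T.f.f i ≫ hh φ T T' i j ≫ T'.g.f j = (HH φ T T').hom i j := by
  unfold hh
  rw [Category.assoc, sec_g, Category.comp_id, Injective.comp_factorThru]

/-- the corrected middle lift -/
noncomputable def b₂ : T.I₂.cocomplex ⟶ T'.I₂.cocomplex :=
  a₂ φ T T' - Homotopy.nullHomotopicMap (hh φ T T')

lemma f_b₂_g : T.f ≫ b₂ φ T T' ≫ T'.g = 0 := by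
  unfold b₂
  rw [Preadditive.sub_comp, Preadditive.comp_sub, Homotopy.nullHomotopicMap_comp,
    Homotopy.comp_nullHomotopicMap, sub_eq_zero]
  have h1 : (fun i j => T.f.f i ≫ hh φ T T' i j ≫ T'.g.f j) = (HH φ T T').hom := by
    funext i j
    exact f_hh_g φ T T' i j
  rw [h1]
  ext i
  have h2 := (HH φ T T').comm i
  change (cc φ T T').f i = _
  rw [h2]
  simp [Homotopy.nullHomotopicMap]

lemma ι_null : T.I₂.ι ≫ Homotopy.nullHomotopicMap (hh φ T T') = 0 := by
  apply HomologicalComplex.from_single_hom_ext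
  rw [HomologicalComplex.comp_f, HomologicalComplex.zero_f,
    Homotopy.nullHomotopicMap_f_of_not_rel_right (c := ComplexShape.up ℕ) (k₁ := 0) (k₀ := 1)
      (by simp) (by simp)]
  rw [← Category.assoc, T.I₂.ι_f_zero_comp_complex_d, zero_comp]

lemma ι_b₂ : T.I₂.ι ≫ b₂ φ T T' = (CochainComplex.single₀ C).map φ.τ₂ ≫ T'.I₂.ι := by
  unfold b₂
  rw [Preadditive.comp_sub, ι_null, sub_zero, ι_a₂]

instance mono_T_f : Mono T.f := T.shortExact.mono_f
instance epi_T_g : Epi T.g := T.shortExact.epi_g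

/-- the induced map on the first resolution -/
noncomputable def b₁ : T.I₁.cocomplex ⟶ T'.I₁.cocomplex :=
  T'.shortExact.exact.lift (T.f ≫ b₂ φ T T') (by rw [Category.assoc]; exact f_b₂_g φ T T')

lemma b₁_f : b₁ φ T T' ≫ T'.f = T.f ≫ b₂ φ T T' :=
  T'.shortExact.exact.lift_f _ _

/-- the induced map on the third resolution -/
noncomputable def b₃ : T.I₃.cocomplex ⟶ T'.I₃.cocomplex :=
  T.shortExact.exact.desc (b₂ φ T T' ≫ T'.g) (f_b₂_g φ T T')

lemma g_b₃ : T.g ≫ b₃ φ T T' = b₂ φ T T' ≫ T'.g :=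
  T.shortExact.exact.g_desc _ _

/-- the morphism of short exact sequences of complexes -/
noncomputable def Φ : T.cx ⟶ T'.cx where
  τ₁ := b₁ φ T T'
  τ₂ := b₂ φ T T'
  τ₃ := b₃ φ T T'
  comm₁₂ := b₁_f φ T T'
  comm₂₃ := (g_b₃ φ T T').symm

lemma ι_b₁ : T.I₁.ι ≫ b₁ φ T T' = (CochainComplex.single₀ C).map φ.τ₁ ≫ T'.I₁.ι := by
  rw [← cancel_mono T'.f, Category.assoc, b₁_f, ← Category.assoc, T.ι_f, Category.assoc, ι_b₂,
    Category.assoc, T'.ι_f, ← Category.assoc, ← Category.assoc, ← Functor.map_comp,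
    ← Functor.map_comp, φ.comm₁₂]

lemma ι_b₃ [Epi S.g] : T.I₃.ι ≫ b₃ φ T T' = (CochainComplex.single₀ C).map φ.τ₃ ≫ T'.I₃.ι := by
  apply HomologicalComplex.from_single_hom_ext
  have h1 : (CochainComplex.single₀ C).map S.g ≫ T.I₃.ι ≫ b₃ φ T T' =
      (CochainComplex.single₀ C).map S.g ≫ (CochainComplex.single₀ C).map φ.τ₃ ≫ T'.I₃.ι := by
    rw [← Category.assoc, ← T.ι_g, Category.assoc, g_b₃, ← Category.assoc, ι_b₂, Category.assoc,
      T'.ι_g, ← Category.assoc, ← Category.assoc, ← Functor.map_comp, ← Functor.map_comp,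
      φ.comm₂₃]
  have : Epi (((CochainComplex.single₀ C).map S.g).f 0) := by
    have h0 : ((CochainComplex.single₀ C).map S.g).f 0 =
        (HomologicalComplex.singleObjXSelf (ComplexShape.up ℕ) 0 S.X₂).hom ≫ S.g ≫
          (HomologicalComplex.singleObjXSelf (ComplexShape.up ℕ) 0 S.X₃).inv :=
      HomologicalComplex.single_map_f_self _ _ _
    rw [h0]
    infer_instance
  have h2 := HomologicalComplex.congr_hom h1 0
  simp only [HomologicalComplex.comp_f] at h2
  exact (cancel_epi _).mp h2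

end Lift

section EpiG

/-- the existence of a resolution of `S` forces `S.g` to be an epimorphism -/
theorem epi_g_of_sesRes {S : ShortComplex C} (T : SESRes S) : Epi S.g := by
  have hex := T.shortExact.homology_exact₃ 0 1 rfl
  have hz : IsZero (T.I₁.cocomplex.homology 1) := (T.I₁.cocomplex_exactAt_succ 0).isZero_homology
  have h1 : Epi (HomologicalComplex.homologyMap T.g 0) := hex.epi_f (hz.eq_of_tgt _ _)
  have hq₂ : IsIso (HomologicalComplex.homologyMap T.I₂.ι 0) :=
    (quasiIsoAt_iff_isIso_homologyMap T.I₂.ι 0).mp inferInstance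
  have hq₃ : IsIso (HomologicalComplex.homologyMap T.I₃.ι 0) :=
    (quasiIsoAt_iff_isIso_homologyMap T.I₃.ι 0).mp inferInstance
  have h2 : HomologicalComplex.homologyMap ((CochainComplex.single₀ C).map S.g) 0 ≫
      HomologicalComplex.homologyMap T.I₃.ι 0 =
      HomologicalComplex.homologyMap T.I₂.ι 0 ≫ HomologicalComplex.homologyMap T.g 0 := by
    rw [← HomologicalComplex.homologyMap_comp, ← HomologicalComplex.homologyMap_comp, T.ι_g]
  have h3 : Epi (HomologicalComplex.homologyMap ((CochainComplex.single₀ C).map S.g) 0) := by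
    have h4 : HomologicalComplex.homologyMap ((CochainComplex.single₀ C).map S.g) 0 =
        (HomologicalComplex.homologyMap T.I₂.ι 0 ≫ HomologicalComplex.homologyMap T.g 0) ≫
          inv (HomologicalComplex.homologyMap T.I₃.ι 0) := by
      rw [← h2, Category.assoc, IsIso.hom_inv_id, Category.comp_id]
    rw [h4]
    infer_instance
  have h5 := HomologicalComplex.singleObjHomologySelfIso_hom_naturality (C := C)
    (c := ComplexShape.up ℕ) (j := 0) S.g
  have h6 : S.g = (HomologicalComplex.singleObjHomologySelfIso (ComplexShape.up ℕ) 0 S.X₂).inv ≫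
      HomologicalComplex.homologyMap ((CochainComplex.single₀ C).map S.g) 0 ≫
        (HomologicalComplex.singleObjHomologySelfIso (ComplexShape.up ℕ) 0 S.X₃).hom := by
    rw [← cancel_epi (HomologicalComplex.singleObjHomologySelfIso (ComplexShape.up ℕ) 0 S.X₂).hom,
      Iso.hom_inv_id_assoc]
    exact h5.symm
  rw [h6]
  infer_instance

end EpiG

section Delta

variable [HasInjectiveResolutions C] (F : C ⥤ D) [F.Additive]
variable {S S' : ShortComplex C} (T : SESRes S) (T' : SESRes S')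

/-- naturality of `SESRes.delta` along a morphism of resolutions -/
theorem delta_natural_of_hom (Ψ : T.cx ⟶ T'.cx) (a₁ : S.X₁ ⟶ S'.X₁) (a₃ : S.X₃ ⟶ S'.X₃)
    (h₁ : T.I₁.ι ≫ Ψ.τ₁ = (CochainComplex.single₀ C).map a₁ ≫ T'.I₁.ι)
    (h₃ : T.I₃.ι ≫ Ψ.τ₃ = (CochainComplex.single₀ C).map a₃ ≫ T'.I₃.ι)
    (n₀ n₁ : ℕ) (h : n₀ + 1 = n₁) :
    (F.rightDerived n₀).map a₃ ≫ T'.delta F n₀ n₁ h =
      T.delta F n₀ n₁ h ≫ (F.rightDerived n₁).map a₁ := by
  rw [← cancel_mono (T'.I₁.isoRightDerivedObj F n₁).hom]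
  have e₁ := InjectiveResolution.isoRightDerivedObj_hom_naturality a₁ T.I₁ T'.I₁ Ψ.τ₁
    (by
      have := HomologicalComplex.congr_hom h₁ 0
      simpa using this) F n₁
  have e₃ := InjectiveResolution.isoRightDerivedObj_hom_naturality a₃ T.I₃ T'.I₃ Ψ.τ₃
    (by
      have := HomologicalComplex.congr_hom h₃ 0
      simpa using this) F n₀
  have nat := HomologicalComplex.HomologySequence.δ_naturality
    ((F.mapHomologicalComplex (ComplexShape.up ℕ)).mapShortComplex.map Ψ)
    (T.map_shortExact F) (T'.map_shortExact F) n₀ n₁ h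
  have d' := T'.delta_comp_isoRightDerivedObj_hom F n₀ n₁ h
  have d := T.delta_comp_isoRightDerivedObj_hom F n₀ n₁ h
  rw [Category.assoc, Category.assoc, d', e₁]
  exact (Category.assoc _ _ _).symm.trans <|
    (congrArg (· ≫ (T'.map_shortExact F).δ n₀ n₁ h) e₃).trans <|
    (Category.assoc _ _ _).trans <|
    (congrArg ((T.I₃.isoRightDerivedObj F n₀).hom ≫ ·) nat.symm).trans <|
    (Category.assoc _ _ _).symm.trans <|
    (congrArg (· ≫ (F.mapHomologicalComplex (ComplexShape.up ℕ) ⋙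
      HomologicalComplex.homologyFunctor D (ComplexShape.up ℕ) n₁).map Ψ.τ₁) d.symm).trans <|
    (Category.assoc _ _ _)

/-- independence of `SESRes.delta` from the resolution -/
theorem delta_eq (T T' : SESRes S) (n₀ n₁ : ℕ) (h : n₀ + 1 = n₁) :
    T.delta F n₀ n₁ h = T'.delta F n₀ n₁ h := by
  have := epi_g_of_sesRes T
  have key := delta_natural_of_hom F T T' (Φ (𝟙 S) T T') (𝟙 _) (𝟙 _)
    (by
      have := ι_b₁ (𝟙 S) T T'
      simpa [Φ] using this)
    (by
      have := ι_b₃ (𝟙 S) T T'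
      simpa [Φ] using this) n₀ n₁ h
  rw [CategoryTheory.Functor.map_id, CategoryTheory.Functor.map_id, Category.id_comp,
    Category.comp_id] at key
  exact key.symm

end Delta

end Groth.Agent.Lib.Helper47.SESResLib
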