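import Mathlib
import Groth.Prelude.Def_RDerDelta
import Groth.Agent.Lib.Helper47.SESRes
import Groth.Agent.Lib.Helper47.Horseshoe

/-!
The long exact sequence of right derived functors: construction of `RDer.DerivedLES F`.
-/

set_option autoImplicit false
universe v u v' u'
open CategoryTheory CategoryTheory.Limits

namespace Groth.Agent.Lib.Helper47.RDerLES

variable {C : Type u} [Category.{v} C] [Abelian C] {D : Type u'} [Category.{v'} D] [Abelian D]

open RDer Groth.Agent.Lib.Helper47.SESResLib Groth.Agent.Lib.Helper47.Horseshoe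

section

variable [HasInjectiveResolutions C] (F : C ⥤ D) [F.Additive]
variable {S : ShortComplex C} (T : SESRes S)

lemma map_f_iso (n : ℕ) : (F.rightDerived n).map S.f ≫ (T.I₂.isoRightDerivedObj F n).hom =
    (T.I₁.isoRightDerivedObj F n).hom ≫
      HomologicalComplex.homologyMap ((F.mapHomologicalComplex (ComplexShape.up ℕ)).map T.f) n :=
  InjectiveResolution.isoRightDerivedObj_hom_naturality S.f T.I₁ T.I₂ T.f (by
    have := HomologicalComplex.congr_hom T.ι_f 0
    simpa using this) F n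

lemma map_g_iso (n : ℕ) : (F.rightDerived n).map S.g ≫ (T.I₃.isoRightDerivedObj F n).hom =
    (T.I₂.isoRightDerivedObj F n).hom ≫
      HomologicalComplex.homologyMap ((F.mapHomologicalComplex (ComplexShape.up ℕ)).map T.g) n :=
  InjectiveResolution.isoRightDerivedObj_hom_naturality S.g T.I₂ T.I₃ T.g (by
    have := HomologicalComplex.congr_hom T.ι_g 0
    simpa using this) F n

include T in
lemma exact₂ (n : ℕ) :
    (ShortComplex.mk ((F.rightDerived n).map S.f) ((F.rightDerived n).map S.g)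
      (by rw [← Functor.map_comp, S.zero, Functor.map_zero])).Exact := by
  refine ShortComplex.exact_of_iso (ShortComplex.isoMk (T.I₁.isoRightDerivedObj F n)
    (T.I₂.isoRightDerivedObj F n) (T.I₃.isoRightDerivedObj F n) ?_ ?_).symm
    ((T.map_shortExact F).homology_exact₂ n)
  · exact (map_f_iso F T n).symm
  · exact (map_g_iso F T n).symm

lemma comp_delta (n₀ n₁ : ℕ) (h : n₀ + 1 = n₁) :
    (F.rightDerived n₀).map S.g ≫ T.delta F n₀ n₁ h = 0 := by
  rw [← cancel_mono (T.I₁.isoRightDerivedObj F n₁).hom, Category.assoc,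
    T.delta_comp_isoRightDerivedObj_hom F n₀ n₁ h, zero_comp]
  exact (Category.assoc _ _ _).symm.trans <|
    (congrArg (· ≫ (T.map_shortExact F).δ n₀ n₁ h) (map_g_iso F T n₀)).trans <|
    (Category.assoc _ _ _).trans <|
    (congrArg ((T.I₂.isoRightDerivedObj F n₀).hom ≫ ·)
      ((T.map_shortExact F).comp_δ n₀ n₁ h)).trans comp_zero

lemma delta_comp (n₀ n₁ : ℕ) (h : n₀ + 1 = n₁) :
    T.delta F n₀ n₁ h ≫ (F.rightDerived n₁).map S.f = 0 := by
  rw [← cancel_mono (T.I₂.isoRightDerivedObj F n₁).hom, Category.assoc, map_f_iso F T n₁,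
    zero_comp]
  exact (Category.assoc _ _ _).symm.trans <|
    (congrArg (· ≫ HomologicalComplex.homologyMap
      ((F.mapHomologicalComplex (ComplexShape.up ℕ)).map T.f) n₁)
      (T.delta_comp_isoRightDerivedObj_hom F n₀ n₁ h)).trans <|
    (Category.assoc _ _ _).trans <|
    (congrArg ((T.I₃.isoRightDerivedObj F n₀).hom ≫ ·)
      ((T.map_shortExact F).δ_comp n₀ n₁ h)).trans comp_zero

lemma exact₃ (n₀ n₁ : ℕ) (h : n₀ + 1 = n₁) :
    (ShortComplex.mk _ _ (comp_delta F T n₀ n₁ h)).Exact := by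
  refine ShortComplex.exact_of_iso (ShortComplex.isoMk (T.I₂.isoRightDerivedObj F n₀)
    (T.I₃.isoRightDerivedObj F n₀) (T.I₁.isoRightDerivedObj F n₁) ?_ ?_).symm
    ((T.map_shortExact F).homology_exact₃ n₀ n₁ h)
  · exact (map_g_iso F T n₀).symm
  · exact (T.delta_comp_isoRightDerivedObj_hom F n₀ n₁ h).symm

lemma exact₁ (n₀ n₁ : ℕ) (h : n₀ + 1 = n₁) :
    (ShortComplex.mk _ _ (delta_comp F T n₀ n₁ h)).Exact := by
  refine ShortComplex.exact_of_iso (ShortComplex.isoMk (T.I₃.isoRightDerivedObj F n₀)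
    (T.I₁.isoRightDerivedObj F n₁) (T.I₂.isoRightDerivedObj F n₁) ?_ ?_).symm
    ((T.map_shortExact F).homology_exact₁ n₀ n₁ h)
  · exact (T.delta_comp_isoRightDerivedObj_hom F n₀ n₁ h).symm
  · exact (map_f_iso F T n₁).symm

/-- a chosen resolution of a short exact sequence -/
noncomputable def chosen {S : ShortComplex C} (hS : S.ShortExact) : SESRes S :=
  sesRes hS (injectiveResolution S.X₁) (injectiveResolution S.X₃)

/-- the connecting morphisms of the right derived functors -/
noncomputable def derivedLES : RDer.DerivedLES F where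
  δ S hS n₀ n₁ h := (chosen hS).delta F n₀ n₁ h
  δ_eq S hS T n₀ n₁ h := delta_eq F (chosen hS) T n₀ n₁ h
  δ_natural {S S'} hS hS' φ n₀ n₁ h := by
    have := hS.epi_g
    exact delta_natural_of_hom F (chosen hS) (chosen hS') (Φ φ _ _) φ.τ₁ φ.τ₃
      (ι_b₁ φ _ _) (ι_b₃ φ _ _) n₀ n₁ h
  exact₂ S hS n := exact₂ F (chosen hS) n
  comp_δ S hS n₀ n₁ h := comp_delta F (chosen hS) n₀ n₁ h
  exact₃ S hS n₀ n₁ h := exact₃ F (chosen hS) n₀ n₁ h
  δ_comp S hS n₀ n₁ h := delta_comp F (chosen hS) n₀ n₁ h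
  exact₁ S hS n₀ n₁ h := exact₁ F (chosen hS) n₀ n₁ h

end

end Groth.Agent.Lib.Helper47.RDerLES
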