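import Groth.Agent.Lib.Helper47.RpushNat2

/-!
# `R^p u_*` is naturally the sheafification of `V ↦ H^p(u V, -)`, part 3 (helper47)
-/

set_option autoImplicit false
set_option linter.unusedSectionVars false
universe u
open CategoryTheory CategoryTheory.Limits Opposite

namespace Groth.Agent.Lib.Helper47.RpushNat

open Abelian Groth.Agent.Lib.Cohomology.SiteH Groth.Agent.Lib.Helper47.DeltaGen

variable {C D : Type u} [SmallCategory C] [SmallCategory D]
  (J : GrothendieckTopology C) (K : GrothendieckTopology D) (u : D ⥤ C) [u.IsContinuous K J]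

/-- the δ-functor `G ↦ (V ↦ H^n(u V, G))^#` -/
noncomputable def TT :
    DeltaF.CohDeltaFunctor (Sheaf J AddCommGrpCat.{u}) (Sheaf K AddCommGrpCat.{u}) ℕ :=
  postcompDelta (extFamDelta.{u} (ZZ J u)) (presheafToSheaf K AddCommGrpCat.{u})

lemma TT_isUniversal : (TT J K u).IsUniversal :=
  postcompDelta_isUniversal _ _ (fun n I _ => isZero_HZ_succ_injective (ZZ J u) n I)

/-- `u_*` is the degree zero part -/
noncomputable def pushIso : CohSite.push J K u ≅ (TT J K u).F 0 :=
  (Functor.rightUnitor _).symm ≪≫
    Functor.isoWhiskerLeft _ (asIso (sheafificationAdjunction K AddCommGrpCat.{u}).counit).symm ≪≫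
    (Functor.associator _ _ _).symm ≪≫
    Functor.isoWhiskerRight (e0 J K u) (presheafToSheaf K AddCommGrpCat.{u})

instance : PreservesFiniteLimits (CohSite.push J K u) := inferInstance

/-- `R^q u_*` is naturally the sheafification of `V ↦ H^q(u V, -)` -/
theorem nonempty_rpush_iso (q : ℕ) :
    Nonempty (CohSite.Rpush J K u q ≅
      HZ.{u} (ZZ J u) q ⋙ presheafToSheaf K AddCommGrpCat.{u}) :=
  nonempty_rightDerived_iso (TT J K u) (TT_isUniversal J K u) (CohSite.push J K u)
    (pushIso J K u) q

end Groth.Agent.Lib.Helper47.RpushNat
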