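import Mathlib
import Groth.Prelude.Def_EtShriek2
import Groth.Agent.S0101
import Groth.Agent.Lib.Helper68.EtShriekExact

set_option autoImplicit false
universe u
open CategoryTheory CategoryTheory.Limits Opposite AlgebraicGeometry

namespace Groth.Agent.Lib.Helper47.EtRestr

variable {U X : Scheme.{u}} (j : U ⟶ X) [hj : Etale j]

set_option backward.isDefEq.respectTransparency.types false in
lemma compatiblePreserving_compEtale :
    CompatiblePreserving X.smallEtaleTopology (EtShriek.compEtale j) where
  compatible {F Z _ x hx Y₁ Y₂ W f₁ f₂ g₁ g₂ hg₁ hg₂ h} := by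
    have e1 : f₁.left ≫ Y₁.hom ≫ j = W.hom := MorphismProperty.Over.w f₁
    have hW : EtCoh.etaleMP ((f₁.left ≫ Y₁.hom) ≫ j) := by
      rw [Category.assoc, e1]; exact W.prop
    let W' : U.Etale := MorphismProperty.Over.mk ⊤ (f₁.left ≫ Y₁.hom)
      (EtCoh.etaleMP.of_postcomp (W' := EtCoh.etaleMP) (f₁.left ≫ Y₁.hom) j hj hW)
    let g₁' : W' ⟶ Y₁ := MorphismProperty.Over.homMk f₁.left rfl
    have h' : f₁.left ≫ g₁.left = f₂.left ≫ g₂.left := congrArg (fun k => k.left) h
    have w1 : g₁.left ≫ Z.hom = Y₁.hom := MorphismProperty.Over.w g₁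
    have w2 : g₂.left ≫ Z.hom = Y₂.hom := MorphismProperty.Over.w g₂
    have h2 : f₂.left ≫ Y₂.hom = f₁.left ≫ Y₁.hom := by
      rw [← w1, ← w2]
      exact ((Category.assoc _ _ _).symm.trans (congrArg (· ≫ Z.hom) h'.symm)).trans
        (Category.assoc _ _ _)
    let g₂' : W' ⟶ Y₂ := MorphismProperty.Over.homMk f₂.left h2
    let e : (EtShriek.compEtale j).obj W' ≅ W := MorphismProperty.Over.isoMk (Iso.refl _)
      ((Category.id_comp W.hom).trans (e1.symm.trans (Category.assoc _ _ _).symm))
    have hh : g₁' ≫ g₁ = g₂' ≫ g₂ := MorphismProperty.Over.Hom.ext h'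
    have key := hx g₁' g₂' hg₁ hg₂ hh
    have k1 : f₁ = e.inv ≫ (EtShriek.compEtale j).map g₁' := by
      apply MorphismProperty.Over.Hom.ext
      exact (Category.id_comp f₁.left).symm
    have k2 : f₂ = e.inv ≫ (EtShriek.compEtale j).map g₂' := by
      apply MorphismProperty.Over.Hom.ext
      exact (Category.id_comp f₂.left).symm
    rw [k1, k2, op_comp, op_comp, F.obj.map_comp, F.obj.map_comp]
    exact congrArg (F.obj.map e.inv.op) key

/-- composition with an etale morphism is a continuous functor of small etale sites -/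
instance jCont : EtShriek.JCont j :=
  Functor.isContinuous_of_coverPreserving (compatiblePreserving_compEtale j)
    (EtShriek.coverPreserving_compEtale j)

/-- `(V → U) ↦ (V → U → X)` is left adjoint to base change along `j` -/
noncomputable def compBcAdj : EtShriek.compEtale j ⊣ EtCoh.bc j :=
  MorphismProperty.Over.mapPullbackAdj EtCoh.etaleMP ⊤ j hj trivial

/-- restriction along an etale `j` is left adjoint to the direct image -/
noncomputable def restrPushAdj : EtShriek.restrAlong j ⊣ EtCoh.push j :=
  (compBcAdj j).sheafPushforwardContinuous (E := AddCommGrpCat.{u + 1}) U.smallEtaleTopology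
    X.smallEtaleTopology

/-- for etale `j` the inverse image is restriction -/
noncomputable def pullIsoRestr : EtCoh.pull j ≅ EtShriek.restrAlong j :=
  Adjunction.leftAdjointUniq (EtCoh.pullPushAdj j) (restrPushAdj j)

lemma injective_restrAlong (I : EtCoh.Ab X) [Injective I] :
    Injective ((EtShriek.restrAlong j).obj I) :=
  Injective.injective_of_adjoint (EtShriek.extZeroAdj j) I

lemma injective_pull (I : EtCoh.Ab X) [Injective I] : Injective ((EtCoh.pull j).obj I) :=
  Injective.of_iso ((pullIsoRestr j).app I).symm (injective_restrAlong j I)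

lemma injective_push {X Y : Scheme.{u}} (f : X ⟶ Y) (I : EtCoh.Ab X) [Injective I] :
    Injective ((EtCoh.push f).obj I) := by
  have := Groth.Agent.S0101.result f
  exact Injective.injective_of_adjoint (EtCoh.pullPushAdj f) I

lemma subsingleton_H_of_injective {X : Scheme.{u}} (I : EtCoh.Ab X) [Injective I] (n : ℕ) :
    Subsingleton (EtCoh.H X I (n + 1)) :=
  subsingleton_of_forall_eq 0 (fun e => Abelian.Ext.eq_zero_of_injective e)

end Groth.Agent.Lib.Helper47.EtRestr
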