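import Mathlib
import Groth.Prelude.Def_CAlgX

/-!
McCoy's theorem: a matrix over a commutative ring gives an injective map iff the annihilator of
the ideal of maximal minors vanishes.
-/

set_option autoImplicit false
universe u
open CAlgX Matrix

namespace Groth.Agent.Lib.Helper47.McCoy

variable {R : Type u} [CommRing R]

lemma minor_mem {m n : Type} [Fintype m] [Fintype n] (A : Matrix m n R) (r : ℕ)
    (f : Fin r → m) (g : Fin r → n) : (A.submatrix f g).det ∈ minorIdeal A r :=
  Ideal.subset_span ⟨(f, g), rfl⟩

lemma minorIdeal_zero {m n : Type} [Fintype m] [Fintype n] (A : Matrix m n R) :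
    minorIdeal A 0 = ⊤ := by
  rw [Ideal.eq_top_iff_one]
  have h := minor_mem A 0 Fin.elim0 Fin.elim0
  rwa [Matrix.det_isEmpty] at h

lemma minor_eq_zero_of_not_injective {m n : Type} [Fintype m] [Fintype n] (A : Matrix m n R)
    (r : ℕ) (f : Fin r → m) (g : Fin r → n) (hg : ¬ Function.Injective g) :
    (A.submatrix f g).det = 0 := by
  rw [Function.Injective] at hg
  push Not at hg
  obtain ⟨i, j, hij, hne⟩ := hg
  exact Matrix.det_zero_of_column_eq hne (fun k => by simp [Matrix.submatrix_apply, hij])

lemma minorIdeal_eq_bot_of_lt {n m : ℕ} (A : Matrix (Fin n) (Fin m) R) (r : ℕ) (h : m < r) :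
    minorIdeal A r = ⊥ := by
  rw [minorIdeal, Ideal.span_eq_bot]
  rintro _ ⟨⟨f, g⟩, rfl⟩
  apply minor_eq_zero_of_not_injective
  intro hg
  have := Fintype.card_le_of_injective g hg
  simp at this
  omega

/-- if every generator is killed by `a`, so is the whole minor ideal -/
lemma mul_eq_zero_of_forall_minor {m n : Type} [Fintype m] [Fintype n] (A : Matrix m n R) (r : ℕ)
    (a : R) (h : ∀ (f : Fin r → m) (g : Fin r → n), a * (A.submatrix f g).det = 0) :
    ∀ y ∈ minorIdeal A r, a * y = 0 := by
  intro y hy
  have hle : minorIdeal A r ≤ (Ideal.span {a}).annihilator := by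
    rw [minorIdeal, Ideal.span_le]
    rintro _ ⟨⟨f, g⟩, rfl⟩
    rw [SetLike.mem_coe, Submodule.mem_annihilator_span_singleton, smul_eq_mul, mul_comm]
    exact h f g
  have := hle hy
  rw [Submodule.mem_annihilator_span_singleton, smul_eq_mul, mul_comm] at this
  exact this

/-- easy direction of McCoy -/
theorem injective_of_annihilator {n m : ℕ} (M : Matrix (Fin n) (Fin m) R)
    (h : (minorIdeal M m).annihilator = ⊥) : Function.Injective (Matrix.mulVecLin M) := by
  rw [injective_iff_map_eq_zero]
  intro x hx
  have hx' : M *ᵥ x = 0 := hx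
  funext j
  have hj : x j ∈ (minorIdeal M m).annihilator := by
    rw [Submodule.mem_annihilator]
    intro y hy
    rw [smul_eq_mul]
    refine mul_eq_zero_of_forall_minor M m (x j) ?_ y hy
    intro f g
    by_cases hg : Function.Injective g
    · have hbij : Function.Bijective g := Finite.injective_iff_bijective.mp hg
      set B := M.submatrix f g with hB
      have h1 : B *ᵥ (x ∘ g) = 0 := by
        funext i
        have h2 := congrFun hx' (f i)
        simp only [Matrix.mulVec, dotProduct, Pi.zero_apply] at h2 ⊢
        rw [← h2]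
        exact (Equiv.ofBijective g hbij).sum_comp (fun j => M (f i) j * x j)
      have h3 : B.det • (x ∘ g) = 0 := by
        have : (B.adjugate * B) *ᵥ (x ∘ g) = 0 := by
          rw [← Matrix.mulVec_mulVec, h1, Matrix.mulVec_zero]
        rwa [Matrix.adjugate_mul, Matrix.smul_mulVec, Matrix.one_mulVec] at this
      obtain ⟨k, rfl⟩ := hbij.2 j
      have := congrFun h3 k
      simp only [Pi.smul_apply, Function.comp_apply, smul_eq_mul, Pi.zero_apply] at this
      rw [mul_comm]
      exact this
    · rw [minor_eq_zero_of_not_injective M m f g hg, mul_zero]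
  rw [h] at hj
  exact hj

/-- hard direction of McCoy -/
theorem annihilator_of_injective {n m : ℕ} (M : Matrix (Fin n) (Fin m) R)
    (h : Function.Injective (Matrix.mulVecLin M)) : (minorIdeal M m).annihilator = ⊥ := by
  by_contra hne
  obtain ⟨a, ha, ha0⟩ := (Submodule.ne_bot_iff _).mp hne
  have ham : ∀ y ∈ minorIdeal M m, a * y = 0 := fun y hy => by
    have := (Submodule.mem_annihilator.mp ha) y hy
    simpa using this
  let P : ℕ → Prop := fun r =>
    ∃ (f : Fin r → Fin n) (g : Fin r → Fin m), a * (M.submatrix f g).det ≠ 0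
  have hP0 : P 0 := ⟨Fin.elim0, Fin.elim0, by rw [Matrix.det_isEmpty, mul_one]; exact ha0⟩
  have hPm : ¬ P m := by
    rintro ⟨f, g, hfg⟩
    exact hfg (ham _ (minor_mem M m f g))
  have hex : ∃ r, r < m ∧ P r ∧ ¬ P (r + 1) := by
    by_contra hcon
    push Not at hcon
    have : ∀ r, r ≤ m → P r := by
      intro r
      induction r with
      | zero => intro _; exact hP0
      | succ r ih => intro hr; exact hcon r (by omega) (ih (by omega))
    exact hPm (this m le_rfl)
  obtain ⟨r, hrm, ⟨f, g, hfg⟩, hPr1⟩ := hex
  have hj₀ : ∃ j₀ : Fin m, ∀ k, g k ≠ j₀ := by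
    by_contra hcon
    push Not at hcon
    have hsurj : Function.Surjective g := fun j => hcon j
    have := Fintype.card_le_of_surjective g hsurj
    simp at this
    omega
  obtain ⟨j₀, hj₀⟩ := hj₀
  let g' : Fin (r + 1) → Fin m := Fin.cons j₀ g
  let c : Fin (r + 1) → R := fun k =>
    a * ((-1) ^ (k : ℕ) * (M.submatrix f (g' ∘ k.succAbove)).det)
  let x : Fin m → R := fun j => ∑ k, if g' k = j then c k else 0
  have hMx : M *ᵥ x = 0 := by
    funext i
    have h1 : (M *ᵥ x) i = ∑ k, M i (g' k) * c k := by
      simp only [Matrix.mulVec, dotProduct, x, Finset.mul_sum, mul_ite, mul_zero]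
      rw [Finset.sum_comm]
      refine Finset.sum_congr rfl ?_
      intro k _
      rw [Finset.sum_ite_eq]
      simp
    have h2 : a * (M.submatrix (Fin.cons i f) g').det = ∑ k, M i (g' k) * c k := by
      rw [Matrix.det_succ_row_zero, Finset.mul_sum]
      refine Finset.sum_congr rfl ?_
      intro k _
      have e1 : (M.submatrix (Fin.cons i f : Fin (r + 1) → Fin n) g') 0 k = M i (g' k) := by
        simp [Matrix.submatrix_apply]
      have e2 : (M.submatrix (Fin.cons i f : Fin (r + 1) → Fin n) g').submatrix Fin.succ
          k.succAbove = M.submatrix f (g' ∘ k.succAbove) := by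
        ext p q
        simp [Matrix.submatrix_apply]
      rw [e1, e2]
      simp only [c]
      ring
    have h3 : a * (M.submatrix (Fin.cons i f : Fin (r + 1) → Fin n) g').det = 0 := by
      by_contra hcon
      exact hPr1 ⟨Fin.cons i f, g', hcon⟩
    rw [h1, ← h2, h3]
    rfl
  have hx0 : x = 0 := h (by rw [Matrix.mulVecLin_apply, hMx, map_zero])
  have hxj : x j₀ = a * (M.submatrix f g).det := by
    simp only [x]
    rw [Fin.sum_univ_succ]
    have e1 : ∀ k : Fin r, (if g' k.succ = j₀ then c k.succ else 0) = 0 := by
      intro k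
      rw [if_neg]
      simp only [g', Fin.cons_succ]
      exact hj₀ k
    rw [Finset.sum_eq_zero (fun k _ => e1 k), add_zero]
    have e2 : g' 0 = j₀ := by simp [g']
    rw [if_pos e2]
    simp only [c]
    have e3 : g' ∘ (0 : Fin (r + 1)).succAbove = g := by
      funext k
      simp [g', Fin.succAbove_zero]
    rw [e3]
    simp
  apply hfg
  rw [← hxj, hx0]
  rfl

/-- McCoy's theorem -/
theorem injective_iff {n m : ℕ} (M : Matrix (Fin n) (Fin m) R) :
    Function.Injective (Matrix.mulVecLin M) ↔ (minorIdeal M m).annihilator = ⊥ :=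
  ⟨annihilator_of_injective M, injective_of_annihilator M⟩

/-- the rank condition reformulated -/
theorem rank_iff [Nontrivial R] {n m : ℕ} (M : Matrix (Fin n) (Fin m) R) :
    (matrixRank M = m ∧ (detIdeal M).annihilator = ⊥) ↔ (minorIdeal M m).annihilator = ⊥ := by
  constructor
  · rintro ⟨h1, h2⟩
    rw [detIdeal, h1] at h2
    exact h2
  · intro h
    have hne : minorIdeal M m ≠ ⊥ := by
      intro h0
      rw [h0, Submodule.annihilator_bot] at h
      exact top_ne_bot h
    have hbdd : BddAbove {r : ℕ | minorIdeal M r ≠ ⊥} := by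
      refine ⟨m, ?_⟩
      intro r hr
      by_contra hlt
      push Not at hlt
      exact hr (minorIdeal_eq_bot_of_lt M r hlt)
    have hrank : matrixRank M = m := by
      apply le_antisymm
      · apply csSup_le ⟨m, hne⟩
        intro r hr
        by_contra hlt
        push Not at hlt
        exact hr (minorIdeal_eq_bot_of_lt M r hlt)
      · exact le_csSup hbdd hne
    refine ⟨hrank, ?_⟩
    rw [detIdeal, hrank]
    exact h

/-- in a Noetherian ring, an ideal has zero annihilator iff it contains a regular element -/
theorem annihilator_eq_bot_iff [IsNoetherianRing R] (I : Ideal R) :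
    I.annihilator = ⊥ ↔ (I = ⊤ ∨ ∃ a ∈ I, IsRegular a) := by
  constructor
  · intro h
    right
    by_contra hcon
    push Not at hcon
    have hsub : (I : Set R) ⊆ ⋃ p ∈ associatedPrimes R R, (p : Set R) := by
      rw [biUnion_associatedPrimes_eq_compl_nonZeroDivisors]
      intro a ha hreg
      exact hcon a ha (isRegular_iff_mem_nonZeroDivisors.mpr hreg)
    have hfin := associatedPrimes.finite R R
    have hsub' : (I : Set R) ⊆ ⋃ p ∈ (↑hfin.toFinset : Set (Ideal R)), ((id p : Ideal R) : Set R) := by
      simpa using hsub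
    obtain ⟨p, hp, hIp⟩ := (Ideal.subset_union_prime (s := hfin.toFinset) (f := id) ⊥ ⊥
      (fun p hp _ _ => by
        rw [Set.Finite.mem_toFinset] at hp
        exact hp.isPrime)).mp hsub'
    rw [Set.Finite.mem_toFinset, AssociatedPrimes.mem_iff, isAssociatedPrime_iff] at hp
    obtain ⟨hprime, x, hx⟩ := hp
    have hx0 : x ≠ 0 := by
      rintro rfl
      apply hprime.ne_top
      rw [hx, Ideal.eq_top_iff_one, Submodule.mem_colon_singleton]
      simp
    have hxann : x ∈ I.annihilator := by
      rw [Submodule.mem_annihilator]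
      intro y hy
      have : y ∈ Submodule.colon (⊥ : Submodule R R) {x} := hx ▸ hIp hy
      rw [Submodule.mem_colon_singleton, Submodule.mem_bot, smul_eq_mul] at this
      rw [smul_eq_mul, mul_comm]
      exact this
    rw [h, Submodule.mem_bot] at hxann
    exact hx0 hxann
  · rintro (rfl | ⟨a, ha, hreg⟩)
    · rw [eq_bot_iff]
      intro b hb
      rw [Submodule.mem_annihilator] at hb
      have := hb 1 Submodule.mem_top
      rw [smul_eq_mul, mul_one] at this
      rw [Submodule.mem_bot]
      exact this
    · rw [eq_bot_iff]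
      intro b hb
      rw [Submodule.mem_annihilator] at hb
      have := hb a ha
      rw [smul_eq_mul] at this
      rw [Submodule.mem_bot]
      exact hreg.right (by simp only [this, zero_mul])

end Groth.Agent.Lib.Helper47.McCoy
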