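import Mathlib
import Groth.Agent.Lib.Helper47.RDerLES

/-!
# Ext along an adjunction `L ⊣ R` with `L` exact (helper47)
`Φ G n : Ext a (R G) n → Ext b G n` (apply `L`, compose with `b ⟶ L a` and the counit) is bijective
for all `n` when `b ⟶ L a` is an isomorphism and the higher right derived functors of `R` vanish
on `G` (degenerate Leray spectral sequence, by dimension shifting).
-/

set_option autoImplicit false
set_option linter.unusedSectionVars false
universe w w' v v' u u'
open CategoryTheory CategoryTheory.Limits CategoryTheory.Abelian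

namespace Groth.Agent.Lib.Helper47.ExtAdjShift

variable {A : Type u} [Category.{v} A] [Abelian A] [HasExt.{w} A]
  {B : Type u'} [Category.{v'} B] [Abelian B] [HasExt.{w'} B]
  {L : A ⥤ B} {R : B ⥤ A} (adj : L ⊣ R) [L.Additive] [PreservesFiniteLimits L]
  [PreservesFiniteColimits L] {a : A} {b : B} (ι : b ⟶ L.obj a)

/-- the comparison map `Ext a (R G) n → Ext b G n` -/
noncomputable def Φ (G : B) (n : ℕ) : Ext.{w} a (R.obj G) n →+ Ext.{w'} b G n :=
  ((Ext.mk₀ (adj.counit.app G)).postcomp b (add_zero n)).comp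
    ((AddMonoidHom.mk' (fun e => (Ext.mk₀ ι).comp e (zero_add n))
      (fun _ _ => Ext.comp_add _ _ _ _)).comp (L.mapExtAddHom a (R.obj G) n))

lemma Φ_apply (G : B) (n : ℕ) (x : Ext.{w} a (R.obj G) n) :
    Φ adj ι G n x = ((Ext.mk₀ ι).comp (x.mapExactFunctor L) (zero_add n)).comp
      (Ext.mk₀ (adj.counit.app G)) (add_zero n) := rfl

lemma Φ_natural {G G' : B} (ψ : G ⟶ G') (n : ℕ) (x : Ext.{w} a (R.obj G) n) :
    Φ adj ι G' n (x.comp (Ext.mk₀ (R.map ψ)) (add_zero n)) =
      (Φ adj ι G n x).comp (Ext.mk₀ ψ) (add_zero n) := by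
  rw [Φ_apply, Φ_apply, Ext.mapExactFunctor_comp, Ext.mapExactFunctor_mk₀]
  simp only [Ext.comp_assoc_of_third_deg_zero, Ext.mk₀_comp_mk₀]
  have h := adj.counit.naturality ψ
  simp only [Functor.comp_map, Functor.id_map] at h
  rw [h]

omit [PreservesFiniteLimits L] [PreservesFiniteColimits L] [L.Additive] in
lemma key [L.Additive] [PreservesFiniteLimits L] [PreservesFiniteColimits L]
    {P₃ P₁ : A} {Q₃ Q₁ : B} (c₃ : L.obj P₃ ⟶ Q₃) (c₁ : L.obj P₁ ⟶ Q₁)
    (e' : Ext.{w} P₃ P₁ 1) (e : Ext.{w'} Q₃ Q₁ 1)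
    (h : (e'.mapExactFunctor L).comp (Ext.mk₀ c₁) (add_zero 1) = (Ext.mk₀ c₃).comp e (zero_add 1))
    (n : ℕ) (x : Ext.{w} a P₃ n) :
    ((Ext.mk₀ ι).comp ((x.comp e' rfl).mapExactFunctor L) (zero_add (n + 1))).comp (Ext.mk₀ c₁)
        (add_zero (n + 1)) =
      (((Ext.mk₀ ι).comp (x.mapExactFunctor L) (zero_add n)).comp (Ext.mk₀ c₃) (add_zero n)).comp e
        rfl := by
  rw [Ext.mapExactFunctor_comp, Ext.comp_assoc_of_third_deg_zero, Ext.comp_assoc_of_third_deg_zero,
    h, Ext.comp_assoc_of_third_deg_zero]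
  rw [Ext.comp_assoc (Ext.mk₀ ι) ((x.mapExactFunctor L).comp (Ext.mk₀ c₃) (add_zero n)) e
    (zero_add n) rfl (by omega), Ext.comp_assoc_of_second_deg_zero]

variable [R.Additive]

/-- `S.map R`, reducibly -/
abbrev RS (R : B ⥤ A) [R.Additive] (S : ShortComplex B) : ShortComplex A :=
  ShortComplex.mk (R.map S.f) (R.map S.g) (by rw [← R.map_comp, S.zero, R.map_zero])

lemma Φ_delta (S : ShortComplex B) (hS : S.ShortExact) (hRS : (RS R S).ShortExact) (n : ℕ)
    (x : Ext.{w} a (R.obj S.X₃) n) :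
    Φ adj ι S.X₁ (n + 1) (x.comp hRS.extClass rfl) = (Φ adj ι S.X₃ n x).comp hS.extClass rfl := by
  let φ : (RS R S).map L ⟶ S :=
    { τ₁ := adj.counit.app S.X₁
      τ₂ := adj.counit.app S.X₂
      τ₃ := adj.counit.app S.X₃
      comm₁₂ := (adj.counit_naturality S.f).symm
      comm₂₃ := (adj.counit_naturality S.g).symm }
  have hnat := ShortComplex.ShortExact.extClass_naturality (hRS.map_of_exact L) hS φ
  have h2 : hRS.extClass.mapExactFunctor L = (hRS.map_of_exact L).extClass :=
    Ext.mapExactFunctor_extClass L hRS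
  exact key ι (adj.counit.app S.X₃) (adj.counit.app S.X₁) hRS.extClass hS.extClass
    ((congrArg (fun z => z.comp (Ext.mk₀ (adj.counit.app S.X₁)) (add_zero 1)) h2).trans hnat) n x

omit [R.Additive] in
lemma Φ_zero_mk₀ (G : B) (h : a ⟶ R.obj G) :
    Φ adj ι G 0 (Ext.mk₀ h) = Ext.mk₀ (ι ≫ L.map h ≫ adj.counit.app G) := by
  rw [Φ_apply, Ext.mapExactFunctor_mk₀, Ext.mk₀_comp_mk₀, Ext.mk₀_comp_mk₀, Category.assoc]

omit [R.Additive] in
lemma Φ_zero_bijective [IsIso ι] (G : B) : Function.Bijective (Φ adj ι G 0) := by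
  constructor
  · intro x y hxy
    obtain ⟨h, rfl⟩ := (Ext.mk₀_bijective a (R.obj G)).2 x
    obtain ⟨h', rfl⟩ := (Ext.mk₀_bijective a (R.obj G)).2 y
    rw [Φ_zero_mk₀, Φ_zero_mk₀] at hxy
    have h1 := (Ext.mk₀_bijective b G).1 hxy
    rw [cancel_epi] at h1
    have h2 : (adj.homEquiv a G).symm h = (adj.homEquiv a G).symm h' :=
      (adj.homEquiv_counit _ _ _).trans (h1.trans (adj.homEquiv_counit _ _ _).symm)
    rw [(adj.homEquiv a G).symm.injective h2]
  · intro y
    obtain ⟨k, rfl⟩ := (Ext.mk₀_bijective b G).2 y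
    refine ⟨Ext.mk₀ (adj.homEquiv a G (inv ι ≫ k)), ?_⟩
    have h2 : L.map (adj.homEquiv a G (inv ι ≫ k)) ≫ adj.counit.app G = inv ι ≫ k :=
      (adj.homEquiv_counit _ _ _).symm.trans (Equiv.symm_apply_apply _ _)
    rw [Φ_zero_mk₀, h2, IsIso.hom_inv_id_assoc]

section Shift

open Groth.Agent.Lib.Helper47.RDerLES

variable [EnoughInjectives B] [PreservesFiniteLimits R]

/-- vanishing of the higher right derived functors of `R` on `G` -/
def Acyc (R : B ⥤ A) [R.Additive] (G : B) : Prop :=
  ∀ q : ℕ, IsZero ((R.rightDerived (q + 1)).obj G)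

omit [PreservesFiniteLimits R] in
lemma acyc_of_injective (I : B) [Injective I] : Acyc R I :=
  fun q => Functor.isZero_rightDerived_obj_injective_succ R q I

omit [PreservesFiniteLimits R] in
lemma acyc_X₃ (S : ShortComplex B) (hS : S.ShortExact) [Injective S.X₂] (h : Acyc R S.X₁) :
    Acyc R S.X₃ := by
  intro q
  have e3 := (derivedLES R).exact₃ S hS (q + 1) (q + 2) rfl
  exact e3.isZero_X₂ ((acyc_of_injective (R := R) S.X₂ q).eq_of_src _ _)
    ((h (q + 1)).eq_of_tgt _ _)

lemma shortExact_map (S : ShortComplex B) (hS : S.ShortExact)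
    (h : IsZero ((R.rightDerived 1).obj S.X₁)) : (RS R S).ShortExact := by
  have hlex := ((Functor.preservesFiniteLimits_tfae R).out 3 0).1
    (inferInstance : PreservesFiniteLimits R)
  obtain ⟨hex, hmono⟩ := hlex S hS
  have e3 := (derivedLES R).exact₃ S hS 0 1 rfl
  have hepi0 : Epi ((R.rightDerived 0).map S.g) := e3.epi_f (h.eq_of_tgt _ _)
  have hnat := R.rightDerivedZeroIsoSelf.hom.naturality S.g
  have hepi : Epi (R.map S.g) := by
    have h2 : R.map S.g = R.rightDerivedZeroIsoSelf.inv.app S.X₂ ≫ (R.rightDerived 0).map S.g ≫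
        R.rightDerivedZeroIsoSelf.hom.app S.X₃ := by
      rw [hnat, Iso.inv_hom_id_app_assoc]
    rw [h2]
    infer_instance
  exact { exact := hex, mono_f := hmono, epi_g := hepi }

/-- the short exact sequence `0 → G → I → I/G → 0` with `I` the chosen injective hull -/
noncomputable abbrev SI (G : B) : ShortComplex B :=
  ShortComplex.mk (Injective.ι G) (cokernel.π (Injective.ι G)) (cokernel.condition _)

omit [HasExt.{w'} B] in
lemma SI_shortExact (G : B) : (SI G).ShortExact :=
  { exact := ShortComplex.exact_cokernel _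
    mono_f := (inferInstance : Mono (Injective.ι G))
    epi_g := (inferInstance : Epi (cokernel.π (Injective.ι G))) }

instance injective_SI_X₂ (G : B) : Injective (SI G).X₂ :=
  (inferInstance : Injective (Injective.under G))

include adj in
omit [HasExt.{w} A] [HasExt.{w'} B] [R.Additive] [PreservesFiniteLimits R] [EnoughInjectives B]
  [PreservesFiniteColimits L] [L.Additive] in
lemma injective_R_obj (I : B) [Injective I] : Injective (R.obj I) :=
  Injective.injective_of_adjoint adj I

/-- degenerate Leray: the comparison maps are bijective on `R`-acyclic objects -/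
theorem Φ_bijective [IsIso ι] :
    ∀ (n : ℕ) (G : B), Acyc R G → Function.Bijective (Φ adj ι G n) := by
  intro n
  induction n with
  | zero => exact fun G _ => Φ_zero_bijective adj ι G
  | succ n ih =>
    intro G hG
    have hS := SI_shortExact G
    have hRS : (RS R (SI G)).ShortExact := shortExact_map (SI G) hS (hG 0)
    have ihQ := ih (SI G).X₃ (acyc_X₃ (SI G) hS hG)
    have ihI := ih (SI G).X₂ (acyc_of_injective _)
    have hRI : Injective (R.obj (SI G).X₂) := injective_R_obj adj _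
    constructor
    · rw [injective_iff_map_eq_zero]
      intro x hx
      obtain ⟨y', rfl⟩ := Ext.covariant_sequence_exact₁ a hRS x
        (Ext.eq_zero_of_injective _) (rfl : n + 1 = n + 1)
      rw [Φ_delta adj ι (SI G) hS hRS] at hx
      obtain ⟨m, hm⟩ := Ext.covariant_sequence_exact₃ b hS _ rfl hx
      obtain ⟨m', rfl⟩ := ihI.2 m
      rw [← Φ_natural] at hm
      have h3 := ihQ.1 hm
      rw [← h3]
      exact (Ext.comp_assoc_of_second_deg_zero _ _ _ _).trans
        ((congrArg (fun z => m'.comp z rfl) hRS.comp_extClass).trans (Ext.comp_zero _ _ _ _ _))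
    · intro z
      obtain ⟨y, rfl⟩ := Ext.covariant_sequence_exact₁ b hS z
        (Ext.eq_zero_of_injective _) (rfl : n + 1 = n + 1)
      obtain ⟨y', rfl⟩ := ihQ.2 y
      exact ⟨y'.comp hRS.extClass rfl, Φ_delta adj ι (SI G) hS hRS n y'⟩

end Shift

end Groth.Agent.Lib.Helper47.ExtAdjShift
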