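import Mathlib

/-!
# Objectwise injective embeddings of diagrams (helper47)
Every diagram `F : I ⥤ D` in an abelian category with enough injectives and products embeds into a
diagram all of whose objects are injective.
-/

set_option autoImplicit false
set_option linter.unusedSectionVars false
universe v u
open CategoryTheory CategoryTheory.Limits Opposite

namespace Groth.Agent.Lib.Helper47.DiagInj

variable {I : Type v} [SmallCategory I] {D : Type u} [Category.{v} D] [Abelian D]
  [EnoughInjectives D] [HasProducts.{v} D] (F : I ⥤ D)

/-- the `i`-th coinduced diagram -/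
noncomputable abbrev G₀ (i : I) : I ⥤ D :=
  (evaluationRightAdjoint D i).obj (Injective.under (F.obj i))

/-- the objectwise injective diagram -/
noncomputable abbrev G : I ⥤ D := ∏ᶜ (G₀ F)

/-- the embedding -/
noncomputable def emb : F ⟶ G F :=
  Pi.lift (fun i => (evaluationAdjunctionLeft D i).homEquiv F _ (Injective.ι (F.obj i)))

/-- projection to the identity factor -/
noncomputable def pr (k : I) : (G₀ F k).obj k ⟶ Injective.under (F.obj k) :=
  Pi.π (fun _ : k ⟶ k => Injective.under (F.obj k)) (𝟙 k)

lemma emb_fac (k : I) :
    (emb F).app k ≫ (Pi.π (G₀ F) k).app k ≫ pr F k = Injective.ι (F.obj k) := by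
  have h1 : emb F ≫ Pi.π (G₀ F) k =
      (evaluationAdjunctionLeft D k).homEquiv F _ (Injective.ι (F.obj k)) := Pi.lift_π _ _
  have h2 : (emb F).app k ≫ (Pi.π (G₀ F) k).app k =
      ((evaluationAdjunctionLeft D k).homEquiv F _ (Injective.ι (F.obj k))).app k :=
    congrArg (fun t => NatTrans.app t k) h1
  have h3 : ((evaluationAdjunctionLeft D k).homEquiv F _ (Injective.ι (F.obj k))).app k ≫ pr F k =
      Injective.ι (F.obj k) := by
    have : ((evaluationAdjunctionLeft D k).homEquiv F _ (Injective.ι (F.obj k))).app k =
        Pi.lift fun g : k ⟶ k => F.map g ≫ Injective.ι (F.obj k) := by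
      simp [evaluationAdjunctionLeft, Adjunction.mkOfHomEquiv_homEquiv] <;> rfl
    rw [this]
    refine (Pi.lift_π _ _).trans ?_
    simp
  exact (Category.assoc _ _ _).symm.trans ((congrArg (· ≫ pr F k) h2).trans h3)

instance mono_emb_app (k : I) : Mono ((emb F).app k) :=
  mono_of_mono_fac (emb_fac F k)

instance mono_emb : Mono (emb F) := NatTrans.mono_of_mono_app _

instance injective_G₀_obj (i k : I) : Injective ((G₀ F i).obj k) :=
  (inferInstance : Injective (∏ᶜ fun _ : k ⟶ i => Injective.under (F.obj i)))

instance injective_G_obj (k : I) : Injective ((G F).obj k) := by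
  have e : (G F).obj k ≅ ∏ᶜ (fun i => (G₀ F i).obj k) :=
    PreservesProduct.iso ((evaluation I D).obj k) (G₀ F)
  exact Injective.of_iso e.symm inferInstance

end Groth.Agent.Lib.Helper47.DiagInj
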