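import Mathlib
import Groth.Agent.Lib.Helper47.DiagInj

/-!
# `Ext^p(X, -)` and filtered colimits: the dimension-shifting induction (helper47)
If `Hom(X, -)` commutes with `I`-shaped filtered colimits (elementwise), `colim` is exact, and
`Ext^{p+1}(X, colim G) = 0` for every diagram `G` of injectives, then every `Ext^p(X, -)` commutes
with `I`-shaped colimits (elementwise).
-/

set_option autoImplicit false
set_option linter.unusedSectionVars false
universe w v u
open CategoryTheory CategoryTheory.Limits Opposite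

namespace Groth.Agent.Lib.Helper47.ExtFilCol

open Abelian

variable {A : Type u} [Category.{v} A] [Abelian A] [HasExt.{w} A]
  {I : Type v} [SmallCategory I] [IsFiltered I] [HasColimitsOfShape I A]
  [HasExactColimitsOfShape I A] (X : A)

/-- every class over the colimit comes from a stage -/
def Surj (p : ℕ) (F : I ⥤ A) : Prop :=
  ∀ z : Ext.{w} X (colimit F) p, ∃ (i : I) (x : Ext.{w} X (F.obj i) p),
    x.comp (Ext.mk₀ (colimit.ι F i)) (add_zero p) = z

/-- a class dying in the colimit dies at a later stage -/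
def Inj (p : ℕ) (F : I ⥤ A) : Prop :=
  ∀ (i : I) (x : Ext.{w} X (F.obj i) p),
    x.comp (Ext.mk₀ (colimit.ι F i)) (add_zero p) = 0 →
    ∃ (k : I) (f : i ⟶ k), x.comp (Ext.mk₀ (F.map f)) (add_zero p) = 0

/-- the comparison from a stage to the colimit as a natural transformation -/
noncomputable def evToColim (i : I) : (evaluation I A).obj i ⟶ (colim : (I ⥤ A) ⥤ A) where
  app F := colimit.ι F i
  naturality F G α := by simp

lemma δ_nat {S S' : ShortComplex A} (hS : S.ShortExact) (hS' : S'.ShortExact) (φ : S ⟶ S')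
    (n₀ n₁ : ℕ) (h : n₀ + 1 = n₁) (x : Ext.{w} X S.X₃ n₀) :
    (x.comp (Ext.mk₀ φ.τ₃) (add_zero n₀)).comp hS'.extClass h =
      (x.comp hS.extClass h).comp (Ext.mk₀ φ.τ₁) (add_zero n₁) := by
  rw [Ext.comp_assoc_of_second_deg_zero, ← ShortComplex.ShortExact.extClass_naturality hS hS' φ,
    Ext.comp_assoc_of_third_deg_zero]

lemma sub_comp {X Y Z : A} {n m q : ℕ} (a b : Ext.{w} X Y n) (c : Ext.{w} Y Z m) (h : n + m = q) :
    (a - b).comp c h = a.comp c h - b.comp c h := by
  rw [sub_eq_add_neg, Ext.add_comp, Ext.neg_comp, ← sub_eq_add_neg]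

variable (S : ShortComplex (I ⥤ A)) (hS : S.ShortExact)

include hS in
lemma shortExact_ev (i : I) : (S.map ((evaluation I A).obj i)).ShortExact := hS.map_of_exact _

include hS in
lemma shortExact_colim : (S.map (colim : (I ⥤ A) ⥤ A)).ShortExact := hS.map_of_exact _

include hS in
lemma surj_step (p : ℕ) (hV : ∀ z : Ext.{w} X (colimit S.X₂) (p + 1), z = 0)
    (hs3 : Surj X p S.X₃) : Surj X (p + 1) S.X₁ := by
  intro z
  have hc := shortExact_colim S hS
  obtain ⟨y, hy⟩ := Ext.covariant_sequence_exact₁ X hc z (hV _) rfl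
  obtain ⟨i, y', rfl⟩ := hs3 y
  refine ⟨i, y'.comp (shortExact_ev S hS i).extClass rfl, ?_⟩
  exact (δ_nat X (shortExact_ev S hS i) hc (S.mapNatTrans (evToColim i)) p (p + 1) rfl y').symm.trans
    hy

include hS in
lemma inj_step (p : ℕ) (hG : ∀ (i : I) (x : Ext.{w} X (S.X₂.obj i) (p + 1)), x = 0)
    (hs2 : Surj X p S.X₂) (hi3 : Inj X p S.X₃) : Inj X (p + 1) S.X₁ := by
  intro i x hx
  have hc := shortExact_colim S hS
  have hi := shortExact_ev S hS i
  obtain ⟨y, rfl⟩ : ∃ y : Ext.{w} X (S.X₃.obj i) p, y.comp hi.extClass rfl = x :=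
    Ext.covariant_sequence_exact₁ X hi x (hG i _) rfl
  have h1 : (y.comp (Ext.mk₀ (colimit.ι S.X₃ i)) (add_zero p)).comp hc.extClass rfl = 0 :=
    (δ_nat X hi hc (S.mapNatTrans (evToColim i)) p (p + 1) rfl y).trans hx
  obtain ⟨w, hw⟩ : ∃ w : Ext.{w} X (colimit S.X₂) p, w.comp (Ext.mk₀ (colimMap S.g)) (add_zero p) =
      y.comp (Ext.mk₀ (colimit.ι S.X₃ i)) (add_zero p) :=
    Ext.covariant_sequence_exact₃ X hc _ rfl h1
  obtain ⟨j, wj, rfl⟩ := hs2 w
  obtain ⟨k, f, g, -⟩ : ∃ (k : I) (f : i ⟶ k) (g : j ⟶ k), True :=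
    ⟨IsFiltered.max i j, IsFiltered.leftToMax i j, IsFiltered.rightToMax i j, trivial⟩
  have hw' : (wj.comp (Ext.mk₀ (colimit.ι S.X₂ j)) (add_zero p)).comp
      (Ext.mk₀ (colimMap S.g)) (add_zero p) =
      y.comp (Ext.mk₀ (colimit.ι S.X₃ i)) (add_zero p) := hw
  obtain ⟨l, h, hl⟩ := hi3 k (y.comp (Ext.mk₀ (S.X₃.map f)) (add_zero p) -
      (wj.comp (Ext.mk₀ (S.X₂.map g)) (add_zero p)).comp (Ext.mk₀ (S.g.app k)) (add_zero p)) (by
    have hcat : (S.X₂.map g ≫ S.g.app k) ≫ colimit.ι S.X₃ k =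
        colimit.ι S.X₂ j ≫ colimMap S.g := by
      rw [ι_colimMap, S.g.naturality, Category.assoc, colimit.w]
    rw [sub_comp, sub_eq_zero]
    simp only [Ext.comp_assoc_of_third_deg_zero, Ext.mk₀_comp_mk₀]
    rw [colimit.w, ← hw', hcat]
    simp only [Ext.comp_assoc_of_third_deg_zero, Ext.mk₀_comp_mk₀])
  refine ⟨l, f ≫ h, ?_⟩
  have hll := shortExact_ev S hS l
  have h2 := δ_nat X hi hll (S.mapNatTrans ((evaluation I A).map (f ≫ h))) p (p + 1) rfl y
  refine h2.symm.trans ?_
  rw [sub_comp, sub_eq_zero] at hl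
  have h3 : y.comp (Ext.mk₀ (S.X₃.map (f ≫ h))) (add_zero p) =
      (wj.comp (Ext.mk₀ (S.X₂.map (g ≫ h))) (add_zero p)).comp (Ext.mk₀ (S.g.app l))
        (add_zero p) := by
    simp only [Ext.comp_assoc_of_third_deg_zero, Ext.mk₀_comp_mk₀] at hl ⊢
    rw [Functor.map_comp, hl, Functor.map_comp, Category.assoc, Category.assoc,
      NatTrans.naturality]
  have h4 : (Ext.mk₀ (S.g.app l)).comp hll.extClass (zero_add 1) = 0 := hll.comp_extClass
  change (y.comp (Ext.mk₀ (S.X₃.map (f ≫ h))) (add_zero p)).comp hll.extClass rfl = 0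
  rw [h3, Ext.comp_assoc_of_second_deg_zero, h4, Ext.comp_zero]

variable [EnoughInjectives A] [HasProducts.{v} A]

/-- the dimension-shifting induction -/
theorem surj_inj_all
    (hV : ∀ G : I ⥤ A, (∀ i, Injective (G.obj i)) →
      ∀ (p : ℕ) (z : Ext.{w} X (colimit G) (p + 1)), z = 0)
    (h0s : ∀ F : I ⥤ A, Surj X 0 F) (h0i : ∀ F : I ⥤ A, Inj X 0 F) :
    ∀ (p : ℕ) (F : I ⥤ A), Surj X p F ∧ Inj X p F := by
  intro p
  induction p with
  | zero => exact fun F => ⟨h0s F, h0i F⟩
  | succ p ih =>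
    intro F
    let S : ShortComplex (I ⥤ A) :=
      ShortComplex.mk (DiagInj.emb F) (cokernel.π (DiagInj.emb F)) (cokernel.condition _)
    have hS : S.ShortExact :=
      { exact := S.exact_of_g_is_cokernel (cokernelIsCokernel _)
        mono_f := DiagInj.mono_emb F
        epi_g := inferInstanceAs (Epi (cokernel.π (DiagInj.emb F))) }
    exact ⟨surj_step X S hS p (hV _ (fun i => DiagInj.injective_G_obj F i) p) (ih _).1,
      inj_step X S hS p
        (fun i x => by
          have : Injective (S.X₂.obj i) := DiagInj.injective_G_obj F i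
          exact Ext.eq_zero_of_injective x)
        (ih _).1 (ih _).2⟩

omit [HasExt.{w} A] [IsFiltered I] [HasColimitsOfShape I A] [HasExactColimitsOfShape I A]
  [EnoughInjectives A] [HasProducts.{v} A] in
theorem preservesColimit_extFunctorObj {A : Type u} [Category.{v} A] [Abelian A] [HasExt.{v} A]
    {I : Type v} [SmallCategory I] [IsFiltered I] [HasColimitsOfShape I A] (X : A) (p : ℕ)
    (F : I ⥤ A) (hs : Surj X p F) (hi : Inj X p F) :
    PreservesColimit F (extFunctorObj.{v} X p) := by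
  refine preservesColimit_of_preserves_colimit_cocone (colimit.isColimit F) ?_
  have : ReflectsColimit (F ⋙ extFunctorObj.{v} X p) (forget AddCommGrpCat.{v}) :=
    reflectsColimit_of_reflectsIsomorphisms _ _
  refine isColimitOfReflects (forget AddCommGrpCat.{v}) ?_
  refine Types.FilteredColimit.isColimitOf' _ _ ?_ ?_
  · intro z
    obtain ⟨i, x, hx⟩ := hs z
    exact ⟨i, x, hx.symm⟩
  · intro i (x : Ext.{v} X (F.obj i) p) (y : Ext.{v} X (F.obj i) p) h
    obtain ⟨k, f, hk⟩ := hi i (x - y) (by rw [sub_comp, sub_eq_zero]; exact h)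
    refine ⟨k, f, ?_⟩
    rw [sub_comp, sub_eq_zero] at hk
    exact hk

end Groth.Agent.Lib.Helper47.ExtFilCol
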