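import Groth.Agent.Lib.Helper47.FilCol4
import Groth.Agent.Lib.Helper47.ExtFilCol

/-!
# Cohomology over objects of `B` commutes with filtered colimits of sheaves (helper47)
-/

set_option autoImplicit false
set_option linter.unusedSectionVars false
universe u
open CategoryTheory CategoryTheory.Limits Opposite

namespace Groth.Agent.Lib.Helper47.FilCol

open Groth.Agent.Lib.Cohomology.SiteCech Groth.Agent.Lib.Helper47.CechFree
  Groth.Agent.Lib.Helper47.CechDelta Groth.Agent.Lib.Helper47.CechEdgeLib CechEdge Abelian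

variable {C : Type u} [SmallCategory C] [HasPullbacks C] {J : GrothendieckTopology C}
  {I : Type u} [SmallCategory I] [IsFiltered I]

/-- the presheaf colimit cocone -/
noncomputable abbrev preCocone (F : I ⥤ Sheaf J AddCommGrpCat.{u}) :
    Cocone (F ⋙ sheafToPresheaf J AddCommGrpCat.{u}) := colimit.cocone _

/-- comparison of the sheafified presheaf colimit with the colimit of sheaves -/
noncomputable def shfIso (F : I ⥤ Sheaf J AddCommGrpCat.{u}) :
    shf J (preCocone F).pt ≅ colimit F :=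
  (Sheaf.isColimitSheafifyCocone _ (colimit.isColimit _)).coconePointUniqueUpToIso
    (colimit.isColimit F)

/-- the structure maps to the sheafified presheaf colimit -/
noncomputable def ιs (F : I ⥤ Sheaf J AddCommGrpCat.{u}) (i : I) :
    F.obj i ⟶ shf J (preCocone F).pt := (Sheaf.sheafifyCocone (preCocone F)).ι.app i

lemma ι_shfIso (F : I ⥤ Sheaf J AddCommGrpCat.{u}) (i : I) :
    ιs F i ≫ (shfIso F).hom = colimit.ι F i :=
  IsColimit.comp_coconePointUniqueUpToIso_hom _ _ _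

lemma ιs_eq (F : I ⥤ Sheaf J AddCommGrpCat.{u}) (i : I) :
    ιs F i = colimit.ι F i ≫ (shfIso F).inv := by
  rw [← ι_shfIso, Category.assoc, Iso.hom_inv_id, Category.comp_id]

lemma ιs_hom_app (F : I ⥤ Sheaf J AddCommGrpCat.{u}) (i : I) (U : C)
    (ti : (F.obj i).obj.obj (op U)) :
    (ιs F i).hom.app (op U) ti =
      (toSheafify J (preCocone F).pt).app (op U) (((preCocone F).ι.app i).app (op U) ti) := by
  have h : (ιs F i).hom = (preCocone F).ι.app i ≫ toSheafify J (preCocone F).pt :=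
    Sheaf.sheafifyCocone_ι_app_val _ _
  rw [h]
  rfl

lemma comp_inv_hom {X Y Z : Sheaf J AddCommGrpCat.{u}} (e : Y ≅ Z) (n : ℕ) (z : Ext.{u} X Z n) :
    (z.comp (Ext.mk₀ e.inv) (add_zero n)).comp (Ext.mk₀ e.hom) (add_zero n) = z := by
  rw [Ext.comp_assoc_of_third_deg_zero, Ext.mk₀_comp_mk₀, Iso.inv_hom_id, Ext.comp_mk₀_id]

section Cov

variable (B : Set C) (Cov : ∀ (U : C) (ι : Type u), (ι → Over U) → Prop)
  (h1 : ∀ (U : C) (ι : Type u) (Y : ι → Over U), Cov U ι Y → Finite ι ∧ U ∈ B ∧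
    Sieve.ofArrows (fun i => (Y i).left) (fun i => (Y i).hom) ∈ J U ∧
    ∀ (p : ℕ) (a : Fin (p + 1) → ι), (∏ᶜ fun k => Y (a k)).left ∈ B)
  (h2 : ∀ U ∈ B, ∀ T ∈ J U, ∃ (ι : Type u) (Y : ι → Over U), Cov U ι Y ∧ ∀ i, T.arrows (Y i).hom)

include h1 h2 in
lemma ext_colimit_injective_eq_zero (G : I ⥤ Sheaf J AddCommGrpCat.{u})
    (hG : ∀ i, Injective (G.obj i)) (U : C) (hU : U ∈ B) (p : ℕ)
    (z : Ext.{u} (CohCx.freeSheaf J U) (colimit G) (p + 1)) : z = 0 := by
  have hs : Subsingleton (CohSite.HU (shf J (preCocone G).pt) (p + 1) U) :=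
    subsingleton_HU_shf_colimit (colimit.isColimit _) B Cov h1 h2
      (fun k V ι Y _ n => isZero_cechH_of_injective_sheaf Y J (G.obj k) n) U hU p
  have h0 : z.comp (Ext.mk₀ (shfIso G).inv) (add_zero _) = 0 := @Subsingleton.elim _ hs _ _
  rw [← comp_inv_hom (shfIso G) _ z, h0, Ext.zero_comp]

include h1 h2 in
lemma surj_zero (F : I ⥤ Sheaf J AddCommGrpCat.{u}) (U : C) (hU : U ∈ B) :
    ExtFilCol.Surj (CohCx.freeSheaf J U) 0 F := by
  intro z
  have hE : IsColimit (preCocone F) := colimit.isColimit _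
  obtain ⟨t, ht⟩ := (toSheafify_colimit_bijective hE B Cov h1 h2 U hU).2
    ((sectH0 J U _).symm (z.comp (Ext.mk₀ (shfIso F).inv) (add_zero 0)))
  obtain ⟨i, ti, rfl⟩ := exists_rep hE U t
  refine ⟨i, sectH0 J U (F.obj i) ti, ?_⟩
  have h4 := ιs_hom_app F i U ti
  have h3 : HUmap (ιs F i) 0 U (sectH0 J U (F.obj i) ti) =
      z.comp (Ext.mk₀ (shfIso F).inv) (add_zero 0) :=
    (sectH0_naturality _ ti).trans ((congrArg (sectH0 J U _) (h4.trans ht)).trans
      ((sectH0 J U _).apply_symm_apply _))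
  let x : Ext.{u} (CohCx.freeSheaf J U) (F.obj i) 0 := sectH0 J U (F.obj i) ti
  have h5 : x.comp (Ext.mk₀ (colimit.ι F i)) (add_zero 0) =
      (x.comp (Ext.mk₀ (ιs F i)) (add_zero 0)).comp
        (Ext.mk₀ (shfIso F).hom) (add_zero 0) := by
    rw [Ext.comp_assoc_of_third_deg_zero, Ext.mk₀_comp_mk₀, ι_shfIso]
  exact h5.trans ((congrArg (fun t => Ext.comp t (Ext.mk₀ (shfIso F).hom) (add_zero 0)) h3).trans
    (comp_inv_hom _ _ _))

include h1 h2 in
lemma inj_zero (F : I ⥤ Sheaf J AddCommGrpCat.{u}) (U : C) (hU : U ∈ B) :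
    ExtFilCol.Inj (CohCx.freeSheaf J U) 0 F := by
  intro i x hx
  have hE : IsColimit (preCocone F) := colimit.isColimit _
  have h0 : x.comp (Ext.mk₀ (ιs F i)) (add_zero 0) = 0 := by
    rw [ιs_eq, ← Ext.mk₀_comp_mk₀, ← Ext.comp_assoc_of_third_deg_zero, hx, Ext.zero_comp]
  obtain ⟨ti, rfl⟩ : ∃ ti, sectH0 J U (F.obj i) ti = x := (sectH0 J U (F.obj i)).surjective x
  have h3 : sectH0 J U _ ((ιs F i).hom.app (op U) ti) = 0 :=
    (sectH0_naturality _ ti).symm.trans h0
  have h4 := ιs_hom_app F i U ti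
  have h5 : (toSheafify J (preCocone F).pt).app (op U)
      (((preCocone F).ι.app i).app (op U) ti) = 0 :=
    h4.symm.trans ((sectH0 J U _).injective (h3.trans (map_zero _).symm))
  have h6 : ((preCocone F).ι.app i).app (op U) ti = 0 :=
    (toSheafify_colimit_bijective hE B Cov h1 h2 U hU).1 (h5.trans (map_zero _).symm)
  obtain ⟨k, f, hf⟩ := exists_map_eq_zero hE U i ti h6
  refine ⟨k, f, ?_⟩
  exact (sectH0_naturality (F.map f) ti).trans ((congrArg (sectH0 J U _) hf).trans (map_zero _))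

include h1 h2 in
/-- `H^p(U, -)` commutes with filtered colimits for `U ∈ B` -/
theorem preservesColimit_H (U : C) (hU : U ∈ B) (p : ℕ) (F : I ⥤ Sheaf J AddCommGrpCat.{u}) :
    PreservesColimit F ((Sheaf.cohomologyPresheafFunctor J p).flip.obj (op U)) := by
  have key := ExtFilCol.surj_inj_all (I := I) (CohCx.freeSheaf J U)
    (fun G hG q z => ext_colimit_injective_eq_zero B Cov h1 h2 G hG U hU q z)
    (fun F => surj_zero B Cov h1 h2 F U hU) (fun F => inj_zero B Cov h1 h2 F U hU) p F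
  exact ExtFilCol.preservesColimit_extFunctorObj (CohCx.freeSheaf J U) p F key.1 key.2

end Cov

end Groth.Agent.Lib.Helper47.FilCol
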