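import Mathlib

/-!
# Cohomology of a small site with a terminal object is the cohomology of the terminal object (helper47)
-/

set_option autoImplicit false
universe w v u
open CategoryTheory CategoryTheory.Limits Opposite Abelian

namespace Groth.Agent.Lib.Helper47.SiteTransport

variable {D : Type w} [SmallCategory D] (K : GrothendieckTopology D)

/-- the augmentation of a free abelian group -/
noncomputable def augEquiv (S : Type w) [Unique S] : FreeAbelianGroup S ≃+ ULift.{w} ℤ :=
  (FreeAbelianGroup.uniqueEquiv S).trans AddEquiv.ulift.symm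

lemma augEquiv_of (S : Type w) [Unique S] (s : S) :
    augEquiv S (FreeAbelianGroup.of s) = ULift.up 1 := by
  apply ULift.ext
  simp [augEquiv, FreeAbelianGroup.uniqueEquiv]
  rfl

/-- the free abelian presheaf on the presheaf represented by a terminal object is constant -/
noncomputable def freeYonedaTerminalIso {T : D} (hT : IsTerminal T) :
    yoneda.obj T ⋙ AddCommGrpCat.free ≅
      (Functor.const Dᵒᵖ).obj (AddCommGrpCat.of (ULift.{w} ℤ)) :=
  NatIso.ofComponents
    (fun V =>
      haveI : Unique (V.unop ⟶ T) := ⟨⟨hT.from _⟩, fun _ => hT.hom_ext _ _⟩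
      (augEquiv (V.unop ⟶ T)).toAddCommGrpIso)
    (by
      intro V V' f
      apply AddCommGrpCat.hom_ext
      apply FreeAbelianGroup.lift_ext
      intro g
      let _ : Unique (V.unop ⟶ T) := ⟨⟨hT.from _⟩, fun _ => hT.hom_ext _ _⟩
      let _ : Unique (V'.unop ⟶ T) := ⟨⟨hT.from _⟩, fun _ => hT.hom_ext _ _⟩
      change augEquiv (V'.unop ⟶ T) (FreeAbelianGroup.map (fun g => f.unop ≫ g)
        (FreeAbelianGroup.of g)) = augEquiv (V.unop ⟶ T) (FreeAbelianGroup.of g)
      rw [FreeAbelianGroup.map_of_apply, augEquiv_of, augEquiv_of])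

/-- the free abelian sheaf on a terminal object is the constant sheaf `ℤ` -/
noncomputable def freeSheafTerminalIso {T : D} (hT : IsTerminal T) :
    (yoneda ⋙ (Functor.whiskeringRight _ _ _).obj AddCommGrpCat.free ⋙
      presheafToSheaf K AddCommGrpCat.{w}).obj T ≅
      (constantSheaf K AddCommGrpCat.{w}).obj (AddCommGrpCat.of (ULift.{w} ℤ)) :=
  (presheafToSheaf K AddCommGrpCat.{w}).mapIso (freeYonedaTerminalIso hT)


/-- `Ext` functors out of isomorphic objects are isomorphic -/
noncomputable def extFunctorObjIso {A : Type u} [Category.{v} A] [Abelian A] [HasExt.{w} A]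
    {X X' : A} (a : X' ≅ X) (n : ℕ) : extFunctorObj X n ≅ extFunctorObj X' n :=
  (extFunctor n).mapIso a.op

variable {D : Type w} [SmallCategory D] (K : GrothendieckTopology D)
  [HasExt.{w} (Sheaf K AddCommGrpCat.{w})]

noncomputable def functorHIsoExt (n : ℕ) :
    Sheaf.functorH K n ≅ extFunctorObj
      ((constantSheaf K AddCommGrpCat.{w}).obj (AddCommGrpCat.of (ULift.{w} ℤ))) n :=
  Iso.refl _

noncomputable def cohomologyPresheafFunctorIsoExt (n : ℕ) (T : D) :
    (Sheaf.cohomologyPresheafFunctor K n).flip.obj (op T) ≅ extFunctorObj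
      ((yoneda ⋙ (Functor.whiskeringRight _ _ _).obj AddCommGrpCat.free ⋙
      presheafToSheaf K AddCommGrpCat.{w}).obj T) n :=
  Iso.refl _


/-- `H^n` is `H^n` of the terminal object -/
noncomputable def functorHIsoTerminal {T : D} (hT : IsTerminal T) (n : ℕ) :
    Sheaf.functorH K n ≅ (Sheaf.cohomologyPresheafFunctor K n).flip.obj (op T) :=
  functorHIsoExt K n ≪≫ extFunctorObjIso (freeSheafTerminalIso K hT) n ≪≫
    (cohomologyPresheafFunctorIsoExt K n T).symm

end Groth.Agent.Lib.Helper47.SiteTransport
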