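import Groth.Agent.Lib.Helper47.SiteTransport
import Groth.Agent.Lib.Helper47.SiteTransport2
import Groth.Agent.Lib.Helper47.FilCol5

/-!
# Cohomology commutes with filtered colimits on a site with a small model having enough finite
coverings (helper47)
-/

set_option autoImplicit false
universe w v₁ u₁
open CategoryTheory CategoryTheory.Limits Opposite Abelian

namespace Groth.Agent.Lib.Helper47.SiteTransport

/-- cohomology of a small site with pullbacks, a terminal object in `B` and enough finite
coverings commutes with filtered colimits -/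
theorem preservesColimitsOfShape_functorH_small {D : Type w} [SmallCategory D] [HasPullbacks D]
    (K : GrothendieckTopology D) (B : Set D)
    (Cov : ∀ (U : D) (ι : Type w), (ι → Over U) → Prop)
    (h1 : ∀ (U : D) (ι : Type w) (Y : ι → Over U), Cov U ι Y → Finite ι ∧ U ∈ B ∧
      Sieve.ofArrows (fun i => (Y i).left) (fun i => (Y i).hom) ∈ K U ∧
      ∀ (p : ℕ) (a : Fin (p + 1) → ι), (∏ᶜ fun k => Y (a k)).left ∈ B)
    (h2 : ∀ U ∈ B, ∀ T ∈ K U, ∃ (ι : Type w) (Y : ι → Over U), Cov U ι Y ∧
      ∀ i, T.arrows (Y i).hom)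
    {T : D} (hT : IsTerminal T) (hB : T ∈ B) (n : ℕ)
    (I : Type w) [SmallCategory I] [IsFiltered I] :
    PreservesColimitsOfShape I
      (Sheaf.functorH K n : Sheaf K AddCommGrpCat.{w} ⥤ AddCommGrpCat.{w}) := by
  have h : PreservesColimitsOfShape I
      ((Sheaf.cohomologyPresheafFunctor K n).flip.obj (op T)) :=
    ⟨fun {F} => FilCol.preservesColimit_H B Cov h1 h2 T hB n F⟩
  exact preservesColimitsOfShape_of_natIso (functorHIsoTerminal K hT n).symm

/-- the same for a site equivalent to such a small site -/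
theorem preservesColimitsOfShape_functorH_of_cov {C : Type u₁} [Category.{v₁} C]
    (J : GrothendieckTopology C) {D : Type w} [SmallCategory D] [HasPullbacks D]
    (K : GrothendieckTopology D) (e : C ≌ D) [e.inverse.IsDenseSubsite K J]
    [HasSheafify J AddCommGrpCat.{w}] [HasExt.{w} (Sheaf J AddCommGrpCat.{w})]
    [EnoughInjectives (Sheaf J AddCommGrpCat.{w})] (B : Set D)
    (Cov : ∀ (U : D) (ι : Type w), (ι → Over U) → Prop)
    (h1 : ∀ (U : D) (ι : Type w) (Y : ι → Over U), Cov U ι Y → Finite ι ∧ U ∈ B ∧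
      Sieve.ofArrows (fun i => (Y i).left) (fun i => (Y i).hom) ∈ K U ∧
      ∀ (p : ℕ) (a : Fin (p + 1) → ι), (∏ᶜ fun k => Y (a k)).left ∈ B)
    (h2 : ∀ U ∈ B, ∀ T ∈ K U, ∃ (ι : Type w) (Y : ι → Over U), Cov U ι Y ∧
      ∀ i, T.arrows (Y i).hom)
    {T : C} (hT : IsTerminal T) (hB : e.functor.obj T ∈ B) (n : ℕ)
    (I : Type w) [SmallCategory I] [IsFiltered I] :
    PreservesColimitsOfShape I (Sheaf.functorH J n) := by
  have := preservesColimitsOfShape_functorH_small K B Cov h1 h2
    (hT.isTerminalObj e.functor T) hB n I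
  exact preservesColimitsOfShape_functorH J K e hT n I

end Groth.Agent.Lib.Helper47.SiteTransport
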