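import Groth.Prelude.Def_BigSite
import Groth.Agent.Lib.Helper1.LanFlat

set_option autoImplicit false
universe u
open CategoryTheory CategoryTheory.Limits AlgebraicGeometry Opposite TopologicalSpace

namespace Groth.Agent.Lib.Helper47.BigZar

variable (S : Scheme.{u})

/-- lift of a morphism to `S` with image in `U` to a morphism to `U`. -/
noncomputable def liftU {T : Scheme.{u}} (f : T ⟶ S) (U : S.Opens)
    (h : Set.range ⇑f ⊆ (U : Set S)) : T ⟶ (U : Scheme.{u}) :=
  IsOpenImmersion.lift U.ι f (by rw [Scheme.Opens.range_ι]; exact h)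

@[reassoc (attr := simp)]
theorem liftU_ι {T : Scheme.{u}} (f : T ⟶ S) (U : S.Opens)
    (h : Set.range ⇑f ⊆ (U : Set S)) : liftU S f U h ≫ U.ι = f :=
  IsOpenImmersion.lift_fac _ _ _

theorem range_subset_of_fac {T : Scheme.{u}} (f : T ⟶ S) (U : S.Opens) (g : T ⟶ (U : Scheme.{u}))
    (hg : g ≫ U.ι = f) : Set.range ⇑f ⊆ (U : Set S) := by
  rw [← hg, ← Scheme.Opens.range_ι]
  rintro _ ⟨x, rfl⟩
  exact ⟨g x, rfl⟩

/-- the structured arrow from `X` to the open `U`, given that the image of `X` lies in `U`. -/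
noncomputable def sa (X : Over S) (U : S.Opens) (h : Set.range ⇑X.hom ⊆ (U : Set S)) :
    StructuredArrow X (BigSite.zarIncl S) :=
  StructuredArrow.mk (Y := U)
    (Over.homMk (V := (BigSite.zarIncl S).obj U) (liftU S X.hom U h) (liftU_ι S X.hom U h))

theorem range_subset {X : Over S} (A : StructuredArrow X (BigSite.zarIncl S)) :
    Set.range ⇑X.hom ⊆ (A.right : Set S) :=
  range_subset_of_fac S X.hom A.right A.hom.left (Over.w A.hom)

theorem hom_subsingleton {X : Over S} (A B : StructuredArrow X (BigSite.zarIncl S))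
    (f g : A ⟶ B) : f = g :=
  StructuredArrow.ext _ _ (Subsingleton.elim _ _)

noncomputable def saHom {X : Over S} (U : S.Opens) (h : Set.range ⇑X.hom ⊆ (U : Set S))
    (A : StructuredArrow X (BigSite.zarIncl S)) (hU : U ≤ A.right) :
    sa S X U h ⟶ A :=
  StructuredArrow.homMk (homOfLE (show (sa S X U h).right ≤ A.right from hU)) (by
    apply Over.OverMorphism.ext
    have h1 : A.hom.left ≫ A.right.ι = X.hom := Over.w A.hom
    have h2 : (liftU S X.hom U h ≫ S.homOfLE hU) ≫ A.right.ι = X.hom := by
      rw [Category.assoc, Scheme.homOfLE_ι, liftU_ι]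
    exact (cancel_mono A.right.ι).1 (h2.trans h1.symm))

instance representablyFlat_zarIncl : RepresentablyFlat (BigSite.zarIncl S) where
  cofiltered X := by
    have : IsCofilteredOrEmpty (StructuredArrow X (BigSite.zarIncl S)) :=
      { cone_objs := fun A B =>
          ⟨sa S X (A.right ⊓ B.right) (fun x hx => ⟨range_subset S A hx, range_subset S B hx⟩),
            saHom S _ _ A inf_le_left, saHom S _ _ B inf_le_right, trivial⟩
        cone_maps := fun A B f g => ⟨A, 𝟙 A, by rw [hom_subsingleton S A B f g]⟩ }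
    exact { nonempty := ⟨sa S X ⊤ (fun x _ => trivial)⟩ }

end Groth.Agent.Lib.Helper47.BigZar
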