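import Groth.Agent.Lib.Helper47.BigZar1

set_option autoImplicit false
universe u
open CategoryTheory CategoryTheory.Limits AlgebraicGeometry Opposite TopologicalSpace

namespace Groth.Agent.Lib.Helper47.BigZar

variable (K : Precoverage Scheme.{u}) (S : Scheme.{u}) [BigSite.ZarCont K S]

attribute [local instance] CategoryTheory.Limits.reflectsLimits_of_reflectsIsomorphisms in
set_option backward.isDefEq.respectTransparency.types false in
/-- pullback from the small Zariski site to the big site is exact. -/
theorem preservesFiniteLimits_piZarPull : PreservesFiniteLimits (BigSite.piZarPull K S) := by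
  have : PreservesFilteredColimitsOfSize.{u, u} (forget AddCommGrpCat.{u + 1}) :=
    preservesFilteredColimitsOfSize_shrink.{u, u + 1, u, u + 1} _
  have : ∀ V : (Over S)ᵒᵖ, IsFiltered (CostructuredArrow (BigSite.zarIncl S).op V) := fun V =>
    IsFiltered.of_equivalence (structuredArrowOpEquivalence (BigSite.zarIncl S) (unop V))
  have : ∀ V : (Over S)ᵒᵖ, PreservesColimitsOfShape (CostructuredArrow (BigSite.zarIncl S).op V)
      (forget AddCommGrpCat.{u + 1}) := fun V =>
    PreservesFilteredColimitsOfSize.preserves_filtered_colimits _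
  have : PreservesFiniteLimits ((BigSite.zarIncl S).op.lan :
      ((S.Opens)ᵒᵖ ⥤ AddCommGrpCat.{u + 1}) ⥤ ((Over S)ᵒᵖ ⥤ AddCommGrpCat.{u + 1})) :=
    Groth.Agent.Lib.Helper1.LanFlat.lan_preservesFiniteLimits_of_flat
      (E := AddCommGrpCat.{u + 1}) (BigSite.zarIncl S)
  exact Functor.sheafPullbackConstruction.preservesFiniteLimits (BigSite.zarIncl S)
    AddCommGrpCat.{u + 1} (Opens.grothendieckTopology S) (QuotSh.J K S)

instance additive_piZarPull : (BigSite.piZarPull K S).Additive :=
  (BigSite.piZarAdj K S).left_adjoint_additive

instance preservesFiniteColimits_piZarPull : PreservesFiniteColimits (BigSite.piZarPull K S) :=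
  have := (BigSite.piZarAdj K S).leftAdjoint_preservesColimits
  inferInstance

end Groth.Agent.Lib.Helper47.BigZar
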