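import Groth.Agent.Lib.Helper47.BigZar1

set_option autoImplicit false
universe u
open CategoryTheory CategoryTheory.Limits AlgebraicGeometry Opposite TopologicalSpace

namespace Groth.Agent.Lib.Helper47.BigZar

variable (S : Scheme.{u})


theorem cover_lift_aux (U : S.Opens) (R : Sieve ((BigSite.zarIncl S).obj U))
    (hR : R ∈ QuotSh.J Scheme.zariskiPrecoverage S ((BigSite.zarIncl S).obj U)) :
    R.functorPullback (BigSite.zarIncl S) ∈ Opens.grothendieckTopology S U := by
  have hR' : Sieve.overEquiv _ R ∈ Scheme.zariskiTopology (U : Scheme.{u}) :=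
    (GrothendieckTopology.mem_over_iff _ _).1 hR
  obtain ⟨𝒰, h𝒰⟩ := Scheme.mem_grothendieckTopology_iff.1 hR'
  intro x hx
  obtain ⟨i, y, hy⟩ := 𝒰.exists_eq (⟨x, hx⟩ : (U : Scheme.{u}))
  have : IsOpenImmersion (𝒰.f i) := 𝒰.map_prop i
  let φ : 𝒰.X i ⟶ S := 𝒰.f i ≫ U.ι
  let W : S.Opens := φ.opensRange
  have hWU : W ≤ U := by
    rintro _ ⟨z, rfl⟩
    exact (𝒰.f i z).2
  have hxW : x ∈ W := ⟨y, by
    change U.ι (𝒰.f i y) = x
    rw [hy]; rfl⟩
  let g : (W : Scheme.{u}) ⟶ 𝒰.X i := IsOpenImmersion.lift φ W.ι (by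
    rw [Scheme.Opens.range_ι]; rfl)
  have hg : g ≫ φ = W.ι := IsOpenImmersion.lift_fac _ _ _
  have h1 : (Sieve.overEquiv _ R) (𝒰.f i) := h𝒰 _ _ (Presieve.ofArrows.mk i)
  rw [Sieve.overEquiv_iff] at h1
  obtain ⟨k, hk, hkl⟩ : ∃ k : Over.mk (𝒰.f i ≫ ((BigSite.zarIncl S).obj U).hom) ⟶
      (BigSite.zarIncl S).obj U, R k ∧ k.left = 𝒰.f i := ⟨_, h1, rfl⟩
  refine ⟨W, homOfLE hWU, ?_, hxW⟩
  change R ((BigSite.zarIncl S).map (homOfLE hWU))
  have hfac : (BigSite.zarIncl S).map (homOfLE hWU) =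
      (Over.homMk (U := (BigSite.zarIncl S).obj W)
        (V := Over.mk (𝒰.f i ≫ ((BigSite.zarIncl S).obj U).hom)) g hg) ≫ k := by
    apply Over.OverMorphism.ext
    have : (g ≫ 𝒰.f i) ≫ U.ι = S.homOfLE hWU ≫ U.ι := by
      rw [Category.assoc, Scheme.homOfLE_ι]; exact hg
    have h2 := ((cancel_mono U.ι).1 this).symm
    rw [Over.comp_left, hkl]
    exact h2
  rw [hfac]
  exact R.downward_closed hk _

instance isCocontinuous_zarIncl :
    (BigSite.zarIncl S).IsCocontinuous (Opens.grothendieckTopology S)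
      (QuotSh.J Scheme.zariskiPrecoverage S) where
  cover_lift := fun {U R} hR => cover_lift_aux S U R hR

/-- restriction from the big Zariski site to the small Zariski site preserves colimits
(it is also a left adjoint, the inclusion of opens being cocontinuous). -/
theorem preservesColimits_resZar [BigSite.ZarCont Scheme.zariskiPrecoverage S] :
    PreservesColimitsOfSize.{0, 0} (BigSite.resZar Scheme.zariskiPrecoverage S) :=
  ((BigSite.zarIncl S).sheafAdjunctionCocontinuous AddCommGrpCat.{u + 1}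
    (Opens.grothendieckTopology S)
    (QuotSh.J Scheme.zariskiPrecoverage S)).leftAdjoint_preservesColimits

end Groth.Agent.Lib.Helper47.BigZar
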