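import Groth.Agent.Lib.Helper47.BigZar2
import Groth.Agent.Lib.Helper47.BigZar3
import Groth.Agent.Lib.Helper68.ExtAdj
import Groth.Agent.Lib.Helper19.PushCocontGlobal

set_option autoImplicit false
universe u
open CategoryTheory CategoryTheory.Limits AlgebraicGeometry Opposite TopologicalSpace

namespace Groth.Agent.Lib.Helper47.BigZar

variable (K : Precoverage Scheme.{u}) (S : Scheme.{u}) [BigSite.ZarCont K S]

/-- the open `⊤` as an `S`-scheme is the terminal `S`-scheme. -/
noncomputable def zarInclTopIso : (BigSite.zarIncl S).obj ⊤ ≅ Over.mk (𝟙 S) :=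
  Over.isoMk (Scheme.topIso S) (by
    change (Scheme.topIso S).hom ≫ 𝟙 S = (⊤ : S.Opens).ι
    rw [Category.comp_id, Scheme.topIso_hom])

noncomputable def zarInclTopIsTerminal : IsTerminal ((BigSite.zarIncl S).obj ⊤) :=
  IsTerminal.ofIso Over.mkIdTerminal (zarInclTopIso S).symm

/-- global sections of the restriction are global sections -/
noncomputable def resZarSectionsIso :
    BigSite.resZar K S ⋙ (sheafSections (Opens.grothendieckTopology S) AddCommGrpCat.{u + 1}).obj
        (op ⊤) ≅
      (sheafSections (QuotSh.J K S) AddCommGrpCat.{u + 1}).obj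
        (op ((BigSite.zarIncl S).obj ⊤)) :=
  NatIso.ofComponents (fun F => Iso.refl _) (by
    intro F G φ
    simp only [Iso.refl_hom]
    rfl)

/-- pullback of a constant sheaf is the constant sheaf. -/
noncomputable def piZarPullConstIso :
    constantSheaf (Opens.grothendieckTopology S) AddCommGrpCat.{u + 1} ⋙ BigSite.piZarPull K S ≅
      constantSheaf (QuotSh.J K S) AddCommGrpCat.{u + 1} :=
  (((constantSheafAdj (Opens.grothendieckTopology S) AddCommGrpCat.{u + 1} isTerminalTop).comp
      (BigSite.piZarAdj K S)).ofNatIsoRight (resZarSectionsIso K S)).leftAdjointUniq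
    (constantSheafAdj (QuotSh.J K S) AddCommGrpCat.{u + 1} (zarInclTopIsTerminal S))

end Groth.Agent.Lib.Helper47.BigZar
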