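import Mathlib
import Groth.Agent.Lib.Cohomology.helper5_SiteCech

/-!
# Čech cohomology of an injective presheaf vanishes (locally small site, helper47)

For a family `Y : ι → Over U` in a category `C` that is locally `w`-small, we build the free
abelian presheaves `K Y m` on the presheaves of compatible `(m+1)`-tuples of maps to the members of
the family, show that morphisms `K Y m ⟶ P` are Čech `m`-cochains of `P` (`Psi`, `Phi`), that the
complex `K Y •` is exact in positive degrees (explicit cone homotopy) and deduce that the Čech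
cohomology of an injective presheaf vanishes in positive degrees
(`isZero_cech_homology_of_injective`).
-/

set_option autoImplicit false
set_option linter.unusedSectionVars false
open CategoryTheory CategoryTheory.Limits Opposite
universe w v u

namespace Groth.Agent.Lib.Helper47.CechFree

open Groth.Agent.Lib.Cohomology.SiteCech


open Groth.Agent.Lib.Cohomology.SiteCech

section Ext

variable {A : Type*} [Category A] [Abelian A]

lemma exists_extension {Y Z I : A} [Injective I] (g : Y ⟶ Z) (φ : Y ⟶ I)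
    (h : kernel.ι g ≫ φ = 0) : ∃ ψ : Z ⟶ I, g ≫ ψ = φ := by
  let φ' : Abelian.coimage g ⟶ I := cokernel.desc (kernel.ι g) φ h
  refine ⟨Injective.factorThru φ' (Abelian.factorThruCoimage g), ?_⟩
  have h1 : Abelian.coimage.π g ≫ Abelian.factorThruCoimage g = g :=
    Abelian.coimage.fac g
  have h2 : g ≫ Injective.factorThru φ' (Abelian.factorThruCoimage g) =
      (Abelian.coimage.π g ≫ Abelian.factorThruCoimage g) ≫
        Injective.factorThru φ' (Abelian.factorThruCoimage g) := by rw [h1]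
  rw [h2, Category.assoc, Injective.comp_factorThru]
  exact cokernel.π_desc _ _ _

end Ext

section
variable {C : Type u} [Category.{v} C] [LocallySmall.{w} C] {U : C}
    {ι : Type w} (Y : ι → Over U)

/-- pairs (index, map to that member) -/
abbrev TT (W : C) : Type w := Σ j : ι, Shrink.{w} (W ⟶ (Y j).left)

variable {Y}

noncomputable def TT.hom {W : C} (t : TT Y W) : W ⟶ (Y t.1).left := (equivShrink _).symm t.2

noncomputable def TT.mk' {W : C} (j : ι) (f : W ⟶ (Y j).left) : TT Y W := ⟨j, equivShrink _ f⟩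

@[simp] lemma TT.mk'_fst {W : C} (j : ι) (f : W ⟶ (Y j).left) : (TT.mk' j f : TT Y W).1 = j := rfl

@[simp] lemma TT.mk'_hom {W : C} (j : ι) (f : W ⟶ (Y j).left) : (TT.mk' j f : TT Y W).hom = f := by
  exact Equiv.symm_apply_apply _ _

lemma TT.mk'_eta {W : C} (t : TT Y W) : TT.mk' t.1 t.hom = t := by
  cases t; simp [TT.mk', TT.hom]

noncomputable def TT.str {W : C} (t : TT Y W) : W ⟶ U := t.hom ≫ (Y t.1).hom

noncomputable def TT.pull {W W' : C} (r : W' ⟶ W) (t : TT Y W) : TT Y W' := TT.mk' t.1 (r ≫ t.hom)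

@[simp] lemma TT.pull_fst {W W' : C} (r : W' ⟶ W) (t : TT Y W) : (t.pull r).1 = t.1 := rfl

@[simp] lemma TT.pull_hom {W W' : C} (r : W' ⟶ W) (t : TT Y W) : (t.pull r).hom = r ≫ t.hom :=
  TT.mk'_hom _ _

lemma TT.pull_mk' {W W' : C} (r : W' ⟶ W) (j : ι) (f : W ⟶ (Y j).left) :
    (TT.mk' j f : TT Y W).pull r = TT.mk' j (r ≫ f) := by
  change TT.mk' j (r ≫ (TT.mk' j f : TT Y W).hom) = _
  rw [TT.mk'_hom]

lemma TT.pull_str {W W' : C} (r : W' ⟶ W) (t : TT Y W) : (t.pull r).str = r ≫ t.str := by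
  change (t.pull r).hom ≫ (Y t.1).hom = r ≫ t.hom ≫ (Y t.1).hom
  rw [TT.pull_hom]
  exact Category.assoc _ _ _

lemma TT.pull_id {W : C} (t : TT Y W) : t.pull (𝟙 W) = t := by
  unfold TT.pull
  rw [Category.id_comp, TT.mk'_eta]

lemma TT.pull_comp {W W' W'' : C} (r : W' ⟶ W) (r' : W'' ⟶ W') (t : TT Y W) :
    t.pull (r' ≫ r) = (t.pull r).pull r' := by
  unfold TT.pull
  rw [TT.mk'_hom, Category.assoc]
  rfl

variable (Y) in
@[ext]
structure SS (m : ℕ) (W : C) : Type w where
  val : Fin (m + 1) → TT Y W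
  property : ∀ k l, (val k).str = (val l).str

noncomputable def SS.pull {m : ℕ} {W W' : C} (r : W' ⟶ W) (σ : SS Y m W) : SS Y m W' :=
  ⟨fun k => (σ.val k).pull r, fun k l => by rw [TT.pull_str, TT.pull_str, σ.property k l]⟩

lemma SS.pull_id {m : ℕ} {W : C} (σ : SS Y m W) : σ.pull (𝟙 W) = σ := by
  apply SS.ext
  funext k
  exact TT.pull_id _

lemma SS.pull_comp {m : ℕ} {W W' W'' : C} (r : W' ⟶ W) (r' : W'' ⟶ W') (σ : SS Y m W) :
    σ.pull (r' ≫ r) = (σ.pull r).pull r' := by
  apply SS.ext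
  funext k
  exact TT.pull_comp _ _ _

def SS.face {m : ℕ} {W : C} (k : Fin (m + 2)) (σ : SS Y (m + 1) W) : SS Y m W :=
  ⟨σ.val ∘ k.succAbove, fun _ _ => σ.property _ _⟩

lemma SS.face_pull {m : ℕ} {W W' : C} (r : W' ⟶ W) (k : Fin (m + 2)) (σ : SS Y (m + 1) W) :
    (σ.pull r).face k = (σ.face k).pull r := rfl

/-- the chosen element with the same structure map -/
noncomputable def SS.base {m : ℕ} {W : C} (σ : SS Y m W) : TT Y W :=
  @Classical.epsilon _ ⟨σ.val 0⟩ (fun t => t.str = (σ.val 0).str)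

lemma SS.base_str {m : ℕ} {W : C} (σ : SS Y m W) : σ.base.str = (σ.val 0).str :=
  @Classical.epsilon_spec _ (fun t => t.str = (σ.val 0).str) ⟨σ.val 0, rfl⟩

noncomputable def SS.cone {m : ℕ} {W : C} (σ : SS Y m W) : SS Y (m + 1) W :=
  ⟨Fin.cons σ.base σ.val, by
    have h : ∀ k : Fin (m + 2), ((Fin.cons σ.base σ.val : Fin (m + 2) → TT Y W) k).str
        = (σ.val 0).str := by
      intro k
      refine Fin.cases ?_ (fun a => ?_) k
      · simpa using σ.base_str
      · simpa using σ.property a 0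
    intro k l
    rw [h k, h l]⟩

lemma SS.cone_face_zero {m : ℕ} {W : C} (σ : SS Y m W) : σ.cone.face 0 = σ := by
  apply SS.ext
  funext a
  simp [SS.face, SS.cone]

lemma SS.face_base {m : ℕ} {W : C} (k : Fin (m + 2)) (σ : SS Y (m + 1) W) :
    (σ.face k).base = σ.base := by
  unfold SS.base
  have : ((σ.face k).1 0).str = (σ.val 0).str := σ.property _ _
  rw [this]

lemma SS.cone_face_succ {m : ℕ} {W : C} (k : Fin (m + 2)) (σ : SS Y (m + 1) W) :
    σ.cone.face k.succ = (σ.face k).cone := by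
  apply SS.ext
  funext a
  change (Fin.cons σ.base σ.val : Fin (m + 3) → TT Y W) (k.succ.succAbove a) =
    (Fin.cons (σ.face k).base (σ.val ∘ k.succAbove) : Fin (m + 2) → TT Y W) a
  rw [SS.face_base]
  refine Fin.cases ?_ (fun a' => ?_) a
  · simp
  · simp

variable (Y) in
/-- free abelian presheaf on the tuples -/
noncomputable abbrev K (m : ℕ) : Cᵒᵖ ⥤ AddCommGrpCat.{w} where
  obj W := AddCommGrpCat.of (FreeAbelianGroup (SS Y m W.unop))
  map r := AddCommGrpCat.ofHom (FreeAbelianGroup.map (SS.pull r.unop))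
  map_id W := by
    ext x
    change FreeAbelianGroup.map (SS.pull (𝟙 W.unop)) (FreeAbelianGroup.of x) = FreeAbelianGroup.of x
    rw [FreeAbelianGroup.map_of_apply, SS.pull_id]
  map_comp r r' := by
    ext x
    change FreeAbelianGroup.map (SS.pull (r'.unop ≫ r.unop)) (FreeAbelianGroup.of x) =
      FreeAbelianGroup.map (SS.pull r'.unop) (FreeAbelianGroup.map (SS.pull r.unop)
        (FreeAbelianGroup.of x))
    rw [FreeAbelianGroup.map_of_apply, FreeAbelianGroup.map_of_apply,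
      FreeAbelianGroup.map_of_apply, SS.pull_comp]

lemma K_map_of {m : ℕ} {W W' : Cᵒᵖ} (r : W ⟶ W') (σ : SS Y m W.unop) :
    (K Y m).map r (FreeAbelianGroup.of σ) = FreeAbelianGroup.of (σ.pull r.unop) :=
  FreeAbelianGroup.map_of_apply _

variable (Y) in
noncomputable def faceK (m : ℕ) (k : Fin (m + 2)) : K Y (m + 1) ⟶ K Y m where
  app W := AddCommGrpCat.ofHom (FreeAbelianGroup.map (SS.face k))
  naturality W W' r := by
    ext x
    change FreeAbelianGroup.map (SS.face k) (FreeAbelianGroup.map (SS.pull r.unop)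
        (FreeAbelianGroup.of x)) =
      FreeAbelianGroup.map (SS.pull r.unop) (FreeAbelianGroup.map (SS.face k)
        (FreeAbelianGroup.of x))
    rw [FreeAbelianGroup.map_of_apply, FreeAbelianGroup.map_of_apply,
      FreeAbelianGroup.map_of_apply, FreeAbelianGroup.map_of_apply, SS.face_pull]

variable (Y) in
noncomputable def dK (m : ℕ) : K Y (m + 1) ⟶ K Y m :=
  ∑ k : Fin (m + 2), (-1 : ℤ) ^ (k : ℕ) • faceK Y m k

lemma dK_app_apply (m : ℕ) (W : Cᵒᵖ) (x : (K Y (m + 1)).obj W) :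
    (dK Y m).app W x = ∑ k : Fin (m + 2), (-1 : ℤ) ^ (k : ℕ) •
      (FreeAbelianGroup.map (SS.face k) x : FreeAbelianGroup (SS Y m W.unop)) := by
  unfold dK
  rw [NatTrans.app_sum, hom_sum_apply]
  refine Finset.sum_congr rfl fun k _ => ?_
  rw [NatTrans.app_zsmul, hom_zsmul_apply]
  rfl

lemma dK_app_of (m : ℕ) (W : Cᵒᵖ) (σ : SS Y (m + 1) W.unop) :
    (dK Y m).app W (FreeAbelianGroup.of σ) = ∑ k : Fin (m + 2), (-1 : ℤ) ^ (k : ℕ) •
      (FreeAbelianGroup.of (σ.face k) : FreeAbelianGroup (SS Y m W.unop)) := by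
  rw [dK_app_apply]
  refine Finset.sum_congr rfl fun k _ => ?_
  rw [FreeAbelianGroup.map_of_apply]

lemma homotopy_K (m : ℕ) (W : Cᵒᵖ) (y : (K Y (m + 1)).obj W) :
    (dK Y (m + 1)).app W (FreeAbelianGroup.map SS.cone y) =
      y - FreeAbelianGroup.map SS.cone ((dK Y m).app W y) := by
  induction y using FreeAbelianGroup.induction_on with
  | zero => simp
  | of σ =>
    rw [FreeAbelianGroup.map_of_apply, dK_app_of, dK_app_of, Fin.sum_univ_succ, map_sum]
    simp only [Fin.val_zero, pow_zero, one_smul, Fin.val_succ, pow_succ, SS.cone_face_zero,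
      SS.cone_face_succ, map_zsmul, FreeAbelianGroup.map_of_apply]
    simp only [mul_neg, mul_one, neg_smul, Finset.sum_neg_distrib]
    abel
  | neg σ ih =>
    rw [map_neg, map_neg, ih, map_neg, map_neg]
    abel
  | add x y hx hy =>
    rw [map_add, map_add, hx, hy, map_add, map_add]
    abel

lemma exact_K (m : ℕ) (W : Cᵒᵖ) (y : (K Y (m + 1)).obj W) (hy : (dK Y m).app W y = 0) :
    ∃ z : (K Y (m + 2)).obj W, (dK Y (m + 1)).app W z = y := by
  refine ⟨FreeAbelianGroup.map SS.cone y, ?_⟩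
  rw [homotopy_K, hy, map_zero, sub_zero]

variable [HasFiniteProducts (Over U)]

/-- maps into the underlying object of a (nonempty) product in `Over U` are determined by their
components -/
lemma left_hom_ext {m : ℕ} (i : Fin (m + 1) → ι) {W : C} (q q' : W ⟶ (inter Y i).left)
    (h : ∀ k, q ≫ (Pi.π (Y ∘ i) k).left = q' ≫ (Pi.π (Y ∘ i) k).left) : q = q' := by
  have hw : ∀ k, (Pi.π (Y ∘ i) k).left ≫ (Y (i k)).hom = (inter Y i).hom :=
    fun k => Over.w (Pi.π (Y ∘ i) k)
  have hq' : q' ≫ (inter Y i).hom = q ≫ (inter Y i).hom := by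
    rw [← hw 0, ← Category.assoc, ← h 0, Category.assoc]
  let a : Over.mk (q ≫ (inter Y i).hom) ⟶ inter Y i := Over.homMk q rfl
  let a' : Over.mk (q ≫ (inter Y i).hom) ⟶ inter Y i := Over.homMk q' hq'
  have : a = a' := by
    apply Pi.hom_ext
    intro k
    apply Over.OverMorphism.ext
    exact h k
  exact congrArg CommaMorphism.left this

/-- universal tuple -/
noncomputable def univ {m : ℕ} (i : Fin (m + 1) → ι) : SS Y m (inter Y i).left :=
  ⟨fun k => TT.mk' (i k) (Pi.π (Y ∘ i) k).left, fun k l => by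
    have hw : ∀ k, (TT.mk' (i k) (Pi.π (Y ∘ i) k).left : TT Y _).str = (inter Y i).hom := by
      intro k
      change (TT.mk' (i k) (Pi.π (Y ∘ i) k).left : TT Y _).hom ≫ (Y (i k)).hom = _
      rw [TT.mk'_hom]
      exact Over.w (Pi.π (Y ∘ i) k)
    rw [hw k, hw l]⟩

/-- the map to the product attached to a tuple -/
noncomputable def SS.lift {m : ℕ} {W : C} (σ : SS Y m W) :
    W ⟶ (inter Y (fun k => (σ.val k).1)).left :=
  (Pi.lift (fun k => (Over.homMk (σ.val k).hom (σ.property k 0) :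
      Over.mk (σ.val 0).str ⟶ Y (σ.val k).1)) :
    Over.mk (σ.val 0).str ⟶ inter Y (fun k => (σ.val k).1)).left

lemma SS.lift_π {m : ℕ} {W : C} (σ : SS Y m W) (k : Fin (m + 1)) :
    σ.lift ≫ (Pi.π (Y ∘ (fun k => (σ.val k).1)) k).left = (σ.val k).hom := by
  unfold SS.lift
  rw [← Over.comp_left, Pi.lift_π]
  rfl

lemma SS.lift_pull {m : ℕ} {W W' : C} (r : W' ⟶ W) (σ : SS Y m W) :
    ((σ.pull r).lift : W' ⟶ (inter Y (fun k => (σ.val k).1)).left) = r ≫ σ.lift := by
  refine left_hom_ext (fun k => (σ.val k).1) _ _ (fun k => ?_)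
  have h1 : (σ.pull r).lift ≫ (Pi.π (Y ∘ fun k => (σ.val k).1) k).left = r ≫ (σ.val k).hom :=
    ((σ.pull r).lift_π k).trans (TT.pull_hom _ _)
  have h2 : (r ≫ σ.lift) ≫ (Pi.π (Y ∘ fun k => (σ.val k).1) k).left = r ≫ (σ.val k).hom := by
    rw [Category.assoc, SS.lift_π]
  exact h1.trans h2.symm

lemma univ_lift {m : ℕ} (i : Fin (m + 1) → ι) :
    ((univ (Y := Y) i).lift : (inter Y i).left ⟶ (inter Y i).left) = 𝟙 _ := by
  refine left_hom_ext i _ _ (fun k => ?_)
  have h1 : (univ (Y := Y) i).lift ≫ (Pi.π (Y ∘ i) k).left = (Pi.π (Y ∘ i) k).left :=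
    ((univ (Y := Y) i).lift_π k).trans (TT.mk'_hom _ _)
  exact h1.trans (Category.id_comp _).symm

lemma univ_pull_lift {m : ℕ} {W : C} (σ : SS Y m W) :
    (univ (Y := Y) (fun k => (σ.val k).1)).pull σ.lift = σ := by
  apply SS.ext
  funext k
  change TT.pull σ.lift (TT.mk' (σ.val k).1 (Pi.π (Y ∘ (fun k => (σ.val k).1)) k).left) = σ.val k
  exact (TT.pull_mk' _ _ _).trans
    ((congrArg (TT.mk' (Y := Y) (σ.val k).1) (σ.lift_π k)).trans (TT.mk'_eta (σ.val k)))

lemma univ_face {m : ℕ} (i : Fin (m + 2) → ι) (k : Fin (m + 2)) :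
    (univ (Y := Y) i).face k = (univ (Y := Y) (i ∘ k.succAbove)).pull (faceHom Y i k).left := by
  apply SS.ext
  funext b
  change TT.mk' (i (k.succAbove b)) (Pi.π (Y ∘ i) (k.succAbove b)).left =
    TT.pull (faceHom Y i k).left (TT.mk' ((i ∘ k.succAbove) b) (Pi.π (Y ∘ (i ∘ k.succAbove)) b).left)
  have h : (faceHom Y i k).left ≫ (Pi.π (Y ∘ (i ∘ k.succAbove)) b).left =
      (Pi.π (Y ∘ i) (k.succAbove b)).left := by
    rw [← Over.comp_left, faceHom_π]
  exact (congrArg (TT.mk' (Y := Y) (i (k.succAbove b))) h.symm).trans (TT.pull_mk' _ _ _).symm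

variable (P : Cᵒᵖ ⥤ AddCommGrpCat.{w})

/-- restriction to `Over U` -/
abbrev resP : (Over U)ᵒᵖ ⥤ AddCommGrpCat.{w} := (Over.forget U).op ⋙ P

/-- a morphism out of the free presheaf gives a cochain -/
noncomputable def Psi {m : ℕ} (ψ : K Y m ⟶ P) : Coch (resP P) Y m :=
  fun i => ψ.app (op (inter Y i).left) (FreeAbelianGroup.of (univ i))

/-- a cochain gives a morphism out of the free presheaf -/
noncomputable def Phi {m : ℕ} (c : Coch (resP P) Y m) : K Y m ⟶ P where
  app W := AddCommGrpCat.ofHom (FreeAbelianGroup.lift (fun σ : SS Y m W.unop =>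
    P.map σ.lift.op (c (fun k => (σ.val k).1))))
  naturality W W' r := by
    ext σ
    change FreeAbelianGroup.lift _ (FreeAbelianGroup.map (SS.pull r.unop) (FreeAbelianGroup.of σ)) =
      P.map r (FreeAbelianGroup.lift _ (FreeAbelianGroup.of σ))
    rw [FreeAbelianGroup.map_of_apply, FreeAbelianGroup.lift_apply_of,
      FreeAbelianGroup.lift_apply_of]
    have h1 : P.map ((σ.pull r.unop).lift : W'.unop ⟶ (inter Y (fun k => (σ.val k).1)).left).op
        (c (fun k => (σ.val k).1)) = P.map (r.unop ≫ σ.lift).op (c (fun k => (σ.val k).1)) :=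
      congrArg (fun f : W'.unop ⟶ (inter Y (fun k => (σ.val k).1)).left =>
        P.map f.op (c (fun k => (σ.val k).1))) (SS.lift_pull r.unop σ)
    have h2 : P.map (r.unop ≫ σ.lift).op (c (fun k => (σ.val k).1)) =
        P.map r (P.map σ.lift.op (c (fun k => (σ.val k).1))) := by
      rw [op_comp, P.map_comp]
      rfl
    exact h1.trans h2

lemma Phi_app_of {m : ℕ} (c : Coch (resP P) Y m) (W : Cᵒᵖ) (σ : SS Y m W.unop) :
    (Phi P c).app W (FreeAbelianGroup.of σ) = P.map σ.lift.op (c (fun k => (σ.val k).1)) :=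
  FreeAbelianGroup.lift_apply_of _ _

lemma Psi_Phi {m : ℕ} (c : Coch (resP P) Y m) : Psi P (Phi P c) = c := by
  funext i
  unfold Psi
  rw [Phi_app_of]
  have h1 : P.map ((univ (Y := Y) i).lift : (inter Y i).left ⟶ (inter Y i).left).op (c i) =
      P.map (𝟙 (inter Y i).left).op (c i) :=
    congrArg (fun f : (inter Y i).left ⟶ (inter Y i).left => P.map f.op (c i)) (univ_lift i)
  have h2 : P.map (𝟙 (inter Y i).left).op (c i) = c i := by
    rw [op_id, P.map_id]
    rfl
  exact h1.trans h2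

lemma app_pull {m : ℕ} (ψ : K Y m ⟶ P) {W W' : C} (r : W' ⟶ W) (σ : SS Y m W) :
    ψ.app (op W') (FreeAbelianGroup.of (σ.pull r)) =
      P.map r.op (ψ.app (op W) (FreeAbelianGroup.of σ)) := by
  have h := ConcreteCategory.congr_hom (ψ.naturality r.op) (FreeAbelianGroup.of σ)
  rw [ConcreteCategory.comp_apply, ConcreteCategory.comp_apply, K_map_of] at h
  exact h

lemma Phi_Psi {m : ℕ} (ψ : K Y m ⟶ P) : Phi P (Psi P ψ) = ψ := by
  ext W σ
  change (Phi P (Psi P ψ)).app W (FreeAbelianGroup.of σ) = ψ.app W (FreeAbelianGroup.of σ)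
  rw [Phi_app_of]
  unfold Psi
  rw [← app_pull, univ_pull_lift]

lemma Psi_injective {m : ℕ} {ψ ψ' : K Y m ⟶ P} (h : Psi P ψ = Psi P ψ') : ψ = ψ' := by
  rw [← Phi_Psi P ψ, ← Phi_Psi P ψ', h]

lemma Psi_zero {m : ℕ} (i : Fin (m + 1) → ι) : Psi P (0 : K Y m ⟶ P) i = 0 := rfl

lemma Psi_dK {m : ℕ} (ψ : K Y m ⟶ P) (i : Fin (m + 2) → ι) :
    Psi P (dK Y m ≫ ψ) i =
      ∑ k : Fin (m + 2), (-1 : ℤ) ^ (k : ℕ) • face (resP P) Y i k (Psi P ψ (i ∘ k.succAbove)) := by
  unfold Psi
  rw [NatTrans.comp_app, ConcreteCategory.comp_apply, dK_app_of, map_sum]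
  refine Finset.sum_congr rfl fun k _ => ?_
  rw [map_zsmul, univ_face, app_pull]
  rfl

end


theorem isZero_cech_homology_of_injective {C : Type u} [Category.{v} C] [LocallySmall.{w} C] {U : C}
    [HasFiniteProducts (Over U)] {ι : Type w} (Uf : ι → Over U) (I : Cᵒᵖ ⥤ AddCommGrpCat.{w})
    [Injective I] (p : ℕ) : IsZero ((cx (resP I) Uf).homology (p + 1)) := by
  rw [isZero_homology_succ_iff]
  intro c hc
  let φ : K Uf (p + 1) ⟶ I := Phi I (cochEquiv (resP I) Uf (p + 1) c)
  have hφ : dK Uf (p + 1) ≫ φ = 0 := by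
    apply Psi_injective
    funext i
    rw [Psi_dK, Psi_zero, Psi_Phi]
    have h := proj_d_apply (resP I) Uf (p + 1) c i
    rw [hc, map_zero] at h
    rw [h]
    simp only [cochEquiv_apply]
  have hker : kernel.ι (dK Uf p) ≫ φ = 0 := by
    ext W x
    have hx : (dK Uf p).app W ((kernel.ι (dK Uf p)).app W x) = 0 := by
      have h1 : (kernel.ι (dK Uf p)).app W ≫ (dK Uf p).app W = 0 := by
        rw [← NatTrans.comp_app, kernel.condition]
        rfl
      have h2 := ConcreteCategory.congr_hom h1 x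
      rw [ConcreteCategory.comp_apply] at h2
      exact h2
    obtain ⟨z, hz⟩ := exact_K p W _ hx
    change φ.app W ((kernel.ι (dK Uf p)).app W x) = 0
    rw [← hz, ← ConcreteCategory.comp_apply, ← NatTrans.comp_app, hφ]
    rfl
  obtain ⟨ψ, hψ⟩ := exists_extension (dK Uf p) φ hker
  refine ⟨(cochEquiv (resP I) Uf p).symm (Psi I ψ), ?_⟩
  apply cx_ext
  intro i
  rw [proj_d_apply]
  simp only [proj_cochEquiv_symm]
  rw [← Psi_dK, hψ, Psi_Phi, cochEquiv_apply]


end Groth.Agent.Lib.Helper47.CechFree
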