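import Mathlib
import Groth.Agent.Lib.Helper47.CechFree
import Groth.Prelude.Def_EtCech
import Groth.Prelude.Def_DeltaF

/-!
# Čech cohomology of presheaves as a cohomological delta-functor (helper47)

`cechDelta Uf : DeltaF.CohDeltaFunctor (Cᵒᵖ ⥤ Ab) Ab ℕ` with `F n = EtCech.cechHFunctor Uf n`,
its effaceability (`cechDelta_effaceable`, from the vanishing on injective presheaves) and the left
exactness of `Ȟ⁰` (`preservesFiniteLimits_cechH0`).
-/

set_option autoImplicit false
set_option linter.unusedSectionVars false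
open CategoryTheory CategoryTheory.Limits Opposite
universe w v u

namespace Groth.Agent.Lib.Helper47.CechDelta

open Groth.Agent.Lib.Cohomology.SiteCech Groth.Agent.Lib.Helper47.CechFree


open Groth.Agent.Lib.Cohomology.SiteCech Groth.Agent.Lib.Helper47.CechFree

section
variable {C : Type u} [Category.{v} C]

/-- pointwise description of short exactness of presheaves of abelian groups -/
lemma shortExact_pointwise {S : ShortComplex (Cᵒᵖ ⥤ AddCommGrpCat.{w})} (hS : S.ShortExact)
    (V : Cᵒᵖ) : Function.Injective (S.f.app V) ∧ Function.Surjective (S.g.app V) ∧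
      (∀ y, S.g.app V y = 0 → ∃ x, S.f.app V x = y) := by
  have := hS.mono_f
  have := hS.epi_g
  have h := hS.map_of_exact ((evaluation Cᵒᵖ AddCommGrpCat.{w}).obj V)
  refine ⟨?_, ?_, ?_⟩
  · exact (AddCommGrpCat.mono_iff_injective _).1 h.mono_f
  · exact (AddCommGrpCat.epi_iff_surjective _).1 h.epi_g
  · exact (ShortComplex.ab_exact_iff _).1 h.exact

instance additive_cechComplexFunctor {E : Type u} [Category.{v} E] [HasFiniteProducts E]
    {ι : Type w} (Y : ι → E) :
    (cechComplexFunctor Y : (Eᵒᵖ ⥤ AddCommGrpCat.{w}) ⥤ CochainComplex AddCommGrpCat.{w} ℕ).Additive where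
  map_add := by
    intro P Q f g
    apply HomologicalComplex.hom_ext
    intro n
    apply AddCommGrpCat.hom_ext
    apply AddMonoidHom.ext
    intro c
    apply cx_ext
    intro i
    rw [HomologicalComplex.add_f_apply, AddCommGrpCat.hom_add_apply, map_add,
      map_proj_apply, map_proj_apply, map_proj_apply]
    rfl

variable {U : C} [HasFiniteProducts (Over U)] {ι : Type w} (Uf : ι → Over U)

/-- the Čech complex functor on presheaves on `C` -/
noncomputable abbrev GG : (Cᵒᵖ ⥤ AddCommGrpCat.{w}) ⥤ CochainComplex AddCommGrpCat.{w} ℕ :=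
  (Functor.whiskeringLeft (Over U)ᵒᵖ Cᵒᵖ AddCommGrpCat.{w}).obj (Over.forget U).op ⋙
    cechComplexFunctor Uf

lemma GG_map_proj_apply {P Q : Cᵒᵖ ⥤ AddCommGrpCat.{w}} (φ : P ⟶ Q) (n : ℕ)
    (i : Fin (n + 1) → ι) (c : (cx (resP P) Uf).X n) :
    proj (resP Q) Uf n i (((GG Uf).map φ).f n c) =
      φ.app (op (inter Uf i).left) (proj (resP P) Uf n i c) :=
  map_proj_apply Uf (Functor.whiskerLeft (Over.forget U).op φ) n i c

lemma GG_f_injective {P Q : Cᵒᵖ ⥤ AddCommGrpCat.{w}} (φ : P ⟶ Q)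
    (h : ∀ V, Function.Injective (φ.app V)) (n : ℕ) (x x' : (cx (resP P) Uf).X n)
    (hx : ((GG Uf).map φ).f n x = ((GG Uf).map φ).f n x') : x = x' := by
  refine cx_ext (resP P) Uf (fun i => ?_)
  apply h (op (inter Uf i).left)
  have h1 := GG_map_proj_apply Uf φ n i x
  have h2 := GG_map_proj_apply Uf φ n i x'
  rw [hx] at h1
  exact h1.symm.trans h2

lemma GG_f_surjective {P Q : Cᵒᵖ ⥤ AddCommGrpCat.{w}} (φ : P ⟶ Q)
    (h : ∀ V, Function.Surjective (φ.app V)) (n : ℕ) (y : (cx (resP Q) Uf).X n) :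
    ∃ x : (cx (resP P) Uf).X n, ((GG Uf).map φ).f n x = y := by
  choose x hx using fun i => h (op (inter Uf i).left) (proj (resP Q) Uf n i y)
  refine ⟨(cochEquiv (resP P) Uf n).symm x, cx_ext (resP Q) Uf (fun i => ?_)⟩
  exact (GG_map_proj_apply Uf φ n i _).trans
    ((congrArg (φ.app (op (inter Uf i).left)) (proj_cochEquiv_symm (resP P) Uf n x i)).trans (hx i))

lemma GG_f_exact {P Q R : Cᵒᵖ ⥤ AddCommGrpCat.{w}} (φ : P ⟶ Q) (ψ : Q ⟶ R)
    (h : ∀ V y, ψ.app V y = 0 → ∃ x, φ.app V x = y) (n : ℕ) (y : (cx (resP Q) Uf).X n)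
    (hy : ((GG Uf).map ψ).f n y = 0) :
    ∃ x : (cx (resP P) Uf).X n, ((GG Uf).map φ).f n x = y := by
  have hy' : ∀ i, ψ.app (op (inter Uf i).left) (proj (resP Q) Uf n i y) = 0 := by
    intro i
    have h1 := GG_map_proj_apply Uf ψ n i y
    rw [hy, map_zero] at h1
    exact h1.symm
  choose x hx using fun i => h (op (inter Uf i).left) _ (hy' i)
  refine ⟨(cochEquiv (resP P) Uf n).symm x, cx_ext (resP Q) Uf (fun i => ?_)⟩
  exact (GG_map_proj_apply Uf φ n i _).trans
    ((congrArg (φ.app (op (inter Uf i).left)) (proj_cochEquiv_symm (resP P) Uf n x i)).trans (hx i))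

lemma shortExact_map_GG {S : ShortComplex (Cᵒᵖ ⥤ AddCommGrpCat.{w})} (hS : S.ShortExact) :
    (S.map (GG Uf)).ShortExact := by
  apply HomologicalComplex.shortExact_of_degreewise_shortExact
  intro n
  have hp := shortExact_pointwise hS
  have hmono : Mono (((GG Uf).map S.f).f n) := by
    rw [AddCommGrpCat.mono_iff_injective]
    intro x x' h
    exact GG_f_injective Uf S.f (fun V => (hp V).1) n x x' h
  have hepi : Epi (((GG Uf).map S.g).f n) := by
    rw [AddCommGrpCat.epi_iff_surjective]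
    intro y
    exact GG_f_surjective Uf S.g (fun V => (hp V).2.1) n y
  have hex : ((S.map (GG Uf)).map (HomologicalComplex.eval _ _ n)).Exact := by
    rw [ShortComplex.ab_exact_iff]
    intro y hy
    exact GG_f_exact Uf S.f S.g (fun V => (hp V).2.2) n y hy
  exact { exact := hex, mono_f := hmono, epi_g := hepi }

lemma rel_of_eq {n₀ n₁ : ℕ} (h : n₀ + 1 = n₁) : (ComplexShape.up ℕ).Rel n₀ n₁ := h

/-- Čech cohomology as a cohomological delta-functor on presheaves -/
noncomputable def cechDelta :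
    DeltaF.CohDeltaFunctor (Cᵒᵖ ⥤ AddCommGrpCat.{w}) AddCommGrpCat.{w} ℕ where
  F n := EtCech.cechHFunctor Uf n
  additive n := by
    change ((GG Uf) ⋙ HomologicalComplex.homologyFunctor _ _ n).Additive
    infer_instance
  δ S hS n₀ n₁ h := (shortExact_map_GG Uf hS).δ n₀ n₁ (rel_of_eq h)
  δ_natural := by
    intro S S' hS hS' φ n₀ n₁ h
    exact (HomologicalComplex.HomologySequence.δ_naturality ((GG Uf).mapShortComplex.map φ)
      (shortExact_map_GG Uf hS) (shortExact_map_GG Uf hS') n₀ n₁ (rel_of_eq h)).symm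
  exact₂ S hS n := (shortExact_map_GG Uf hS).homology_exact₂ n
  comp_δ S hS n₀ n₁ h := (shortExact_map_GG Uf hS).comp_δ n₀ n₁ (rel_of_eq h)
  exact₃ S hS n₀ n₁ h := (shortExact_map_GG Uf hS).homology_exact₃ n₀ n₁ (rel_of_eq h)
  δ_comp S hS n₀ n₁ h := (shortExact_map_GG Uf hS).δ_comp n₀ n₁ (rel_of_eq h)
  exact₁ S hS n₀ n₁ h := (shortExact_map_GG Uf hS).homology_exact₁ n₀ n₁ (rel_of_eq h)

lemma cechDelta_effaceable [LocallySmall.{w} C] [HasInjectiveResolutions (Cᵒᵖ ⥤ AddCommGrpCat.{w})] :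
    (cechDelta Uf).IsEffaceable := by
  intro n X
  let I : InjectiveResolution X := (HasInjectiveResolutions.out X).out.some
  let u : X ⟶ I.cocomplex.X 0 :=
    (HomologicalComplex.singleObjXSelf (ComplexShape.up ℕ) 0 X).inv ≫ I.ι.f 0
  have : Injective (I.cocomplex.X 0) := I.injective 0
  refine ⟨I.cocomplex.X 0, u, inferInstance, ?_⟩
  exact (isZero_cech_homology_of_injective Uf (I.cocomplex.X 0) n).eq_of_tgt _ _

instance mono_GG_f {P Q : Cᵒᵖ ⥤ AddCommGrpCat.{w}} (φ : P ⟶ Q) [Mono φ] (n : ℕ) :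
    Mono (((GG Uf).map φ).f n) := by
  rw [AddCommGrpCat.mono_iff_injective]
  intro x x' h
  refine GG_f_injective Uf φ (fun V => ?_) n x x' h
  have : Mono (φ.app V) := inferInstance
  exact (AddCommGrpCat.mono_iff_injective _).1 this

lemma preservesFiniteLimits_cechH0 :
    PreservesFiniteLimits (EtCech.cechHFunctor (C := C) Uf 0) := by
  have : (EtCech.cechHFunctor (C := C) Uf 0).Additive := (cechDelta Uf).additive 0
  have h := (Functor.preservesFiniteLimits_tfae (EtCech.cechHFunctor (C := C) Uf 0)).out 0 3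
  rw [← h]
  intro S hS
  refine ⟨(cechDelta Uf).exact₂ S hS 0, ?_⟩
  have := hS.mono_f
  exact HomologicalComplex.mono_homologyMap_of_mono_of_not_rel ((GG Uf).map S.f) 0
    (fun i hi => by simp at hi)

end


end Groth.Agent.Lib.Helper47.CechDelta
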