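import Mathlib
import Groth.Prelude.Def_CechEdge
import Groth.Agent.Lib.Helper47.CechDelta
import Groth.Agent.Lib.Cohomology.Helper3_ExtDelta
import Groth.Agent.Lib.Cohomology.helper5_SiteCechH0
import Groth.Agent.S6773

set_option autoImplicit false
set_option linter.unusedSectionVars false
universe u v' u' v'' u'' v''' u'''
open CategoryTheory CategoryTheory.Limits Opposite

/-!
# Edge maps from Čech cohomology to sheaf cohomology, part 1 (helper47)
`precompDelta`, the delta-functors `T₁` (Čech) and `T₂` (`P ↦ H^p(U, P^#)`), naturality of `sectH0`.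
-/

namespace Groth.Agent.Lib.Helper47.CechEdgeLib

section Precomp

variable {A : Type u'} [Category.{v'} A] [Abelian A] {A' : Type u''} [Category.{v''} A'] [Abelian A']
  {B : Type u'''} [Category.{v'''} B] [Abelian B]
  (L : A ⥤ A') [L.Additive] [PreservesFiniteLimits L] [PreservesFiniteColimits L]
  (T : DeltaF.CohDeltaFunctor A' B ℕ)

/-- precomposition of a delta-functor with an exact functor -/
noncomputable def precompDelta : DeltaF.CohDeltaFunctor A B ℕ where
  F n := L ⋙ T.F n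
  additive _ := inferInstance
  δ S hS n₀ n₁ h := T.δ (S.map L) (hS.map_of_exact L) n₀ n₁ h
  δ_natural hS hS' φ n₀ n₁ h :=
    T.δ_natural (hS.map_of_exact L) (hS'.map_of_exact L) (L.mapShortComplex.map φ) n₀ n₁ h
  exact₂ S hS n := T.exact₂ (S.map L) (hS.map_of_exact L) n
  comp_δ S hS n₀ n₁ h := T.comp_δ (S.map L) (hS.map_of_exact L) n₀ n₁ h
  exact₃ S hS n₀ n₁ h := T.exact₃ (S.map L) (hS.map_of_exact L) n₀ n₁ h
  δ_comp S hS n₀ n₁ h := T.δ_comp (S.map L) (hS.map_of_exact L) n₀ n₁ h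
  exact₁ S hS n₀ n₁ h := T.exact₁ (S.map L) (hS.map_of_exact L) n₀ n₁ h

end Precomp

open Groth.Agent.Lib.Cohomology.SiteCech Groth.Agent.Lib.Helper47.CechFree
  Groth.Agent.Lib.Helper47.CechDelta Groth.Agent.Lib.Cohomology.ExtDelta CechEdge

variable {C : Type u} [SmallCategory C] [HasPullbacks C] (J : GrothendieckTopology C)
  {U : C} {ι : Type u} (Y : ι → Over U)

/-- presheaves of abelian groups on a small category form a Grothendieck abelian category -/
lemma isGrothendieckAbelian_presheaf :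
    IsGrothendieckAbelian.{u} (Cᵒᵖ ⥤ AddCommGrpCat.{u}) :=
  IsGrothendieckAbelian.of_equivalence (sheafBotEquivalence AddCommGrpCat.{u})

lemma hasInjectiveResolutions_presheaf :
    HasInjectiveResolutions (Cᵒᵖ ⥤ AddCommGrpCat.{u}) := by
  have := isGrothendieckAbelian_presheaf (C := C)
  infer_instance

/-- the Čech delta-functor -/
noncomputable abbrev T₁ : DeltaF.CohDeltaFunctor (Cᵒᵖ ⥤ AddCommGrpCat.{u}) AddCommGrpCat.{u} ℕ :=
  cechDelta (C := C) Y

/-- the derived delta-functor `P ↦ H^p(U, P^#)` -/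
noncomputable abbrev T₂ (U : C) :
    DeltaF.CohDeltaFunctor (Cᵒᵖ ⥤ AddCommGrpCat.{u}) AddCommGrpCat.{u} ℕ :=
  precompDelta (presheafToSheaf J AddCommGrpCat.{u}) (extDelta.{u} (CohCx.freeSheaf J U))

lemma T₁_universal : (T₁ Y).IsUniversal := by
  have := hasInjectiveResolutions_presheaf (C := C)
  exact Groth.Agent.S6773.result _ (cechDelta_effaceable Y)

variable {J}

lemma addEquiv₀_postcomp {F G : Sheaf J AddCommGrpCat.{u}} (ψ : F ⟶ G)
    (x : Abelian.Ext.{u} (CohCx.freeSheaf J U) F 0) :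
    Abelian.Ext.addEquiv₀ (x.comp (Abelian.Ext.mk₀ ψ) (add_zero 0)) =
      Abelian.Ext.addEquiv₀ x ≫ ψ := by
  delta Abelian.Ext.addEquiv₀
  apply (Abelian.Ext.mk₀_bijective _ G).injective
  simp only [AddEquiv.coe_mk, Abelian.Ext.mk₀_homEquiv₀_apply, ← Abelian.Ext.mk₀_comp_mk₀]

lemma HUmap_apply {F G : Sheaf J AddCommGrpCat.{u}} (ψ : F ⟶ G) (p : ℕ)
    (x : CohSite.HU F p U) :
    HUmap ψ p U x = (x : Abelian.Ext.{u} (CohCx.freeSheaf J U) F p).comp (Abelian.Ext.mk₀ ψ)
      (add_zero p) := rfl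

lemma sectH0_symm_apply (F : Sheaf J AddCommGrpCat.{u}) (x : CohSite.HU F 0 U) :
    (sectH0 J U F).symm x = CohFree.evalGen J U F (Abelian.Ext.addEquiv₀ x) := rfl

lemma evalGen_postcomp {F G : Sheaf J AddCommGrpCat.{u}} (ψ : F ⟶ G)
    (x : Abelian.Ext.{u} (CohCx.freeSheaf J U) F 0) :
    CohFree.evalGen J U G (Abelian.Ext.addEquiv₀ (x.comp (Abelian.Ext.mk₀ ψ) (add_zero 0))) =
      ψ.hom.app (op U) (CohFree.evalGen J U F (Abelian.Ext.addEquiv₀ x)) := by
  rw [addEquiv₀_postcomp]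
  rfl

lemma sectH0_naturality {F G : Sheaf J AddCommGrpCat.{u}} (ψ : F ⟶ G) (s : F.obj.obj (op U)) :
    HUmap ψ 0 U (sectH0 J U F s) = sectH0 J U G (ψ.hom.app (op U) s) := by
  obtain ⟨x, rfl⟩ := (sectH0 J U F).symm.surjective s
  rw [AddEquiv.apply_symm_apply]
  apply (sectH0 J U G).symm.injective
  rw [AddEquiv.symm_apply_apply]
  exact evalGen_postcomp ψ x

end Groth.Agent.Lib.Helper47.CechEdgeLib
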