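import Groth.Agent.Lib.Helper47.CechEdge1

set_option autoImplicit false
set_option linter.unusedSectionVars false
universe u
open CategoryTheory CategoryTheory.Limits Opposite

/-!
# Edge maps from Čech cohomology to sheaf cohomology, part 2 (helper47)
naturality of `toCech`, the degree-zero comparison `e0` and its properties.
-/

namespace Groth.Agent.Lib.Helper47.CechEdgeLib

open Groth.Agent.Lib.Cohomology.SiteCech Groth.Agent.Lib.Helper47.CechFree
  Groth.Agent.Lib.Helper47.CechDelta Groth.Agent.Lib.Cohomology.ExtDelta CechEdge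

variable {C : Type u} [SmallCategory C] [HasPullbacks C] {J : GrothendieckTopology C}
  {U : C} {ι : Type u} (Y : ι → Over U)

lemma toCech₀_proj (R : Cᵒᵖ ⥤ AddCommGrpCat.{u}) (i : Fin 1 → ι) :
    toCech₀ R Y ≫ proj (resP R) Y 0 i = R.map (inter Y i).hom.op :=
  Pi.lift_π _ _

lemma toCech₀_naturality {P Q : Cᵒᵖ ⥤ AddCommGrpCat.{u}} (φ : P ⟶ Q) :
    toCech₀ P Y ≫ ((cechComplexFunctor Y).map (Functor.whiskerLeft (Over.forget U).op φ)).f 0 =
      φ.app (op U) ≫ toCech₀ Q Y := by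
  apply Pi.hom_ext
  intro (i : Fin 1 → ι)
  change (_ ≫ _) ≫ proj (resP Q) Y 0 i = (_ ≫ _) ≫ proj (resP Q) Y 0 i
  rw [Category.assoc, map_proj, ← Category.assoc, toCech₀_proj, Category.assoc, toCech₀_proj]
  exact φ.naturality _

lemma toCycles_naturality {P Q : Cᵒᵖ ⥤ AddCommGrpCat.{u}} (φ : P ⟶ Q) :
    toCycles P Y ≫ HomologicalComplex.cyclesMap
        ((cechComplexFunctor Y).map (Functor.whiskerLeft (Over.forget U).op φ)) 0 =
      φ.app (op U) ≫ toCycles Q Y := by
  rw [← cancel_mono ((cx (resP Q) Y).iCycles 0), Category.assoc, Category.assoc,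
    HomologicalComplex.cyclesMap_i, toCycles_i, ← Category.assoc, toCycles_i]
  exact toCech₀_naturality Y φ

lemma toCech_naturality {P Q : Cᵒᵖ ⥤ AddCommGrpCat.{u}} (φ : P ⟶ Q) (s : P.obj (op U)) :
    cechHMap Y φ 0 (toCech Y P s) = toCech Y Q (φ.app (op U) s) := by
  have h : (toCycles P Y ≫ (cx (resP P) Y).homologyπ 0) ≫
      HomologicalComplex.homologyMap
        ((cechComplexFunctor Y).map (Functor.whiskerLeft (Over.forget U).op φ)) 0 =
      φ.app (op U) ≫ (toCycles Q Y ≫ (cx (resP Q) Y).homologyπ 0) := by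
    rw [Category.assoc, HomologicalComplex.homologyπ_naturality, ← Category.assoc,
      toCycles_naturality, Category.assoc]
  exact ConcreteCategory.congr_hom h s

lemma sectionsEquivCechH0_eq_toCech (G : Sheaf J AddCommGrpCat.{u})
    (hY : Sieve.ofArrows (fun i => (Y i).left) (fun i => (Y i).hom) ∈ J U) (s : G.obj.obj (op U)) :
    sectionsEquivCechH0 Y G hY s = toCech Y G.obj s := rfl

lemma cechHMap_comp {P Q R : Cᵒᵖ ⥤ AddCommGrpCat.{u}} (φ : P ⟶ Q) (ψ : Q ⟶ R) (p : ℕ)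
    (x : CohCx.cechH P Y p) :
    cechHMap Y (φ ≫ ψ) p x = cechHMap Y ψ p (cechHMap Y φ p x) := by
  have h := (EtCech.cechHFunctor (C := C) Y p).map_comp φ ψ
  exact ConcreteCategory.congr_hom h x

variable (J)
variable (hY : Sieve.ofArrows (fun i => (Y i).left) (fun i => (Y i).hom) ∈ J U)

/-- the degree-zero comparison map -/
noncomputable def e0 (P : Cᵒᵖ ⥤ AddCommGrpCat.{u}) :
    CohCx.cechH P Y 0 →+ CohSite.HU (shf J P) 0 U :=
  ((sectH0 J U (shf J P)).toAddMonoidHom.comp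
    (sectionsEquivCechH0 Y (shf J P) hY).symm.toAddMonoidHom).comp (cechHMap Y (toSheafify J P) 0)

lemma e0_apply (P : Cᵒᵖ ⥤ AddCommGrpCat.{u}) (x : CohCx.cechH P Y 0) :
    e0 J Y hY P x = sectH0 J U (shf J P)
      ((sectionsEquivCechH0 Y (shf J P) hY).symm (cechHMap Y (toSheafify J P) 0 x)) := rfl

lemma e0_toCech (P : Cᵒᵖ ⥤ AddCommGrpCat.{u}) (s : P.obj (op U)) :
    e0 J Y hY P (toCech Y P s) =
      sectH0 J U (shf J P) (((toSheafify J P).app (op U)).hom s) := by
  rw [e0_apply, toCech_naturality, ← sectionsEquivCechH0_eq_toCech Y (shf J P) hY,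
    AddEquiv.symm_apply_apply]

lemma e0_natural {P Q : Cᵒᵖ ⥤ AddCommGrpCat.{u}} (φ : P ⟶ Q) (x : CohCx.cechH P Y 0) :
    e0 J Y hY Q (cechHMap Y φ 0 x) = HUmap (shfMap J φ) 0 U (e0 J Y hY P x) := by
  rw [e0_apply, e0_apply, ← cechHMap_comp, toSheafify_naturality, cechHMap_comp]
  set y := cechHMap Y (toSheafify J P) 0 x with hy
  obtain ⟨s, hs⟩ := (sectionsEquivCechH0 Y (shf J P) hY).surjective y
  rw [← hs, AddEquiv.symm_apply_apply]
  have h := sectionsEquivCechH0_naturality Y hY (shfMap J φ) s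
  have h2 : (sectionsEquivCechH0 Y (shf J Q) hY).symm
      (cechHMap Y (sheafifyMap J φ) 0 (sectionsEquivCechH0 Y (shf J P) hY s)) =
      (shfMap J φ).hom.app (op U) s := by
    rw [AddEquiv.symm_apply_eq]
    exact h
  rw [h2]
  exact (sectH0_naturality (shfMap J φ) s).symm

end Groth.Agent.Lib.Helper47.CechEdgeLib
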