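import Groth.Agent.Lib.Helper47.CechEdge2

set_option autoImplicit false
set_option linter.unusedSectionVars false
universe u
open CategoryTheory CategoryTheory.Limits Opposite

namespace Groth.Agent.Lib.Helper47.CechEdgeLib

open Groth.Agent.Lib.Cohomology.SiteCech Groth.Agent.Lib.Helper47.CechFree
  Groth.Agent.Lib.Helper47.CechDelta Groth.Agent.Lib.Cohomology.ExtDelta CechEdge

variable {C : Type u} [SmallCategory C] [HasPullbacks C] (J : GrothendieckTopology C)
  {U : C} {ι : Type u} (Y : ι → Over U)
  (hY : Sieve.ofArrows (fun i => (Y i).left) (fun i => (Y i).hom) ∈ J U)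

/-- the degree-zero natural transformation -/
noncomputable def t₀ : (T₁ Y).F 0 ⟶ (T₂ J U).F 0 where
  app P := AddCommGrpCat.ofHom (e0 J Y hY P)
  naturality P Q φ := by
    ext x
    exact e0_natural J Y hY φ x

/-- the morphism of delta-functors extending `t₀` -/
noncomputable def τ : T₁ Y ⟶ T₂ J U := (T₁_universal Y (T₂ J U) (t₀ J Y hY)).exists.choose

lemma τ_zero : (τ J Y hY).app 0 = t₀ J Y hY :=
  (T₁_universal Y (T₂ J U) (t₀ J Y hY)).exists.choose_spec

/-- the edge family -/
noncomputable def edge (P : Cᵒᵖ ⥤ AddCommGrpCat.{u}) (p : ℕ) :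
    CohCx.cechH P Y p →+ CohSite.HU (shf J P) p U :=
  (((τ J Y hY).app p).app P).hom

lemma edge_zero (P : Cᵒᵖ ⥤ AddCommGrpCat.{u}) : edge J Y hY P 0 = e0 J Y hY P := by
  unfold edge
  rw [τ_zero]
  rfl

theorem isEdge_edge : IsEdge J Y (edge J Y hY) where
  cover := hY
  zero P s := by
    rw [edge_zero]
    exact e0_toCech J Y hY P s
  natural P Q φ p x := by
    have h := ((τ J Y hY).app p).naturality φ
    exact ConcreteCategory.congr_hom h x
  delta S hS hC p x := by
    have h := (τ J Y hY).comm S hS p (p + 1) rfl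
    exact ConcreteCategory.congr_hom h x

end Groth.Agent.Lib.Helper47.CechEdgeLib
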