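import Groth.Agent.Lib.Helper47.CechEdge3

set_option autoImplicit false
set_option linter.unusedSectionVars false
universe u
open CategoryTheory CategoryTheory.Limits Opposite

namespace Groth.Agent.Lib.Helper47.CechEdgeLib

open Groth.Agent.Lib.Cohomology.SiteCech Groth.Agent.Lib.Helper47.CechFree
  Groth.Agent.Lib.Helper47.CechDelta Groth.Agent.Lib.Cohomology.ExtDelta CechEdge

variable {C : Type u} [SmallCategory C] [HasPullbacks C] (J : GrothendieckTopology C)
  {U : C} {ι : Type u} (Y : ι → Over U)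

variable {J Y}
variable {e : ∀ (P : Cᵒᵖ ⥤ AddCommGrpCat.{u}) (p : ℕ), CohCx.cechH P Y p →+ CohSite.HU (shf J P) p U}

/-- an edge family gives a morphism of delta-functors -/
noncomputable def homOfEdge (he : IsEdge J Y e) : T₁ Y ⟶ T₂ J U where
  app p :=
    { app := fun P => AddCommGrpCat.ofHom (e P p)
      naturality := fun P Q φ => by
        ext x
        exact he.natural P Q φ p x }
  comm S hS n₀ n₁ h := by
    subst h
    ext x
    exact he.delta S hS (shortExact_map_GG Y hS) n₀ x

instance isIso_shfMap_toSheafify (P : Cᵒᵖ ⥤ AddCommGrpCat.{u}) :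
    IsIso (shfMap J (toSheafify J P)) := by
  have h := (sheafificationAdjunction J AddCommGrpCat.{u}).left_triangle_components P
  have h2 : IsIso ((sheafificationAdjunction J AddCommGrpCat.{u}).counit.app
      ((presheafToSheaf J AddCommGrpCat.{u}).obj P)) := inferInstance
  exact IsIso.of_isIso_fac_right h

lemma HUmap_injective_of_isIso {F G : Sheaf J AddCommGrpCat.{u}} (ψ : F ⟶ G) [IsIso ψ] (p : ℕ) :
    Function.Injective (HUmap ψ p U) := by
  have h : IsIso (((Sheaf.cohomologyPresheafFunctor J p).map ψ).app (op U)) := inferInstance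
  exact ((ConcreteCategory.isIso_iff_bijective _).1 h).1

variable {e' : ∀ (P : Cᵒᵖ ⥤ AddCommGrpCat.{u}) (p : ℕ), CohCx.cechH P Y p →+ CohSite.HU (shf J P) p U}

lemma edge_zero_eq (he : IsEdge J Y e) (he' : IsEdge J Y e') (P : Cᵒᵖ ⥤ AddCommGrpCat.{u})
    (x : CohCx.cechH P Y 0) : e P 0 x = e' P 0 x := by
  apply HUmap_injective_of_isIso (shfMap J (toSheafify J P)) 0
  rw [← he.natural, ← he'.natural]
  obtain ⟨s, hs⟩ := (sectionsEquivCechH0 Y (shf J P) he.cover).surjective
    (cechHMap Y (toSheafify J P) 0 x)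
  rw [← hs, sectionsEquivCechH0_eq_toCech]
  exact (he.zero _ s).trans (he'.zero _ s).symm

theorem isEdge_unique (he : IsEdge J Y e) (he' : IsEdge J Y e') : e = e' := by
  have h0 : (homOfEdge he).app 0 = (homOfEdge he').app 0 := by
    ext P x
    exact edge_zero_eq he he' P x
  have h : homOfEdge he = homOfEdge he' :=
    (T₁_universal Y (T₂ J U) ((homOfEdge he').app 0)).unique h0 rfl
  funext P p
  have h2 := congrArg (fun σ : T₁ Y ⟶ T₂ J U => ((σ.app p).app P).hom) h
  exact h2

end Groth.Agent.Lib.Helper47.CechEdgeLib
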