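import Groth.Agent.Lib.Helper47.CechEdge4

set_option autoImplicit false
set_option linter.unusedSectionVars false
universe u v' u'
open CategoryTheory CategoryTheory.Limits Opposite

namespace Groth.Agent.Lib.Helper47.CechEdgeLib

open Groth.Agent.Lib.Cohomology.SiteCech Groth.Agent.Lib.Helper47.CechFree
  Groth.Agent.Lib.Helper47.CechDelta Groth.Agent.Lib.Cohomology.ExtDelta CechEdge

section Abstract

lemma apply_eq_zero_of_isZero_tgt {X Y : AddCommGrpCat.{u}} (f : X ⟶ Y) (h : IsZero Y) (x : X) :
    f x = 0 := by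
  rw [h.eq_of_tgt f 0]
  rfl

variable {A : Type u'} [Category.{v'} A] [Abelian A]
  {T T' : DeltaF.CohDeltaFunctor A AddCommGrpCat.{u} ℕ} (τ : T ⟶ T')

lemma τ_naturality_apply {X X' : A} (f : X ⟶ X') (n : ℕ) (x : (T.F n).obj X) :
    (τ.app n).app X' ((T.F n).map f x) = (T'.F n).map f ((τ.app n).app X x) :=
  ConcreteCategory.congr_hom ((τ.app n).naturality f) x

lemma τ_comm_apply (S : ShortComplex A) (hS : S.ShortExact) (n : ℕ) (x : (T.F n).obj S.X₃) :
    (τ.app (n + 1)).app S.X₁ (T.δ S hS n (n + 1) rfl x) =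
      T'.δ S hS n (n + 1) rfl ((τ.app n).app S.X₃ x) :=
  ConcreteCategory.congr_hom (τ.comm S hS n (n + 1) rfl) x

/-- dimension shifting: injectivity -/
lemma injective_succ_of_shift (S : ShortComplex A) (hS : S.ShortExact) (n : ℕ)
    (h1 : IsZero ((T.F (n + 1)).obj S.X₂))
    (hM : Function.Surjective ((τ.app n).app S.X₂))
    (hN : Function.Injective ((τ.app n).app S.X₃)) :
    Function.Injective ((τ.app (n + 1)).app S.X₁) := by
  rw [injective_iff_map_eq_zero]
  intro x hx
  have e1 := (ShortComplex.ab_exact_iff _).1 (T.exact₁ S hS n (n + 1) rfl)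
  obtain ⟨y, rfl⟩ := e1 x (apply_eq_zero_of_isZero_tgt _ h1 x)
  rw [τ_comm_apply] at hx
  have e3 := (ShortComplex.ab_exact_iff _).1 (T'.exact₃ S hS n (n + 1) rfl)
  obtain ⟨m', hm'⟩ := e3 _ hx
  obtain ⟨m, rfl⟩ := hM m'
  have h2 : (T'.F n).map S.g ((τ.app n).app S.X₂ m) = (τ.app n).app S.X₃ y := hm'
  rw [← τ_naturality_apply] at h2
  have h3 := hN h2
  rw [← h3]
  exact ConcreteCategory.congr_hom (T.comp_δ S hS n (n + 1) rfl) m

/-- dimension shifting: surjectivity -/
lemma surjective_succ_of_shift (S : ShortComplex A) (hS : S.ShortExact) (n : ℕ)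
    (h1 : IsZero ((T'.F (n + 1)).obj S.X₂))
    (hN : Function.Surjective ((τ.app n).app S.X₃)) :
    Function.Surjective ((τ.app (n + 1)).app S.X₁) := by
  intro z
  have e1 := (ShortComplex.ab_exact_iff _).1 (T'.exact₁ S hS n (n + 1) rfl)
  obtain ⟨w, rfl⟩ := e1 z (apply_eq_zero_of_isZero_tgt _ h1 z)
  obtain ⟨y, rfl⟩ := hN w
  exact ⟨T.δ S hS n (n + 1) rfl y, τ_comm_apply τ S hS n y⟩

end Abstract

variable {C : Type u} [SmallCategory C] [HasPullbacks C] {J : GrothendieckTopology C}
  {U : C} {ι : Type u} {Y : ι → Over U}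

section Resolve

variable (F : Sheaf J AddCommGrpCat.{u})

/-- the presheaf map underlying the chosen injective embedding of `F` -/
noncomputable abbrev jF : F.obj ⟶ (Injective.under F).obj :=
  (sheafToPresheaf J AddCommGrpCat.{u}).map (Injective.ι F)

instance mono_jF : Mono (jF F) := by
  unfold jF
  infer_instance

/-- the short exact sequence of presheaves `0 → F → I → I/F → 0` -/
noncomputable def SP : ShortComplex (Cᵒᵖ ⥤ AddCommGrpCat.{u}) :=
  ShortComplex.mk (jF F) (cokernel.π (jF F)) (cokernel.condition _)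

lemma SP_shortExact : (SP F).ShortExact :=
  { exact := ShortComplex.exact_cokernel _
    mono_f := mono_jF F
    epi_g := (inferInstance : Epi (cokernel.π (jF F))) }

instance injective_SP_X₂ : Injective (SP F).X₂ :=
  injective_presheaf_of_injective_sheaf J (Injective.under F)

/-- the presheaf quotient `I/F` is separated: it embeds into its sheafification -/
instance mono_toSheafify_SP_X₃ : Mono (toSheafify J (SP F).X₃) := by
  let Q : Sheaf J AddCommGrpCat.{u} := cokernel (Injective.ι F)
  let Ssh : ShortComplex (Sheaf J AddCommGrpCat.{u}) :=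
    ShortComplex.mk (Injective.ι F) (cokernel.π (Injective.ι F)) (cokernel.condition _)
  have hSsh : Ssh.ShortExact :=
    { exact := ShortComplex.exact_cokernel _
      mono_f := (inferInstance : Mono (Injective.ι F))
      epi_g := (inferInstance : Epi (cokernel.π (Injective.ι F))) }
  have hlex := ((Functor.preservesFiniteLimits_tfae (sheafToPresheaf J AddCommGrpCat.{u})).out 3 0).1
    (inferInstance : PreservesFiniteLimits (sheafToPresheaf J AddCommGrpCat.{u}))
  have hex : (Ssh.map (sheafToPresheaf J AddCommGrpCat.{u})).Exact := (hlex Ssh hSsh).1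
  let m : (SP F).X₃ ⟶ Q.obj :=
    cokernel.desc (jF F) ((sheafToPresheaf J AddCommGrpCat.{u}).map (cokernel.π (Injective.ι F)))
      (Ssh.map (sheafToPresheaf J AddCommGrpCat.{u})).zero
  have hm : Mono m := hex.mono_cokernelDesc
  have hfac : toSheafify J (SP F).X₃ ≫ sheafifyLift J m Q.property = m :=
    toSheafify_sheafifyLift J m Q.property
  exact mono_of_mono_fac hfac

end Resolve

section E0

variable (hY : Sieve.ofArrows (fun i => (Y i).left) (fun i => (Y i).hom) ∈ J U)

lemma cechHMap_bijective_of_isIso {P Q : Cᵒᵖ ⥤ AddCommGrpCat.{u}} (φ : P ⟶ Q) [IsIso φ] (p : ℕ) :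
    Function.Bijective (cechHMap Y φ p) := by
  have h : IsIso ((EtCech.cechHFunctor (C := C) Y p).map φ) := inferInstance
  exact (ConcreteCategory.isIso_iff_bijective _).1 h

lemma cechHMap_injective_of_mono {P Q : Cᵒᵖ ⥤ AddCommGrpCat.{u}} (φ : P ⟶ Q) [Mono φ] :
    Function.Injective (cechHMap Y φ 0) := by
  have := preservesFiniteLimits_cechH0 (C := C) Y
  have h : Mono ((EtCech.cechHFunctor (C := C) Y 0).map φ) := inferInstance
  exact (AddCommGrpCat.mono_iff_injective _).1 h

lemma e0_bijective_of_sheaf (G : Sheaf J AddCommGrpCat.{u}) :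
    Function.Bijective (e0 J Y hY G.obj) := by
  have : IsIso (toSheafify J G.obj) := isIso_toSheafify J G.property
  have h1 := cechHMap_bijective_of_isIso (Y := Y) (toSheafify J G.obj) 0
  have h2 := (sectionsEquivCechH0 Y (shf J G.obj) hY).symm.bijective
  have h3 := (sectH0 J U (shf J G.obj)).bijective
  exact h3.comp (h2.comp h1)

lemma e0_injective_of_mono (P : Cᵒᵖ ⥤ AddCommGrpCat.{u}) [Mono (toSheafify J P)] :
    Function.Injective (e0 J Y hY P) := by
  have h1 := cechHMap_injective_of_mono (Y := Y) (toSheafify J P)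
  have h2 := (sectionsEquivCechH0 Y (shf J P) hY).symm.injective
  have h3 := (sectH0 J U (shf J P)).injective
  exact h3.comp (h2.comp h1)

end E0

variable {e : ∀ (P : Cᵒᵖ ⥤ AddCommGrpCat.{u}) (p : ℕ), CohCx.cechH P Y p →+ CohSite.HU (shf J P) p U}

lemma edge_zero_eq_e0 (he : IsEdge J Y e) (P : Cᵒᵖ ⥤ AddCommGrpCat.{u}) :
    e P 0 = e0 J Y he.cover P := by
  ext x
  rw [edge_zero_eq he (isEdge_edge J Y he.cover) P x, edge_zero]

theorem edge_one_injective (he : IsEdge J Y e) (F : Sheaf J AddCommGrpCat.{u}) :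
    Function.Injective (e F.obj 1) := by
  have h1 : IsZero (((T₁ Y).F (0 + 1)).obj (SP F).X₂) :=
    isZero_cech_homology_of_injective Y (SP F).X₂ 0
  have hM : Function.Surjective (((homOfEdge he).app 0).app (SP F).X₂) := by
    change Function.Surjective (e (Injective.under F).obj 0)
    rw [edge_zero_eq_e0 he]
    exact (e0_bijective_of_sheaf he.cover (Injective.under F)).2
  have hN : Function.Injective (((homOfEdge he).app 0).app (SP F).X₃) := by
    change Function.Injective (e (SP F).X₃ 0)
    rw [edge_zero_eq_e0 he]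
    exact e0_injective_of_mono he.cover (SP F).X₃
  exact injective_succ_of_shift (homOfEdge he) (SP F) (SP_shortExact F) 0 h1 hM hN

theorem edgeSh_one_injective (he : IsEdge J Y e) (F : Sheaf J AddCommGrpCat.{u}) :
    Function.Injective (edgeSh e F 1) := by
  have h1 : Function.Injective
      (HUmap ((sheafificationAdjunction J AddCommGrpCat.{u}).counit.app F) 1 U) :=
    HUmap_injective_of_isIso _ 1
  exact h1.comp (edge_one_injective he F)

end Groth.Agent.Lib.Helper47.CechEdgeLib
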