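import Groth.Agent.Lib.Helper47.CechEdge5

set_option autoImplicit false
set_option linter.unusedSectionVars false
universe u
open CategoryTheory CategoryTheory.Limits Opposite

namespace Groth.Agent.Lib.Helper47.CechEdgeLib

open Groth.Agent.Lib.Cohomology.SiteCech Groth.Agent.Lib.Helper47.CechFree
  Groth.Agent.Lib.Helper47.CechDelta Groth.Agent.Lib.Cohomology.ExtDelta CechEdge

variable {C : Type u} [SmallCategory C] [HasPullbacks C] {J : GrothendieckTopology C}
  {U : C} {ι : Type u} {Y : ι → Over U}

/-- a morphism of presheaves which is bijective on all the fibre products of the family induces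
an isomorphism on Čech cohomology -/
lemma cechHMap_bijective_of_bijective_on_inter {P Q : Cᵒᵖ ⥤ AddCommGrpCat.{u}} (φ : P ⟶ Q)
    (h : ∀ (n : ℕ) (i : Fin (n + 1) → ι), Function.Bijective (φ.app (op (inter Y i).left)))
    (p : ℕ) : Function.Bijective (cechHMap Y φ p) := by
  have hf : ∀ n, IsIso (((GG Y).map φ).f n) := by
    intro n
    rw [ConcreteCategory.isIso_iff_bijective]
    constructor
    · intro x x' hx
      refine cx_ext (resP P) Y (fun i => ?_)
      apply (h n i).1
      have h1 := GG_map_proj_apply Y φ n i x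
      have h2 := GG_map_proj_apply Y φ n i x'
      rw [hx] at h1
      exact h1.symm.trans h2
    · intro y
      choose x hx using fun i => (h n i).2 (proj (resP Q) Y n i y)
      refine ⟨(cochEquiv (resP P) Y n).symm x, cx_ext (resP Q) Y (fun i => ?_)⟩
      exact (GG_map_proj_apply Y φ n i _).trans
        ((congrArg (φ.app (op (inter Y i).left)) (proj_cochEquiv_symm (resP P) Y n x i)).trans (hx i))
  have hiso : IsIso ((GG Y).map φ) := HomologicalComplex.Hom.isIso_of_components _
  have h2 : IsIso (HomologicalComplex.homologyMap ((GG Y).map φ) p) := inferInstance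
  exact (ConcreteCategory.isIso_iff_bijective _).1 h2

lemma HUmap_bijective_of_isIso {F G : Sheaf J AddCommGrpCat.{u}} (ψ : F ⟶ G) [IsIso ψ] (p : ℕ)
    (V : C) : Function.Bijective (HUmap ψ p V) := by
  have h : IsIso (((Sheaf.cohomologyPresheafFunctor J p).map ψ).app (op V)) := inferInstance
  exact (ConcreteCategory.isIso_iff_bijective _).1 h

variable {e : ∀ (P : Cᵒᵖ ⥤ AddCommGrpCat.{u}) (p : ℕ), CohCx.cechH P Y p →+ CohSite.HU (shf J P) p U}

/-- reduction from a presheaf to its sheafification -/
lemma edge_bijective_of_sheafify (he : IsEdge J Y e) (P : Cᵒᵖ ⥤ AddCommGrpCat.{u})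
    (h : ∀ (n : ℕ) (i : Fin (n + 1) → ι),
      Function.Bijective ((toSheafify J P).app (op (inter Y i).left)))
    (p : ℕ) (hb : Function.Bijective (e (shf J P).obj p)) : Function.Bijective (e P p) := by
  have h1 := cechHMap_bijective_of_bijective_on_inter (toSheafify J P) h p
  have h2 := HUmap_bijective_of_isIso (shfMap J (toSheafify J P)) p U
  have h3 : (HUmap (shfMap J (toSheafify J P)) p U) ∘ (e P p) =
      (e (shf J P).obj p) ∘ (cechHMap Y (toSheafify J P) p) := by
    funext x
    exact (he.natural P (shf J P).obj (toSheafify J P) p x).symm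
  have h4 : Function.Bijective ((HUmap (shfMap J (toSheafify J P)) p U) ∘ (e P p)) := by
    rw [h3]
    exact hb.comp h1
  exact (Function.Bijective.of_comp_iff' h2 _).1 h4

end Groth.Agent.Lib.Helper47.CechEdgeLib
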