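import Groth.Agent.Lib.Helper47.CechEdge6

set_option autoImplicit false
set_option linter.unusedSectionVars false
universe u
open CategoryTheory CategoryTheory.Limits Opposite

namespace Groth.Agent.Lib.Helper47.CechEdgeLib

open Groth.Agent.Lib.Cohomology.SiteCech Groth.Agent.Lib.Helper47.CechFree
  Groth.Agent.Lib.Helper47.CechDelta Groth.Agent.Lib.Cohomology.ExtDelta CechEdge

variable {C : Type u} [SmallCategory C] [HasPullbacks C] {J : GrothendieckTopology C}
  {U : C} {ι : Type u} {Y : ι → Over U}

instance injective_shf_obj (I : Sheaf J AddCommGrpCat.{u}) [Injective I] :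
    Injective (shf J I.obj) :=
  Injective.of_iso (asIso ((sheafificationAdjunction J AddCommGrpCat.{u}).counit.app I)).symm
    inferInstance

lemma subsingleton_HU_of_injective (I : Sheaf J AddCommGrpCat.{u}) [Injective I] (q : ℕ) (V : C) :
    Subsingleton (CohSite.HU I (q + 1) V) :=
  subsingleton_of_forall_eq 0 (fun e => Abelian.Ext.eq_zero_of_injective e)

lemma subsingleton_HU_shf_of_subsingleton (G : Sheaf J AddCommGrpCat.{u}) (q : ℕ) (V : C)
    (h : Subsingleton (CohSite.HU G q V)) : Subsingleton (CohSite.HU (shf J G.obj) q V) :=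
  haveI : Subsingleton (CohSite.HU ((𝟭 (Sheaf J AddCommGrpCat.{u})).obj G) q V) := h
  (HUmap_bijective_of_isIso ((sheafificationAdjunction J AddCommGrpCat.{u}).counit.app G) q
    V).1.subsingleton

lemma isZero_T₂_of_subsingleton (P : Cᵒᵖ ⥤ AddCommGrpCat.{u}) (q : ℕ) (V : C)
    (h : Subsingleton (CohSite.HU (shf J P) q V)) : IsZero (((T₂ J V).F q).obj P) := by
  have : Subsingleton ↑(((T₂ J V).F q).obj P) := h
  exact AddCommGrpCat.isZero_of_subsingleton _

lemma subsingleton_HU_shf_SP_X₃ (G : Sheaf J AddCommGrpCat.{u}) (V : C) (q : ℕ)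
    (h : Subsingleton (CohSite.HU G (q + 2) V)) :
    Subsingleton (CohSite.HU (shf J (SP G).X₃) (q + 1) V) := by
  have e3 := (T₂ J V).exact₃ (SP G) (SP_shortExact G) (q + 1) (q + 2) rfl
  have h2 : IsZero (((T₂ J V).F (q + 1)).obj (SP G).X₂) :=
    isZero_T₂_of_subsingleton _ _ _ (subsingleton_HU_of_injective (shf J (Injective.under G).obj) q V)
  have h1 : IsZero (((T₂ J V).F (q + 2)).obj (SP G).X₁) :=
    isZero_T₂_of_subsingleton _ _ _ (subsingleton_HU_shf_of_subsingleton G (q + 2) V h)
  have hz : IsZero (((T₂ J V).F (q + 1)).obj (SP G).X₃) :=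
    e3.isZero_X₂ (h2.eq_of_src _ _) (h1.eq_of_tgt _ _)
  exact AddCommGrpCat.subsingleton_of_isZero hz

/-- the presheaf quotient `I/G` has the same sections as its sheafification over any object on
which `H^1` of `G` vanishes -/
lemma toSheafify_SP_X₃_bijective (G : Sheaf J AddCommGrpCat.{u}) (V : C)
    (h : Subsingleton (CohSite.HU G 1 V)) :
    Function.Bijective ((toSheafify J (SP G).X₃).app (op V)) := by
  constructor
  · have h1 : Mono ((toSheafify J (SP G).X₃).app (op V)) := inferInstance
    exact (AddCommGrpCat.mono_iff_injective _).1 h1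
  · intro t
    have e3 := (ShortComplex.ab_exact_iff _).1
      ((T₂ J V).exact₃ (SP G) (SP_shortExact G) 0 1 rfl)
    have h1 : IsZero (((T₂ J V).F 1).obj (SP G).X₁) :=
      isZero_T₂_of_subsingleton _ _ _ (subsingleton_HU_shf_of_subsingleton G 1 V h)
    obtain ⟨x, hx⟩ := e3 (sectH0 J V (shf J (SP G).X₃) t) (apply_eq_zero_of_isZero_tgt _ h1 _)
    obtain ⟨s, rfl⟩ := (sectH0 J V (shf J (SP G).X₂)).surjective x
    have hx' : HUmap (shfMap J (SP G).g) 0 V (sectH0 J V (shf J (SP G).X₂) s) =
      sectH0 J V (shf J (SP G).X₃) t := hx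
    rw [sectH0_naturality] at hx'
    have hx'' := (sectH0 J V (shf J (SP G).X₃)).injective hx'
    have hiso : IsIso (toSheafify J (SP G).X₂) := isIso_toSheafify J (Injective.under G).property
    have hiso' : IsIso ((toSheafify J (SP G).X₂).app (op V)) := inferInstance
    obtain ⟨s', rfl⟩ := ((ConcreteCategory.isIso_iff_bijective _).1 hiso').2 s
    refine ⟨(SP G).g.app (op V) s', ?_⟩
    rw [← hx'']
    have hn := toSheafify_naturality J (SP G).g
    have hn' := congrArg (fun f => (NatTrans.app f (op V))) hn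
    exact (ConcreteCategory.congr_hom hn' s')

/-- acyclicity of a sheaf on all the fibre products of the family -/
def Acyc (Y : ι → Over U) (G : Sheaf J AddCommGrpCat.{u}) : Prop :=
  ∀ (n : ℕ) (a : Fin (n + 1) → ι) (q : ℕ), Subsingleton (CohSite.HU G (q + 1) (inter Y a).left)

lemma acyc_of_injective (I : Sheaf J AddCommGrpCat.{u}) [Injective I] : Acyc Y I :=
  fun _ _ q => subsingleton_HU_of_injective I q _

lemma acyc_shf_SP_X₃ (G : Sheaf J AddCommGrpCat.{u}) (h : Acyc Y G) :
    Acyc Y (shf J (SP G).X₃) :=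
  fun n a q => subsingleton_HU_shf_SP_X₃ G _ q (h n a (q + 1))

variable {e : ∀ (P : Cᵒᵖ ⥤ AddCommGrpCat.{u}) (p : ℕ), CohCx.cechH P Y p →+ CohSite.HU (shf J P) p U}

/-- Leray: the edge maps are bijective on sheaves acyclic on the fibre products of the family -/
theorem edge_bijective_of_acyc (he : IsEdge J Y e) :
    ∀ (p : ℕ) (G : Sheaf J AddCommGrpCat.{u}), Acyc Y G → Function.Bijective (e G.obj p) := by
  intro p
  induction p with
  | zero =>
    intro G _
    rw [edge_zero_eq_e0 he]
    exact e0_bijective_of_sheaf he.cover G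
  | succ p ih =>
    intro G hG
    have hN : Function.Bijective (e (SP G).X₃ p) :=
      edge_bijective_of_sheafify he (SP G).X₃
        (fun n i => toSheafify_SP_X₃_bijective G _ (hG n i 0)) p
        (ih (shf J (SP G).X₃) (acyc_shf_SP_X₃ G hG))
    have hM : Function.Bijective (e (SP G).X₂ p) := ih (Injective.under G) (acyc_of_injective _)
    constructor
    · have h1 : IsZero (((T₁ Y).F (p + 1)).obj (SP G).X₂) :=
        isZero_cech_homology_of_injective Y (SP G).X₂ p
      exact injective_succ_of_shift (homOfEdge he) (SP G) (SP_shortExact G) p h1 hM.2 hN.1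
    · have h1 : IsZero (((T₂ J U).F (p + 1)).obj (SP G).X₂) :=
        isZero_T₂_of_subsingleton _ _ _
          (subsingleton_HU_of_injective (shf J (Injective.under G).obj) p U)
      exact surjective_succ_of_shift (homOfEdge he) (SP G) (SP_shortExact G) p h1 hN.2

theorem edgeSh_bijective_of_acyc (he : IsEdge J Y e) (F : Sheaf J AddCommGrpCat.{u})
    (h : Acyc Y F) (p : ℕ) : Function.Bijective (edgeSh e F p) := by
  have h1 : Function.Bijective
      (HUmap ((sheafificationAdjunction J AddCommGrpCat.{u}).counit.app F) p U) :=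
    HUmap_bijective_of_isIso _ p U
  exact h1.comp (edge_bijective_of_acyc he p F h)

end Groth.Agent.Lib.Helper47.CechEdgeLib
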