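import Groth.Agent.Lib.Helper47.CechEdge7

set_option autoImplicit false
set_option linter.unusedSectionVars false
universe u
open CategoryTheory CategoryTheory.Limits Opposite

namespace Groth.Agent.Lib.Helper47.CechEdgeLib

open Groth.Agent.Lib.Cohomology.SiteCech Groth.Agent.Lib.Helper47.CechFree
  Groth.Agent.Lib.Helper47.CechDelta Groth.Agent.Lib.Cohomology.ExtDelta CechEdge

variable {C : Type u} [SmallCategory C] [HasPullbacks C] {J : GrothendieckTopology C}
  {U : C} {ι κ : Type u} {Y : ι → Over U} {Y' : κ → Over U}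
  (f : FormalCoproduct.mk ι Y ⟶ FormalCoproduct.mk κ Y')

/-- the refinement map as a natural transformation of Čech complex functors -/
noncomputable def refineNT : cxFunctor (C := C) Y' ⟶ cxFunctor (C := C) Y :=
  Functor.whiskerLeft ((Functor.whiskeringLeft (Over U)ᵒᵖ Cᵒᵖ AddCommGrpCat.{u}).obj (Over.forget U).op ⋙
      FormalCoproduct.evalOp.{u} (Over U) AddCommGrpCat.{u})
    (Functor.whiskerRight
      ((Functor.whiskeringLeft _ _ _).map (NatTrans.rightOp (FormalCoproduct.cechFunctor.map f)))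
      (AlgebraicTopology.alternatingCofaceMapComplex AddCommGrpCat.{u}))

lemma refineNT_app (P : Cᵒᵖ ⥤ AddCommGrpCat.{u}) :
    (refineNT f).app P = CohCx.cechRefine P f := rfl

/-- the refinement map on Čech cohomology -/
noncomputable abbrev refineH (P : Cᵒᵖ ⥤ AddCommGrpCat.{u}) (p : ℕ) :
    CohCx.cechH P Y' p →+ CohCx.cechH P Y p :=
  (HomologicalComplex.homologyMap (CohCx.cechRefine P f) p).hom

lemma refineH_natural {P Q : Cᵒᵖ ⥤ AddCommGrpCat.{u}} (φ : P ⟶ Q) (p : ℕ)
    (x : CohCx.cechH P Y' p) :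
    cechHMap Y φ p (refineH f P p x) = refineH f Q p (cechHMap Y' φ p x) := by
  have h := (refineNT f).naturality φ
  have h2 := congrArg (fun g => HomologicalComplex.homologyMap g p) h
  simp only [HomologicalComplex.homologyMap_comp] at h2
  exact (ConcreteCategory.congr_hom h2 x).symm

lemma refineH_delta (S : ShortComplex (Cᵒᵖ ⥤ AddCommGrpCat.{u}))
    (hC' : (S.map (cxFunctor Y')).ShortExact) (hC : (S.map (cxFunctor Y)).ShortExact) (p : ℕ)
    (x : CohCx.cechH S.X₃ Y' p) :
    refineH f S.X₁ (p + 1) ((hC'.δ p (p + 1) rfl).hom x) =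
      (hC.δ p (p + 1) rfl).hom (refineH f S.X₃ p x) := by
  have h := HomologicalComplex.HomologySequence.δ_naturality (S.mapNatTrans (refineNT f)) hC' hC
    p (p + 1) rfl
  exact ConcreteCategory.congr_hom h x

/-- the refinement map of Čech complexes, typed on `CechEdge.cx` -/
noncomputable def refineCx (P : Cᵒᵖ ⥤ AddCommGrpCat.{u}) : cx P Y' ⟶ cx P Y :=
  CohCx.cechRefine P f

lemma refine_proj (P : Cᵒᵖ ⥤ AddCommGrpCat.{u}) (n : ℕ) (i : Fin (n + 1) → ι) :
    (refineCx f P).f n ≫ proj (resP P) Y n i =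
      proj (resP P) Y' n (f.f ∘ i) ≫
        (resP P).map (Quiver.Hom.op (Y := inter Y' (f.f ∘ i)) (X := inter Y i)
          (Limits.Pi.map (fun a => f.φ (i a)))) := by
  dsimp [refineCx, CohCx.cechRefine, proj]
  erw [Pi.lift_π]
  rfl

lemma toCech₀_refine (P : Cᵒᵖ ⥤ AddCommGrpCat.{u}) :
    toCech₀ P Y' ≫ (refineCx f P).f 0 = toCech₀ P Y := by
  apply Pi.hom_ext
  intro (i : Fin 1 → ι)
  change (_ ≫ _) ≫ proj (resP P) Y 0 i = _ ≫ proj (resP P) Y 0 i
  rw [Category.assoc, refine_proj, ← Category.assoc, toCech₀_proj, toCech₀_proj]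
  refine (P.map_comp (inter Y' (f.f ∘ i)).hom.op
    (Quiver.Hom.op (Y := (inter Y' (f.f ∘ i)).left) (X := (inter Y i).left)
      (Limits.Pi.map fun a => f.φ (i a)).left)).symm.trans ?_
  congr 1
  exact congrArg Quiver.Hom.op (Over.w _)

lemma toCycles_refine (P : Cᵒᵖ ⥤ AddCommGrpCat.{u}) :
    toCycles P Y' ≫ HomologicalComplex.cyclesMap (refineCx f P) 0 = toCycles P Y := by
  rw [← cancel_mono ((cx P Y).iCycles 0), Category.assoc, HomologicalComplex.cyclesMap_i,
    ← Category.assoc, toCycles_i, toCycles_i]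
  exact toCech₀_refine f P

lemma refineH_toCech (P : Cᵒᵖ ⥤ AddCommGrpCat.{u}) (s : P.obj (op U)) :
    refineH f P 0 (toCech Y' P s) = toCech Y P s := by
  have h : (toCycles P Y' ≫ (cx P Y').homologyπ 0) ≫
      HomologicalComplex.homologyMap (refineCx f P) 0 = toCycles P Y ≫ (cx P Y).homologyπ 0 := by
    rw [Category.assoc, HomologicalComplex.homologyπ_naturality, ← Category.assoc,
      toCycles_refine]
  exact ConcreteCategory.congr_hom h s

variable (e : ∀ (P : Cᵒᵖ ⥤ AddCommGrpCat.{u}) (p : ℕ), CohCx.cechH P Y p →+ CohSite.HU (shf J P) p U)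

/-- the edge family of `Y` transported to `Y'` along the refinement -/
noncomputable def refEdge (P : Cᵒᵖ ⥤ AddCommGrpCat.{u}) (p : ℕ) :
    CohCx.cechH P Y' p →+ CohSite.HU (shf J P) p U :=
  (e P p).comp (refineH f P p)

variable {e}

theorem isEdge_refEdge (he : IsEdge J Y e)
    (hY' : Sieve.ofArrows (fun i => (Y' i).left) (fun i => (Y' i).hom) ∈ J U) :
    IsEdge J Y' (refEdge f e) where
  cover := hY'
  zero P s := by
    change e P 0 (refineH f P 0 (toCech Y' P s)) = _
    rw [refineH_toCech]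
    exact he.zero P s
  natural P Q φ p x := by
    change e Q p (refineH f Q p (cechHMap Y' φ p x)) = HUmap _ p U (e P p (refineH f P p x))
    rw [← refineH_natural]
    exact he.natural P Q φ p _
  delta S hS hC' p x :=
    (congrArg (e S.X₁ (p + 1)) (refineH_delta f S hC' (shortExact_map_GG Y hS) p x)).trans
      (he.delta S hS (shortExact_map_GG Y hS) p (refineH f S.X₃ p x))

variable {e' : ∀ (P : Cᵒᵖ ⥤ AddCommGrpCat.{u}) (p : ℕ), CohCx.cechH P Y' p →+ CohSite.HU (shf J P) p U}

theorem edge_refine_eq (he : IsEdge J Y e) (he' : IsEdge J Y' e') (P : Cᵒᵖ ⥤ AddCommGrpCat.{u})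
    (p : ℕ) (x : CohCx.cechH P Y' p) :
    e P p ((HomologicalComplex.homologyMap (CohCx.cechRefine P f) p).hom x) = e' P p x := by
  have h := isEdge_unique (isEdge_refEdge f he he'.cover) he'
  exact congrArg (fun g : ∀ (P : Cᵒᵖ ⥤ AddCommGrpCat.{u}) (p : ℕ),
    CohCx.cechH P Y' p →+ CohSite.HU (shf J P) p U => g P p x) h

theorem edgeSh_refine_eq (he : IsEdge J Y e) (he' : IsEdge J Y' e')
    (F : Sheaf J AddCommGrpCat.{u}) (p : ℕ) (x : CohCx.cechH F.obj Y' p) :
    edgeSh e F p ((HomologicalComplex.homologyMap (CohCx.cechRefine F.obj f) p).hom x) =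
      edgeSh e' F p x := by
  change HUmap _ p U (e F.obj p _) = HUmap _ p U (e' F.obj p x)
  rw [edge_refine_eq f he he']

end Groth.Agent.Lib.Helper47.CechEdgeLib
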