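import Mathlib
import Groth.Agent.Lib.Cohomology.helper5_SiteCech

set_option autoImplicit false
set_option linter.unusedSectionVars false
open CategoryTheory CategoryTheory.Limits Opposite
universe w v₁ u₁ v₂ u₂

/-!
# Čech complexes and product-preserving functors (helper47)

`isZero_homology_comp_of_preserves`: if `G : E ⥤ E'` preserves finite products, vanishing of the
Čech cohomology of `Q` for the family `G ∘ Y` implies that of `G.op ⋙ Q` for the family `Y`.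
-/

namespace Groth.Agent.Lib.Helper47.CechTwist

open Groth.Agent.Lib.Cohomology.SiteCech

section Twist

variable {E₁ : Type u₁} [Category.{v₁} E₁] [HasFiniteProducts E₁]
  {E₂ : Type u₂} [Category.{v₂} E₂] [HasFiniteProducts E₂]
  (Q₁ : E₁ᵒᵖ ⥤ AddCommGrpCat.{w}) (Q₂ : E₂ᵒᵖ ⥤ AddCommGrpCat.{w}) {ι : Type w}
  (Y₁ : ι → E₁) (Y₂ : ι → E₂)

/-- componentwise map of cochains -/
noncomputable def Tw (t : ∀ (n : ℕ) (i : Fin (n + 1) → ι),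
    Q₁.obj (op (inter Y₁ i)) →+ Q₂.obj (op (inter Y₂ i))) (n : ℕ)
    (c : (cx Q₁ Y₁).X n) : (cx Q₂ Y₂).X n :=
  (cochEquiv Q₂ Y₂ n).symm (fun i => t n i (proj Q₁ Y₁ n i c))

lemma proj_Tw (t : ∀ (n : ℕ) (i : Fin (n + 1) → ι),
    Q₁.obj (op (inter Y₁ i)) →+ Q₂.obj (op (inter Y₂ i))) (n : ℕ)
    (c : (cx Q₁ Y₁).X n) (i : Fin (n + 1) → ι) :
    proj Q₂ Y₂ n i (Tw Q₁ Q₂ Y₁ Y₂ t n c) = t n i (proj Q₁ Y₁ n i c) :=
  proj_cochEquiv_symm _ _ _ _ _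

lemma Tw_d (t : ∀ (n : ℕ) (i : Fin (n + 1) → ι),
    Q₁.obj (op (inter Y₁ i)) →+ Q₂.obj (op (inter Y₂ i)))
    (ht : ∀ (n : ℕ) (i : Fin (n + 2) → ι) (k : Fin (n + 2)) (x : Q₁.obj (op (inter Y₁ (i ∘ k.succAbove)))),
      t (n + 1) i (face Q₁ Y₁ i k x) = face Q₂ Y₂ i k (t n (i ∘ k.succAbove) x))
    (n : ℕ) (c : (cx Q₁ Y₁).X n) :
    (cx Q₂ Y₂).d n (n + 1) (Tw Q₁ Q₂ Y₁ Y₂ t n c) =
      Tw Q₁ Q₂ Y₁ Y₂ t (n + 1) ((cx Q₁ Y₁).d n (n + 1) c) := by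
  apply cx_ext
  intro i
  rw [proj_d_apply, proj_Tw, proj_d_apply, map_sum]
  refine Finset.sum_congr rfl fun k _ => ?_
  rw [map_zsmul, ht, proj_Tw]

lemma isZero_homology_of_Tw
    (t : ∀ (n : ℕ) (i : Fin (n + 1) → ι), Q₁.obj (op (inter Y₁ i)) →+ Q₂.obj (op (inter Y₂ i)))
    (s : ∀ (n : ℕ) (i : Fin (n + 1) → ι), Q₂.obj (op (inter Y₂ i)) →+ Q₁.obj (op (inter Y₁ i)))
    (hst : ∀ n i x, s n i (t n i x) = x)
    (ht : ∀ (n : ℕ) (i : Fin (n + 2) → ι) (k : Fin (n + 2)) (x : Q₁.obj (op (inter Y₁ (i ∘ k.succAbove)))),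
      t (n + 1) i (face Q₁ Y₁ i k x) = face Q₂ Y₂ i k (t n (i ∘ k.succAbove) x))
    (hs : ∀ (n : ℕ) (i : Fin (n + 2) → ι) (k : Fin (n + 2)) (x : Q₂.obj (op (inter Y₂ (i ∘ k.succAbove)))),
      s (n + 1) i (face Q₂ Y₂ i k x) = face Q₁ Y₁ i k (s n (i ∘ k.succAbove) x))
    (p : ℕ) (h : IsZero ((cx Q₂ Y₂).homology (p + 1))) : IsZero ((cx Q₁ Y₁).homology (p + 1)) := by
  rw [isZero_homology_succ_iff] at h ⊢
  intro c hc
  have h1 : (cx Q₂ Y₂).d (p + 1) (p + 2) (Tw Q₁ Q₂ Y₁ Y₂ t (p + 1) c) = 0 := by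
    rw [Tw_d Q₁ Q₂ Y₁ Y₂ t ht, hc]
    apply cx_ext
    intro i
    rw [proj_Tw, map_zero, map_zero, map_zero]
  obtain ⟨b', hb'⟩ := h _ h1
  refine ⟨Tw Q₂ Q₁ Y₂ Y₁ s p b', ?_⟩
  rw [Tw_d Q₂ Q₁ Y₂ Y₁ s hs, hb']
  apply cx_ext
  intro i
  rw [proj_Tw, proj_Tw, hst]

end Twist

section Pres

variable {E : Type u₁} [Category.{v₁} E] [HasFiniteProducts E]
  {E' : Type u₂} [Category.{v₂} E'] [HasFiniteProducts E']
  (G : E ⥤ E') [PreservesFiniteProducts G] (Q : E'ᵒᵖ ⥤ AddCommGrpCat.{w}) {ι : Type w} (Y : ι → E)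

/-- comparison isomorphism `G(∏ Y_i) ≅ ∏ G(Y_i)` -/
noncomputable def compIso {n : ℕ} (i : Fin (n + 1) → ι) :
    G.obj (inter Y i) ≅ inter (G.obj ∘ Y) i :=
  PreservesProduct.iso G (Y ∘ i)

lemma compIso_hom_π {n : ℕ} (i : Fin (n + 1) → ι) (a : Fin (n + 1)) :
    (compIso G Y i).hom ≫ Pi.π ((G.obj ∘ Y) ∘ i) a = G.map (Pi.π (Y ∘ i) a) := by
  unfold compIso
  rw [PreservesProduct.iso_hom]
  exact piComparison_comp_π G (Y ∘ i) a

lemma compIso_face {n : ℕ} (i : Fin (n + 2) → ι) (k : Fin (n + 2)) :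
    (compIso G Y i).hom ≫ faceHom (G.obj ∘ Y) i k =
      G.map (faceHom Y i k) ≫ (compIso G Y (i ∘ k.succAbove)).hom := by
  apply Pi.hom_ext
  intro b
  rw [Category.assoc, Category.assoc, faceHom_π, compIso_hom_π]
  have h2 := compIso_hom_π G Y (i ∘ k.succAbove) b
  rw [h2, ← G.map_comp, faceHom_π]

lemma compIso_face_inv {n : ℕ} (i : Fin (n + 2) → ι) (k : Fin (n + 2)) :
    (compIso G Y i).inv ≫ G.map (faceHom Y i k) =
      faceHom (G.obj ∘ Y) i k ≫ (compIso G Y (i ∘ k.succAbove)).inv := by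
  rw [Iso.inv_comp_eq, ← Category.assoc, Iso.eq_comp_inv]
  exact (compIso_face G Y i k).symm

theorem isZero_homology_comp_of_preserves (p : ℕ)
    (h : IsZero ((cx Q (G.obj ∘ Y)).homology (p + 1))) :
    IsZero ((cx (G.op ⋙ Q) Y).homology (p + 1)) := by
  refine isZero_homology_of_Tw (G.op ⋙ Q) Q Y (G.obj ∘ Y)
    (fun n i => (Q.map (compIso G Y i).inv.op).hom)
    (fun n i => (Q.map (compIso G Y i).hom.op).hom) ?_ ?_ ?_ p h
  · intro n i x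
    change (Q.map (compIso G Y i).inv.op ≫ Q.map (compIso G Y i).hom.op) x = x
    rw [← Q.map_comp, ← op_comp, Iso.hom_inv_id, op_id, Q.map_id]
    rfl
  · intro n i k x
    change (Q.map (G.map (faceHom Y i k)).op ≫ Q.map (compIso G Y i).inv.op) x =
      (Q.map (compIso G Y (i ∘ k.succAbove)).inv.op ≫ Q.map (faceHom (G.obj ∘ Y) i k).op) x
    rw [← Q.map_comp, ← Q.map_comp, ← op_comp, ← op_comp, compIso_face_inv]
  · intro n i k x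
    change (Q.map (faceHom (G.obj ∘ Y) i k).op ≫ Q.map (compIso G Y i).hom.op) x =
      (Q.map (compIso G Y (i ∘ k.succAbove)).hom.op ≫ Q.map (G.map (faceHom Y i k)).op) x
    rw [← Q.map_comp, ← Q.map_comp, ← op_comp, ← op_comp, compIso_face]

end Pres

end Groth.Agent.Lib.Helper47.CechTwist
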