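import Mathlib
import Groth.Prelude.Def_W4bk4goldsch45p2

/-!
Triangular changes of a sequence of columns: jumps and Wronskian-type determinants.
-/

set_option autoImplicit false
open FunFld

namespace Groth.Agent.Lib.Helper47.ColTri

section Seq

variable {K : Type*} [Field K] {M : Type*} [AddCommGroup M] [Module K M]

/-- triangular change of a sequence of vectors preserves the spans of initial segments -/
theorem span_eq (c c' : ℕ → M) (a : ℕ → K) (ha : ∀ j, a j ≠ 0)
    (h : ∀ j, c' j - a j • c j ∈ Submodule.span K (c '' Set.Iio j)) (j : ℕ) :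
    Submodule.span K (c' '' Set.Iio j) = Submodule.span K (c '' Set.Iio j) := by
  induction j with
  | zero => simp
  | succ j ih =>
    have hI : Set.Iio (j + 1) = insert j (Set.Iio j) := by
      ext m
      simp only [Set.mem_Iio, Set.mem_insert_iff]
      omega
    rw [hI, Set.image_insert_eq, Set.image_insert_eq, Submodule.span_insert, Submodule.span_insert,
      ih]
    have hle : Submodule.span K (c '' Set.Iio j) ≤
        Submodule.span K {c j} ⊔ Submodule.span K (c '' Set.Iio j) := le_sup_right
    have hle' : Submodule.span K (c '' Set.Iio j) ≤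
        Submodule.span K {c' j} ⊔ Submodule.span K (c '' Set.Iio j) := le_sup_right
    apply le_antisymm
    · apply sup_le _ hle
      rw [Submodule.span_singleton_le_iff_mem]
      have h1 : c' j = (c' j - a j • c j) + a j • c j := by abel
      rw [h1]
      refine Submodule.add_mem _ (hle (h j)) ?_
      exact Submodule.smul_mem _ _ (Submodule.mem_sup_left (Submodule.mem_span_singleton_self _))
    · apply sup_le _ hle'
      rw [Submodule.span_singleton_le_iff_mem]
      have h1 : c j = (a j)⁻¹ • (c' j - (c' j - a j • c j)) := by
        rw [sub_sub_cancel, smul_smul, inv_mul_cancel₀ (ha j), one_smul]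
      rw [h1]
      refine Submodule.smul_mem _ _ (Submodule.sub_mem _ ?_ (hle' (h j)))
      exact Submodule.mem_sup_left (Submodule.mem_span_singleton_self _)

theorem isJump_iff (c c' : ℕ → M) (a : ℕ → K) (ha : ∀ j, a j ≠ 0)
    (h : ∀ j, c' j - a j • c j ∈ Submodule.span K (c '' Set.Iio j)) (j : ℕ) :
    IsJump K c' j ↔ IsJump K c j := by
  unfold IsJump
  rw [span_eq c c' a ha h j]
  have h1 : c' j = (c' j - a j • c j) + a j • c j := by abel
  constructor
  · intro hc' hc
    apply hc'
    rw [h1]
    exact Submodule.add_mem _ (h j) (Submodule.smul_mem _ _ hc)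
  · intro hc hc'
    apply hc
    have h2 : c j = (a j)⁻¹ • (c' j - (c' j - a j • c j)) := by
      rw [sub_sub_cancel, smul_smul, inv_mul_cancel₀ (ha j), one_smul]
    rw [h2]
    exact Submodule.smul_mem _ _ (Submodule.sub_mem _ hc' (h j))

theorem isOrders_iff (c c' : ℕ → M) (a : ℕ → K) (ha : ∀ j, a j ≠ 0)
    (h : ∀ j, c' j - a j • c j ∈ Submodule.span K (c '' Set.Iio j)) {n : ℕ} (J : Fin n → ℕ) :
    IsOrders K c' J ↔ IsOrders K c J := by
  unfold IsOrders
  simp only [isJump_iff c c' a ha h]

/-- the index of the `q`-th column of the Wronskian matrix in the sequence of columns -/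
def idx {n : ℕ} (J : Fin n → ℕ) : Fin (n + 1) → ℕ :=
  Fin.cases 0 (fun l => J l + 1)

@[simp] theorem idx_zero {n : ℕ} (J : Fin n → ℕ) : idx J 0 = 0 := rfl
@[simp] theorem idx_succ {n : ℕ} (J : Fin n → ℕ) (l : Fin n) : idx J l.succ = J l + 1 := rfl

theorem idx_strictMono {n : ℕ} (J : Fin n → ℕ) (hJ : StrictMono J) : StrictMono (idx J) := by
  intro q q' hqq'
  induction q using Fin.cases with
  | zero =>
    induction q' using Fin.cases with
    | zero => exact absurd hqq' (lt_irrefl _)
    | succ l' => simp
  | succ l =>
    induction q' using Fin.cases with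
    | zero => exact absurd hqq' (Fin.not_lt_zero _)
    | succ l' =>
      simp only [idx_succ]
      have := hJ (Fin.succ_lt_succ_iff.mp hqq')
      omega

/-- for an order sequence, the span of the first `m` columns is spanned by the jump columns -/
theorem span_jumps (c : ℕ → M) {n : ℕ} (J : Fin n → ℕ) (hJ : IsOrders K c J) (m : ℕ) :
    Submodule.span K (c '' Set.Iio m) =
      Submodule.span K ((fun q => c (idx J q)) '' {q | idx J q < m}) := by
  induction m with
  | zero =>
    have : {q | idx J q < 0} = (∅ : Set (Fin (n + 1))) := by
      ext q; simp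
    simp [this]
  | succ m ih =>
    have hI : Set.Iio (m + 1) = insert m (Set.Iio m) := by
      ext j
      simp only [Set.mem_Iio, Set.mem_insert_iff]
      omega
    rw [hI, Set.image_insert_eq, Submodule.span_insert, ih]
    by_cases hm : ∃ q, idx J q = m
    · obtain ⟨q, hq⟩ := hm
      have hset : {q' | idx J q' < m + 1} = insert q {q' | idx J q' < m} := by
        ext q'
        simp only [Set.mem_ofPred_eq, Set.mem_insert_iff]
        constructor
        · intro h1
          by_cases h2 : idx J q' < m
          · exact Or.inr h2
          · left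
            have h3 : idx J q' = idx J q := by omega
            exact (idx_strictMono J hJ.1).injective h3
        · rintro (rfl | h1)
          · omega
          · omega
      rw [hset, Set.image_insert_eq, Submodule.span_insert, hq]
    · push Not at hm
      have hset : {q' | idx J q' < m + 1} = {q' | idx J q' < m} := by
        ext q'
        simp only [Set.mem_ofPred_eq]
        have := hm q'
        omega
      rw [hset]
      -- `m` is not a jump
      have hm0 : m ≠ 0 := fun h0 => hm 0 (by simp [h0])
      obtain ⟨j, rfl⟩ : ∃ j, m = j + 1 := ⟨m - 1, by omega⟩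
      have hnj : ¬ IsJump K c (j + 1) := by
        rw [← hJ.2 j]
        rintro ⟨l, hl⟩
        exact hm l.succ (by simp [hl])
      unfold IsJump at hnj
      push Not at hnj
      rw [ih] at hnj
      rw [sup_eq_right, Submodule.span_singleton_le_iff_mem]
      exact hnj

/-- minimality of the order sequence: if the columns at `idx J'` are linearly independent for a
strictly increasing `J'`, then `J ≤ J'` entrywise -/
theorem orders_le (c : ℕ → M) {n : ℕ} (J J' : Fin n → ℕ) (hJ : IsOrders K c J)
    (hJ' : StrictMono J') (hli : LinearIndependent K (fun q => c (idx J' q))) (l : Fin n) :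
    J l ≤ J' l := by
  classical
  by_contra hlt
  push Not at hlt
  let S : Finset (Fin (n + 1)) := Finset.Iic l.succ
  have hS : S.card = (l : ℕ) + 2 := by
    simp only [S, Fin.card_Iic, Fin.val_succ]
  have hli' : LinearIndependent K (fun q : S => c (idx J' q)) :=
    hli.comp _ Subtype.val_injective
  let T : Finset M := (Finset.Iio l.succ).image (fun q => c (idx J q))
  have hT : T.card ≤ (l : ℕ) + 1 := by
    refine Finset.card_image_le.trans ?_
    simp only [Fin.card_Iio, Fin.val_succ, le_refl]
  have hsub : Set.range (fun q : S => c (idx J' q)) ≤ Submodule.span K (T : Set M) := by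
    rintro _ ⟨⟨q, hq⟩, rfl⟩
    have hq' : q ≤ l.succ := by simpa [S] using hq
    have hidx : idx J' q ≤ J' l + 1 := by
      have := (idx_strictMono J' hJ').monotone hq'
      simpa using this
    have h1 : c (idx J' q) ∈ Submodule.span K (c '' Set.Iio (J' l + 2)) :=
      Submodule.subset_span ⟨_, by simp only [Set.mem_Iio]; omega, rfl⟩
    rw [span_jumps c J hJ] at h1
    refine Submodule.span_mono ?_ h1
    rintro _ ⟨q', hq', rfl⟩
    simp only [Set.mem_ofPred_eq] at hq'
    have hq'' : q' < l.succ := by
      rw [← (idx_strictMono J hJ.1).lt_iff_lt]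
      simp only [idx_succ]
      omega
    simp only [T, Finset.coe_image, Finset.coe_Iio]
    exact ⟨q', hq'', rfl⟩
  have h2 := linearIndependent_le_span' _ hli' (T : Set M) hsub
  simp only [Cardinal.mk_fintype, Finset.coe_sort_coe, Fintype.card_coe, Nat.cast_le] at h2
  omega

end Seq

section Det

variable {K : Type*} [Field K] {N : ℕ}

/-- determinant under a triangular change of columns -/
theorem det_tri (W W' : Matrix (Fin N) (Fin N) K) (d : Fin N → K)
    (h : ∀ q, (fun i => W' i q) - d q • (fun i => W i q) ∈
      Submodule.span K ((fun q' => fun i => W i q') '' {q' | q' < q})) :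
    W'.det = (∏ q, d q) * W.det := by
  have hex : ∀ q, ∃ l : Fin N →₀ K, l ∈ Finsupp.supported K K {q' | q' < q} ∧
      Finsupp.linearCombination K (fun q' => fun i => W i q') l =
        (fun i => W' i q) - d q • (fun i => W i q) := fun q =>
    (Finsupp.mem_span_image_iff_linearCombination K).mp (h q)
  choose l hl hlc using hex
  let U : Matrix (Fin N) (Fin N) K := Matrix.of fun c' c => l c c' + if c' = c then d c else 0
  have hlzero : ∀ c c', ¬ c' < c → l c c' = 0 := by
    intro c c' hcc'
    have := hl c
    rw [Finsupp.mem_supported'] at this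
    exact this c' hcc'
  have hWU : W' = W * U := by
    ext i c
    rw [Matrix.mul_apply]
    have h0 : (Finsupp.linearCombination K (fun q' => fun i => W i q') (l c)) i =
        ∑ q, l c q * W i q := by
      rw [Finsupp.linearCombination_apply, Finsupp.sum_fintype]
      · simp [Finset.sum_apply]
      · intro q; simp
    have h1 := congrFun (hlc c) i
    rw [h0] at h1
    simp only [Pi.smul_apply, smul_eq_mul, Pi.sub_apply] at h1
    simp only [U, Matrix.of_apply, mul_add, Finset.sum_add_distrib, mul_ite, mul_zero,
      Finset.sum_ite_eq', Finset.mem_univ, if_true]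
    have h2 : ∑ x, W i x * l c x = ∑ x, l c x * W i x :=
      Finset.sum_congr rfl (fun x _ => mul_comm _ _)
    rw [h2, h1]
    ring
  have hU : U.BlockTriangular id := by
    intro c' c hcc'
    simp only [id] at hcc'
    simp only [U, Matrix.of_apply]
    rw [hlzero c c' (not_lt.mpr hcc'.le), if_neg (ne_of_gt hcc'), add_zero]
  rw [hWU, Matrix.det_mul, Matrix.det_of_isUpperTriangular hU, mul_comm]
  congr 1
  refine Finset.prod_congr rfl (fun c _ => ?_)
  simp only [U, Matrix.of_apply, if_true]
  rw [hlzero c c (lt_irrefl _), zero_add]

end Det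

end Groth.Agent.Lib.Helper47.ColTri
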