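import Groth.Agent.Lib.Helper47.TorsA

/-!
# `H¹` of constant sheaves on a site (helper47): lifting global sections along surjections of
abelian groups via set-theoretic sections; injectivity of `H¹(A) → H¹(B)` for `A ↪ B`.
-/

set_option autoImplicit false
universe u
open CategoryTheory CategoryTheory.Limits Opposite

namespace Groth.Agent.Lib.Helper47.ConstH1

open Groth.Agent.Lib.Helper47.TorsLib Abelian

variable {C : Type u} [SmallCategory C] (J : GrothendieckTopology C)

instance : PreservesFiniteLimits (constantSheaf J AddCommGrpCat.{u}) := by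
  unfold constantSheaf
  infer_instance

instance : PreservesFiniteColimits (constantSheaf J AddCommGrpCat.{u}) := by
  unfold constantSheaf
  infer_instance

/-- the comparison of the underlying sheaf of sets of a constant abelian sheaf with the
constant sheaf of sets -/
noncomputable abbrev cc :=
  constantCommuteCompose J (forget AddCommGrpCat.{u})

/-- the morphism of sheaves of sets induced by a map of sets between abelian groups -/
noncomputable def setMap {M N : AddCommGrpCat.{u}} (σ : M → N) :
    (sheafCompose J (forget AddCommGrpCat.{u})).obj ((constantSheaf J AddCommGrpCat.{u}).obj M) ⟶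
      (sheafCompose J (forget AddCommGrpCat.{u})).obj ((constantSheaf J AddCommGrpCat.{u}).obj N) :=
  (cc J).hom.app M ≫ (constantSheaf J (Type u)).map (TypeCat.ofHom σ) ≫ (cc J).inv.app N

lemma setMap_comp_hom {M N N' : AddCommGrpCat.{u}} (σ : M → N) (g : N ⟶ N') :
    setMap J σ ≫ (sheafCompose J (forget AddCommGrpCat.{u})).map
      ((constantSheaf J AddCommGrpCat.{u}).map g) = setMap J (fun m => g (σ m)) := by
  have h := (cc J).inv.naturality g
  dsimp only [Functor.comp_map] at h
  rw [setMap, setMap, Category.assoc, Category.assoc, ← h, ← Category.assoc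
    ((constantSheaf J (Type u)).map _), ← Functor.map_comp]
  rfl

lemma setMap_id (M : AddCommGrpCat.{u}) : setMap J (fun m : M => m) = 𝟙 _ := by
  rw [setMap]
  have : (TypeCat.ofHom (fun m : M => m)) = 𝟙 ((forget AddCommGrpCat.{u}).obj M) := rfl
  rw [this, CategoryTheory.Functor.map_id]
  erw [Category.id_comp]
  exact Iso.hom_inv_id_app _ _

/-- lift a global section of a constant sheaf along a surjection which has a set-theoretic section -/
lemma exists_lift {N N' : AddCommGrpCat.{u}} (g : N ⟶ N') (σ : N' → N) (hσ : ∀ m, g (σ m) = m)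
    (c : GSec ((constantSheaf J AddCommGrpCat.{u}).obj N')) :
    ∃ b : GSec ((constantSheaf J AddCommGrpCat.{u}).obj N),
      b.map ((constantSheaf J AddCommGrpCat.{u}).map g) = c := by
  refine ⟨⟨fun U => (setMap J σ).hom.app U (c.s U), ?_⟩, ?_⟩
  · intro U V f
    have h := NatTrans.naturality_apply (setMap J σ).hom f (c.s U)
    rw [← c.compat f]
    exact h.symm
  · ext U
    have h := setMap_comp_hom J σ g
    rw [show (fun m => g (σ m)) = fun m => m from funext hσ, setMap_id] at h
    exact congrArg (fun φ => φ.hom.app U (c.s U)) h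

/-- `H¹` of constant sheaves is left exact on injections of abelian groups -/
theorem H1_map_injective {A B : Type u} [AddCommGroup A] [AddCommGroup B] (f : A →+ B)
    (hf : Function.Injective f)
    (x : Ext.{u} (ZZ J) ((constantSheaf J AddCommGrpCat.{u}).obj (AddCommGrpCat.of A)) 1)
    (hx : x.comp (Ext.mk₀ ((constantSheaf J AddCommGrpCat.{u}).map (AddCommGrpCat.ofHom f)))
      (add_zero 1) = 0) : x = 0 := by
  let g : B →+ B ⧸ f.range := QuotientAddGroup.mk' f.range
  have w₀ : AddCommGrpCat.ofHom f ≫ AddCommGrpCat.ofHom g = 0 := by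
    ext a
    change g (f a) = 0
    exact (QuotientAddGroup.eq_zero_iff _).2 ⟨a, rfl⟩
  have hS₀ : (ShortComplex.mk _ _ w₀).ShortExact := by
    refine ShortComplex.ShortExact.mk' ?_ ?_ ?_
    · rw [ShortComplex.ab_exact_iff]
      intro b hb
      exact (QuotientAddGroup.eq_zero_iff _).1 hb
    · exact (AddCommGrpCat.mono_iff_injective _).2 hf
    · exact (AddCommGrpCat.epi_iff_surjective _).2 (QuotientAddGroup.mk'_surjective _)
  have w : (constantSheaf J AddCommGrpCat.{u}).map (AddCommGrpCat.ofHom f) ≫
      (constantSheaf J AddCommGrpCat.{u}).map (AddCommGrpCat.ofHom g) = 0 := by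
    rw [← CategoryTheory.Functor.map_comp, w₀, CategoryTheory.Functor.map_zero]
  have hS : (ShortComplex.mk _ _ w).ShortExact :=
    hS₀.map_of_exact (constantSheaf J AddCommGrpCat.{u})
  obtain ⟨x₃, hx₃⟩ := Ext.covariant_sequence_exact₁ (ZZ J) hS x hx (zero_add 1)
  obtain ⟨c, rfl⟩ := (Ext.mk₀_bijective _ _).2 x₃
  obtain ⟨b, hb⟩ := exists_lift J (AddCommGrpCat.ofHom g)
    (fun m => (QuotientAddGroup.mk'_surjective f.range m).choose)
    (fun m => (QuotientAddGroup.mk'_surjective f.range m).choose_spec) (GSec.ofHom c)
  have hc : c = b.hom ≫ (constantSheaf J AddCommGrpCat.{u}).map (AddCommGrpCat.ofHom g) := by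
    rw [GSec.hom_comp, hb, GSec.hom_ofHom]
  rw [← hx₃, hc, ← Ext.mk₀_comp_mk₀]
  rw [Ext.comp_assoc_of_second_deg_zero]
  have := hS.comp_extClass
  dsimp at this
  rw [this, Ext.comp_zero]

end Groth.Agent.Lib.Helper47.ConstH1
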