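import Mathlib

/-!
# Gluing canonical local sections of a sheaf of sets (helper47)
-/

set_option autoImplicit false
universe v u w
open CategoryTheory CategoryTheory.Limits Opposite

namespace Groth.Agent.Lib.Helper47.GlueUnique

variable {C : Type u} [Category.{v} C] {J : GrothendieckTopology C}

/-- Gluing of canonical local sections: if a property of local sections of a sheaf of sets is stable
under restriction, determines the section uniquely, and is locally satisfiable, then the canonical
local sections glue to a compatible family of sections over all objects. -/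
theorem exists_family (F : Cᵒᵖ ⥤ Type w) (hF : Presieve.IsSheaf J F)
    (Good : ∀ W : C, F.obj (op W) → Prop)
    (hres : ∀ {W W' : C} (g : W' ⟶ W) (j : F.obj (op W)), Good W j → Good W' (F.map g.op j))
    (huniq : ∀ (W : C) (j₁ j₂ : F.obj (op W)), Good W j₁ → Good W j₂ → j₁ = j₂)
    (hloc : ∀ V : C, ∃ R ∈ J V, ∀ ⦃W : C⦄ (g : W ⟶ V), R g → ∃ j, Good W j) :
    ∃ s : ∀ V : C, F.obj (op V), (∀ {U V : C} (f : V ⟶ U), F.map f.op (s U) = s V) ∧
      ∀ (W : C) (j : F.obj (op W)), Good W j → s W = j := by
  choose S hS hS' using hloc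
  let x : ∀ U : C, Presieve.FamilyOfElements F (S U).arrows :=
    fun U V f hf => (hS' U f hf).choose
  have hxg : ∀ (U V : C) (f : V ⟶ U) (hf : S U f), Good V (x U f hf) :=
    fun U V f hf => (hS' U f hf).choose_spec
  have hx : ∀ U, (x U).Compatible := by
    intro U Y₁ Y₂ Z g₁ g₂ f₁ f₂ h₁ h₂ e
    exact huniq _ _ _ (hres g₁ _ (hxg U Y₁ f₁ h₁)) (hres g₂ _ (hxg U Y₂ f₂ h₂))
  let s : ∀ U : C, F.obj (op U) := fun U => (hF (S U) (hS U)).amalgamate (x U) (hx U)
  have hs : ∀ (U V : C) (f : V ⟶ U) (hf : S U f), F.map f.op (s U) = x U f hf :=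
    fun U V f hf => (hF _ (hS U)).valid_glue (hx U) f hf
  have hA : ∀ (U W : C) (g : W ⟶ U) (j : F.obj (op W)), Good W j → F.map g.op (s U) = j := by
    intro U W g j hj
    apply (hF _ (J.pullback_stable g (hS U))).isSeparatedFor.ext
    intro W' k hk
    have h1 : F.map k.op (F.map g.op (s U)) = F.map (k ≫ g).op (s U) := by
      rw [op_comp, Functor.map_comp]
      rfl
    rw [h1, hs U W' (k ≫ g) hk]
    exact huniq _ _ _ (hxg U W' (k ≫ g) hk) (hres k j hj)
  refine ⟨s, ?_, ?_⟩
  · intro U V f
    apply (hF _ (hS V)).isSeparatedFor.ext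
    intro W g hg
    obtain ⟨j, hj⟩ := hS' V g hg
    have h1 : F.map g.op (F.map f.op (s U)) = F.map (g ≫ f).op (s U) := by
      rw [op_comp, Functor.map_comp]
      rfl
    rw [hA V W g j hj, h1, hA U W (g ≫ f) j hj]
  · intro W j hj
    have := hA W W (𝟙 W) j hj
    rwa [op_id, F.map_id] at this

end Groth.Agent.Lib.Helper47.GlueUnique
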