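import Groth.Agent.Lib.Helper47.ConstH1
import Groth.Agent.Lib.Helper47.GlueUnique

/-!
# `H¹` of constant sheaves has no torsion for locally nonzero sections of `ℤ` (helper47)
-/

set_option autoImplicit false
universe u
open CategoryTheory CategoryTheory.Limits Opposite

namespace Groth.Agent.Lib.Helper47.ConstH1

open Groth.Agent.Lib.Helper47.TorsLib Abelian

variable {C : Type u} [SmallCategory C] (J : GrothendieckTopology C)

section One

variable {J}
variable {F : Sheaf J AddCommGrpCat.{u}}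

lemma ofHom_hom (σ : GSec F) : GSec.ofHom σ.hom = σ := by
  ext U
  change ((GSec.adjEquiv F (GSec.adjEquiv F |>.symm σ.preHom)).app U) (ULift.up 1) = σ.s U
  rw [Equiv.apply_symm_apply, GSec.preHom_app]
  exact one_zsmul _

lemma hom_injective {σ τ : GSec F} (h : σ.hom = τ.hom) : σ = τ := by
  rw [← ofHom_hom σ, ← ofHom_hom τ, h]

variable (J) in
/-- the unit section of the constant sheaf `ℤ` -/
noncomputable def one (U : Cᵒᵖ) : (ZZ J).obj.obj U := (GSec.ofHom (𝟙 (ZZ J))).s U

lemma ofHom_s (c : ZZ J ⟶ F) (U : Cᵒᵖ) : (GSec.ofHom c).s U = c.hom.app U (one J U) := by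
  have h : GSec.ofHom c = (GSec.ofHom (𝟙 (ZZ J))).map c := by
    apply hom_injective
    rw [← GSec.hom_comp, GSec.hom_ofHom, GSec.hom_ofHom, Category.id_comp]
  rw [h]
  rfl

lemma one_eq (U : Cᵒᵖ) :
    one J U = (toSheafify J ((Functor.const Cᵒᵖ).obj Zc)).app U (ULift.up 1) := by
  change ((GSec.adjEquiv (ZZ J) (𝟙 (ZZ J))).app U) (ULift.up 1) = _
  have h : GSec.adjEquiv (ZZ J) (𝟙 (ZZ J)) = toSheafify J ((Functor.const Cᵒᵖ).obj Zc) := by
    change (sheafificationAdjunction J AddCommGrpCat.{u}).homEquiv _ _ (𝟙 _) = _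
    rw [Adjunction.homEquiv_unit]
    simp
  rw [h]
  rfl

/-- if two different integers act in the same way on `ℤ(W)` then `W` is covered by the
empty sieve -/
lemma bot_mem_of_zsmul_eq (W : C) (n n' : ℤ) (hn : n ≠ n')
    (h : n • one J (op W) = n' • one J (op W)) : (⊥ : Sieve W) ∈ J W := by
  have h' : (toSheafify J ((Functor.const Cᵒᵖ).obj Zc)).app (op W)
        (n • (ULift.up 1 : ULift.{u} ℤ)) =
      (toSheafify J ((Functor.const Cᵒᵖ).obj Zc)).app (op W)
        (n' • (ULift.up 1 : ULift.{u} ℤ)) := by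
    rw [map_zsmul, map_zsmul]
    rw [one_eq] at h
    exact h
  have hinj : Presheaf.IsLocallyInjective J (toSheafify J ((Functor.const Cᵒᵖ).obj Zc)) :=
    inferInstance
  have h2 := Presheaf.equalizerSieve_mem J (toSheafify J ((Functor.const Cᵒᵖ).obj Zc)) _ _ h'
  refine J.superset_covering ?_ h2
  intro W' f hf
  exfalso
  apply hn
  have h3 : n • (ULift.up 1 : ULift.{u} ℤ) = n' • (ULift.up 1 : ULift.{u} ℤ) := hf
  have h4 := congrArg ULift.down h3
  simpa using h4

lemma subsingleton_of_bot_mem (W : C) (h : (⊥ : Sieve W) ∈ J W) :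
    Subsingleton (F.obj.obj (op W)) :=
  ⟨fun _ _ => ((isSheaf_forget F) ⊥ h).isSeparatedFor.ext (fun _ _ hf => hf.elim)⟩

end One

section Div

variable {J}

lemma zsmul_id_apply {M : AddCommGrpCat.{u}} (n : ℤ) (a : M) : (n • 𝟙 M : M ⟶ M) a = n • a := by
  simp

/-- a locally nonzero-constant endomorphism of `ℤ` acts injectively on `H¹` of a sheaf whose
sections are uniquely divisible by the local values -/
theorem ext_one_eq_zero_of_div (F : Sheaf J AddCommGrpCat.{u}) (φ : ZZ J ⟶ ZZ J) {ι : Type u}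
    (U : ι → C) (n : ι → ℤ)
    (hφ : ∀ (i : ι) (V : C) (_ : V ⟶ U i), φ.hom.app (op V) = n i • 𝟙 _)
    (hcov : ∀ V : C, ∃ R ∈ J V, ∀ ⦃W : C⦄ (g : W ⟶ V), R g → ∃ i, Nonempty (W ⟶ U i))
    (hT : ∀ (i : ι) (W : C) (a : F.obj.obj (op W)), n i • a = 0 → a = 0)
    (hD : ∀ (i : ι) (W : C) (a : F.obj.obj (op W)), ∃ a', n i • a' = a)
    (x : Ext.{u} (ZZ J) F 1) (hx : (Ext.mk₀ φ).comp x (zero_add 1) = 0) : x = 0 := by
  let ι' : F ⟶ Injective.under F := Injective.ι F
  let π : Injective.under F ⟶ cokernel ι' := cokernel.π ι'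
  have w : ι' ≫ π = 0 := cokernel.condition ι'
  have hS : (ShortComplex.mk ι' π w).ShortExact :=
    ShortComplex.ShortExact.mk' (ShortComplex.exact_cokernel ι') inferInstance inferInstance
  have h0 : x.comp (Ext.mk₀ ι') (add_zero 1) = 0 := Ext.eq_zero_of_injective _
  obtain ⟨x₃, hx₃⟩ := Ext.covariant_sequence_exact₁ (ZZ J) hS x h0 (zero_add 1)
  obtain ⟨q, rfl⟩ := (Ext.mk₀_bijective _ _).2 x₃
  rw [← hx₃] at hx
  have hx' : (Ext.mk₀ (φ ≫ q)).comp hS.extClass (zero_add 1) = 0 := by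
    rw [← Ext.mk₀_comp_mk₀, Ext.comp_assoc_of_second_deg_zero]
    exact hx
  obtain ⟨x₂, hx₂⟩ := Ext.covariant_sequence_exact₃ (ZZ J) hS (Ext.mk₀ (φ ≫ q)) (zero_add 1) hx'
  obtain ⟨i, rfl⟩ := (Ext.mk₀_bijective _ _).2 x₂
  have hi : i ≫ π = φ ≫ q := by
    apply (Ext.mk₀_bijective _ _).1
    rw [← Ext.mk₀_comp_mk₀]
    exact hx₂
  let qs := GSec.ofHom q
  let is := GSec.ofHom i
  -- the key relation
  have key : ∀ (k : ι) (W : C) (_ : W ⟶ U k),
      π.hom.app (op W) (is.s (op W)) = n k • qs.s (op W) := by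
    intro k W g
    have h1 : π.hom.app (op W) (i.hom.app (op W) (one J (op W))) =
        q.hom.app (op W) (φ.hom.app (op W) (one J (op W))) :=
      congrArg (fun ψ : ZZ J ⟶ cokernel ι' => ψ.hom.app (op W) (one J (op W))) hi
    change π.hom.app (op W) ((GSec.ofHom i).s (op W)) = n k • (GSec.ofHom q).s (op W)
    rw [ofHom_s, ofHom_s, h1, hφ k W g, zsmul_id_apply, map_zsmul]
  let Good : ∀ W : C, (Injective.under F).obj.obj (op W) → Prop :=
    fun W j => π.hom.app (op W) j = qs.s (op W) ∧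
      ∃ k, Nonempty (W ⟶ U k) ∧ n k • j = is.s (op W)
  have hloc : ∀ V : C, ∃ R ∈ J V, ∀ ⦃W : C⦄ (g : W ⟶ V), R g → ∃ j, Good W j := by
    intro V
    obtain ⟨R₁, hR₁, h₁⟩ := hcov V
    have := hS.epi_g
    have hls : Sheaf.IsLocallySurjective π := (Sheaf.isLocallySurjective_iff_epi' _ π).2 inferInstance
    refine ⟨Sieve.bind R₁ (fun W _ _ => Presheaf.imageSieve π.hom (qs.s (op W))),
      J.bind_covering hR₁ (fun W g hg => Presheaf.imageSieve_mem J π.hom (qs.s (op W))), ?_⟩
    intro W' f hf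
    obtain ⟨W, h, g, hg, ⟨t, ht⟩, rfl⟩ := hf
    obtain ⟨k, ⟨e⟩⟩ := h₁ g hg
    have ht' : π.hom.app (op W') t = qs.s (op W') := ht.trans (qs.compat h.op)
    obtain ⟨a, ha⟩ := exists_of_π_app_eq_zero ι' π w hS (op W') (is.s (op W') - n k • t) (by
      rw [map_sub, map_zsmul, key k W' (h ≫ e), ht', sub_self])
    obtain ⟨a', ha'⟩ := hD k W' a
    refine ⟨t + ι'.hom.app (op W') a', ?_, k, ⟨h ≫ e⟩, ?_⟩
    · rw [map_add, π_ι_app ι' π w, add_zero, ht']
    · rw [smul_add, ← map_zsmul, ha', ha]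
      abel
  have hres : ∀ {W W' : C} (g : W' ⟶ W) (j : (Injective.under F).obj.obj (op W)),
      Good W j → Good W' ((Injective.under F).obj.map g.op j) := by
    intro W W' g j hj
    obtain ⟨h1, k, ⟨e⟩, h2⟩ := hj
    refine ⟨?_, k, ⟨g ≫ e⟩, ?_⟩
    · rw [NatTrans.naturality_apply π.hom g.op j, h1, qs.compat g.op]
    · rw [← map_zsmul, h2, is.compat g.op]
  have huniq : ∀ (W : C) (j₁ j₂ : (Injective.under F).obj.obj (op W)),
      Good W j₁ → Good W j₂ → j₁ = j₂ := by
    intro W j₁ j₂ hj₁ hj₂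
    obtain ⟨h1, k₁, ⟨e₁⟩, h2⟩ := hj₁
    obtain ⟨h1', k₂, ⟨e₂⟩, h2'⟩ := hj₂
    by_cases hnn : n k₁ = n k₂
    · obtain ⟨a, ha⟩ := exists_of_π_app_eq_zero ι' π w hS (op W)
        (j₁ - j₂) (by rw [map_sub, h1, h1', sub_self])
      have h3 : ι'.hom.app (op W) (n k₁ • a) = 0 := by
        rw [map_zsmul, ha, smul_sub, h2, hnn, h2', sub_self]
      have h4 : n k₁ • a = 0 := by
        apply ι_app_injective ι' π w hS (op W)
        rw [h3, map_zero]
      have h5 := hT k₁ W a h4
      rw [h5, map_zero] at ha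
      exact (sub_eq_zero.1 ha.symm)
    · have hb : (⊥ : Sieve W) ∈ J W := by
        apply bot_mem_of_zsmul_eq W (n k₁) (n k₂) hnn
        rw [← zsmul_id_apply, ← zsmul_id_apply, ← hφ k₁ W e₁, ← hφ k₂ W e₂]
      have := subsingleton_of_bot_mem (F := Injective.under F) W hb
      exact Subsingleton.elim _ _
  obtain ⟨s, hs, hs'⟩ := GlueUnique.exists_family
    ((Injective.under F).obj ⋙ forget AddCommGrpCat.{u}) (isSheaf_forget _) Good hres huniq hloc
  let js : GSec (Injective.under F) := ⟨fun V => s V.unop, fun f => hs f.unop⟩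
  have hjs : js.map π = qs := by
    ext V
    obtain ⟨R, hR, hR'⟩ := hloc V.unop
    apply ((isSheaf_forget (cokernel ι')) R hR).isSeparatedFor.ext
    intro W g hg
    obtain ⟨j, hj⟩ := hR' g hg
    have h1 : s W = j := hs' W j hj
    change (cokernel ι').obj.map g.op (π.hom.app V (s V.unop)) =
      (cokernel ι').obj.map g.op (qs.s V)
    rw [← NatTrans.naturality_apply π.hom g.op, qs.compat g.op]
    have h2 : (Injective.under F).obj.map g.op (s V.unop) = s W := hs g
    rw [h2, h1]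
    exact hj.1
  have hq : q = js.hom ≫ π := by
    rw [GSec.hom_comp, hjs, GSec.hom_ofHom]
  rw [← hx₃, hq, ← Ext.mk₀_comp_mk₀]
  rw [Ext.comp_assoc_of_second_deg_zero]
  have := hS.comp_extClass
  dsimp at this
  rw [this, Ext.comp_zero]

end Div

section ConstDiv

/-- multiplication by a nonzero integer on the sections of the constant sheaf attached to a uniquely
divisible group is bijective -/
lemma const_zsmul_bijective {D : Type u} [AddCommGroup D]
    (hdiv : ∀ m : ℤ, m ≠ 0 → Function.Bijective (fun a : D => m • a)) (m : ℤ) (hm : m ≠ 0)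
    (W : Cᵒᵖ) :
    Function.Bijective
      (fun a : ((constantSheaf J AddCommGrpCat.{u}).obj (AddCommGrpCat.of D)).obj.obj W => m • a) := by
  have h1 : IsIso (m • 𝟙 (AddCommGrpCat.of D)) := by
    rw [ConcreteCategory.isIso_iff_bijective]
    convert hdiv m hm using 1
    ext a
    simp
  have h2 : IsIso (m • 𝟙 ((constantSheaf J AddCommGrpCat.{u}).obj (AddCommGrpCat.of D))) := by
    rw [← CategoryTheory.Functor.map_id, ← Functor.map_zsmul]
    infer_instance
  have h3 : IsIso ((sheafToPresheaf J AddCommGrpCat.{u} ⋙ (evaluation _ _).obj W).map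
      (m • 𝟙 ((constantSheaf J AddCommGrpCat.{u}).obj (AddCommGrpCat.of D)))) := inferInstance
  rw [Functor.map_zsmul, CategoryTheory.Functor.map_id, ConcreteCategory.isIso_iff_bijective] at h3
  have h4 : (fun a : ((constantSheaf J AddCommGrpCat.{u}).obj (AddCommGrpCat.of D)).obj.obj W =>
      m • a) = ⇑(ConcreteCategory.hom (m • 𝟙 (((sheafToPresheaf J AddCommGrpCat.{u} ⋙
        (evaluation _ _).obj W).obj ((constantSheaf J AddCommGrpCat.{u}).obj
          (AddCommGrpCat.of D)))))) := by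
    funext a
    exact (zsmul_id_apply m a).symm
  rw [h4]
  exact h3

end ConstDiv

section Localize

variable {A : Type u} [AddCommGroup A]

/-- the divisible hull of a torsion-free abelian group -/
abbrev Hull (A : Type u) [AddCommGroup A] : Type u := LocalizedModule (nonZeroDivisors ℤ) A

/-- the inclusion into the divisible hull -/
noncomputable def toHull (A : Type u) [AddCommGroup A] : A →+ Hull A :=
  (LocalizedModule.mkLinearMap (nonZeroDivisors ℤ) A).toAddMonoidHom

lemma toHull_injective (hA : ∀ (m : ℤ) (a : A), m ≠ 0 → m • a = 0 → a = 0) :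
    Function.Injective (toHull A) := by
  rw [injective_iff_map_eq_zero]
  intro a ha
  have h1 : LocalizedModule.mk a (1 : nonZeroDivisors ℤ) = 0 := ha
  rw [← LocalizedModule.zero_mk (1 : nonZeroDivisors ℤ), LocalizedModule.mk_eq] at h1
  obtain ⟨u, hu⟩ := h1
  simp only [one_smul, smul_zero] at hu
  exact hA (u : ℤ) a (nonZeroDivisors.ne_zero u.2) hu

lemma hull_zsmul_bijective (m : ℤ) (hm : m ≠ 0) :
    Function.Bijective (fun a : Hull A => m • a) := by
  have hu : IsUnit (algebraMap ℤ (Localization (nonZeroDivisors ℤ)) m) :=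
    IsLocalization.map_units (Localization (nonZeroDivisors ℤ))
      (⟨m, mem_nonZeroDivisors_of_ne_zero hm⟩ : nonZeroDivisors ℤ)
  obtain ⟨u, hu'⟩ := hu
  have h1 : (fun a : Hull A => m • a) = fun a => u • a := by
    funext a
    rw [Units.smul_def, hu', eq_intCast]
    exact (Int.cast_smul_eq_zsmul (Localization (nonZeroDivisors ℤ)) m a).symm
  rw [h1]
  exact MulAction.bijective u

end Localize

/-- a locally nonzero section of the constant sheaf `ℤ` acts injectively on `H¹` of the constant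
sheaf attached to a torsion-free abelian group -/
theorem H1_const_no_torsion {A : Type u} [AddCommGroup A]
    (hA : ∀ (m : ℤ) (a : A), m ≠ 0 → m • a = 0 → a = 0)
    (φ : ZZ J ⟶ ZZ J) {ι : Type u} (U : ι → C) (n : ι → ℤ) (hn : ∀ i, n i ≠ 0)
    (hφ : ∀ (i : ι) (V : C) (_ : V ⟶ U i), φ.hom.app (op V) = n i • 𝟙 _)
    (hcov : ∀ V : C, ∃ R ∈ J V, ∀ ⦃W : C⦄ (g : W ⟶ V), R g → ∃ i, Nonempty (W ⟶ U i))
    (x : Ext.{u} (ZZ J) ((constantSheaf J AddCommGrpCat.{u}).obj (AddCommGrpCat.of A)) 1)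
    (hx : (Ext.mk₀ φ).comp x (zero_add 1) = 0) : x = 0 := by
  apply H1_map_injective J (toHull A) (toHull_injective hA) x
  apply ext_one_eq_zero_of_div _ φ U n hφ hcov
  · intro i W a ha
    exact (const_zsmul_bijective J hull_zsmul_bijective (n i) (hn i) (op W)).1
      (ha.trans (smul_zero _).symm)
  · intro i W a
    exact (const_zsmul_bijective J hull_zsmul_bijective (n i) (hn i) (op W)).2 a
  · rw [← Ext.comp_assoc_of_third_deg_zero, hx, Ext.zero_comp]

end Groth.Agent.Lib.Helper47.ConstH1
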