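import Mathlib
import Groth.Prelude.Def_DeltaF
import Groth.Agent.S6773
import Groth.Agent.S14349
import Groth.Agent.S16465
import Groth.Agent.S6774
import Groth.Agent.Lib.Helper47.RDerLES

/-!
# Generic δ-functors `G ↦ (V ↦ Ext^n(Z V, G))`, post-composition with exact functors, and comparison
with right derived functors (helper47)
-/

set_option autoImplicit false
set_option linter.unusedSectionVars false
universe w v u v' u' v'' u'' v''' u'''
open CategoryTheory CategoryTheory.Limits Opposite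

namespace Groth.Agent.Lib.Helper47.DeltaGen

open Abelian

section Fam

variable {A : Type u} [Category.{v} A] [Abelian A] [HasExt.{w} A]
  {D : Type u'} [Category.{v'} D] (Z : D ⥤ A)

/-- `G ↦ (V ↦ Ext^n(Z V, G))` -/
noncomputable def HZ (n : ℕ) : A ⥤ (Dᵒᵖ ⥤ AddCommGrpCat.{w}) := (Z.op ⋙ extFunctor.{w} n).flip

lemma HZ_obj_obj (n : ℕ) (G : A) (V : Dᵒᵖ) :
    ((HZ Z n).obj G).obj V = AddCommGrpCat.of (Ext.{w} (Z.obj V.unop) G n) := rfl

lemma HZ_obj_map (n : ℕ) (G : A) {V V' : Dᵒᵖ} (j : V ⟶ V') :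
    ((HZ Z n).obj G).map j =
      AddCommGrpCat.ofHom ((Ext.mk₀ (Z.map j.unop)).precomp G (zero_add n)) := rfl

lemma HZ_map_app (n : ℕ) {G G' : A} (φ : G ⟶ G') (V : Dᵒᵖ) :
    ((HZ Z n).map φ).app V =
      AddCommGrpCat.ofHom ((Ext.mk₀ φ).postcomp (Z.obj V.unop) (add_zero n)) := rfl

instance additive_HZ (n : ℕ) : (HZ Z n).Additive where
  map_add {F G f g} := by
    ext V x
    exact ConcreteCategory.congr_hom
      ((extFunctorObj.{w} (Z.obj V.unop) n).map_add (f := f) (g := g)) x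

/-- components of the connecting morphism -/
noncomputable def δZapp {S : ShortComplex A} (hS : S.ShortExact) (n₀ n₁ : ℕ) (h : n₀ + 1 = n₁)
    (V : Dᵒᵖ) : ((HZ Z n₀).obj S.X₃).obj V ⟶ ((HZ Z n₁).obj S.X₁).obj V :=
  AddCommGrpCat.ofHom (hS.extClass.postcomp (Z.obj V.unop) h)

/-- the connecting morphism of presheaves -/
noncomputable def δZ {S : ShortComplex A} (hS : S.ShortExact) (n₀ n₁ : ℕ) (h : n₀ + 1 = n₁) :
    (HZ Z n₀).obj S.X₃ ⟶ (HZ Z n₁).obj S.X₁ where
  app := δZapp Z hS n₀ n₁ h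
  naturality V V' j := by
    ext x
    exact Ext.comp_assoc (Ext.mk₀ (Z.map j.unop)) x hS.extClass (zero_add n₀) h (by omega)

lemma δ_nat (X : A) {S S' : ShortComplex A} (hS : S.ShortExact) (hS' : S'.ShortExact) (φ : S ⟶ S')
    (n₀ n₁ : ℕ) (h : n₀ + 1 = n₁) (x : Ext.{w} X S.X₃ n₀) :
    (x.comp (Ext.mk₀ φ.τ₃) (add_zero n₀)).comp hS'.extClass h =
      (x.comp hS.extClass h).comp (Ext.mk₀ φ.τ₁) (add_zero n₁) := by
  rw [Ext.comp_assoc_of_second_deg_zero, ← ShortComplex.ShortExact.extClass_naturality hS hS' φ,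
    Ext.comp_assoc_of_third_deg_zero]

/-- exactness of a short complex of presheaves of abelian groups can be checked sectionwise -/
lemma functor_exact_of_app {I : Type*} [Category I] (T : ShortComplex (I ⥤ AddCommGrpCat.{w}))
    (h : ∀ j : I, (T.map ((evaluation I AddCommGrpCat.{w}).obj j)).Exact) : T.Exact := by
  rw [ShortComplex.exact_iff_isZero_homology]
  apply Functor.isZero
  intro j
  have e := T.mapHomologyIso ((evaluation I AddCommGrpCat.{w}).obj j)
  exact IsZero.of_iso ((ShortComplex.exact_iff_isZero_homology _).1 (h j)) e.symm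

/-- the presheaf-valued δ-functor `G ↦ (V ↦ Ext^n(Z V, G))` -/
noncomputable def extFamDelta : DeltaF.CohDeltaFunctor A (Dᵒᵖ ⥤ AddCommGrpCat.{w}) ℕ where
  F n := HZ Z n
  additive _ := inferInstance
  δ S hS n₀ n₁ h := δZ Z hS n₀ n₁ h
  δ_natural {S S'} hS hS' φ n₀ n₁ h := by
    ext V x
    exact δ_nat (Z.obj V.unop) hS hS' φ n₀ n₁ h x
  exact₂ S hS n := functor_exact_of_app _ (fun V =>
    Ext.covariant_sequence_exact₂' (Z.obj V.unop) hS n)
  comp_δ S hS n₀ n₁ h := by
    ext V x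
    change (x.comp (Ext.mk₀ S.g) (add_zero n₀)).comp hS.extClass h = 0
    rw [Ext.comp_assoc_of_second_deg_zero, ShortComplex.ShortExact.comp_extClass, Ext.comp_zero]
  exact₃ S hS n₀ n₁ h := functor_exact_of_app _ (fun V =>
    Ext.covariant_sequence_exact₃' (Z.obj V.unop) hS n₀ n₁ h)
  δ_comp S hS n₀ n₁ h := by
    ext V x
    change (x.comp hS.extClass h).comp (Ext.mk₀ S.f) (add_zero n₁) = 0
    rw [Ext.comp_assoc_of_third_deg_zero, ShortComplex.ShortExact.extClass_comp, Ext.comp_zero]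
  exact₁ S hS n₀ n₁ h := functor_exact_of_app _ (fun V =>
    Ext.covariant_sequence_exact₁' (Z.obj V.unop) hS n₀ n₁ h)

lemma isZero_HZ_succ_injective (n : ℕ) (I : A) [Injective I] : IsZero ((HZ Z (n + 1)).obj I) := by
  apply Functor.isZero
  intro V
  have : Subsingleton (Ext.{w} (Z.obj V.unop) I (n + 1)) :=
    subsingleton_of_forall_eq 0 (fun e => Ext.eq_zero_of_injective e)
  exact AddCommGrpCat.isZero_of_subsingleton (AddCommGrpCat.of (Ext.{w} (Z.obj V.unop) I (n + 1)))

end Fam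

section Post

variable {A : Type u} [Category.{v} A] [Abelian A]
  {B : Type u'} [Category.{v'} B] [Abelian B] {B' : Type u''} [Category.{v''} B'] [Abelian B']
  (T : DeltaF.CohDeltaFunctor A B ℕ)
  (E : B ⥤ B') [E.Additive] [PreservesFiniteLimits E] [PreservesFiniteColimits E]

/-- post-composition of a δ-functor with an exact functor -/
noncomputable def postcompDelta : DeltaF.CohDeltaFunctor A B' ℕ where
  F n := T.F n ⋙ E
  additive _ := inferInstance
  δ S hS n₀ n₁ h := E.map (T.δ S hS n₀ n₁ h)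
  δ_natural hS hS' φ n₀ n₁ h := by
    dsimp
    rw [← E.map_comp, ← E.map_comp, T.δ_natural hS hS' φ n₀ n₁ h]
  exact₂ S hS n := (T.exact₂ S hS n).map E
  comp_δ S hS n₀ n₁ h := by
    dsimp
    rw [← E.map_comp, T.comp_δ S hS n₀ n₁ h, E.map_zero]
  exact₃ S hS n₀ n₁ h := (T.exact₃ S hS n₀ n₁ h).map E
  δ_comp S hS n₀ n₁ h := by
    dsimp
    rw [← E.map_comp, T.δ_comp S hS n₀ n₁ h, E.map_zero]
  exact₁ S hS n₀ n₁ h := (T.exact₁ S hS n₀ n₁ h).map E

variable [EnoughInjectives A]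

lemma postcompDelta_isUniversal
    (h : ∀ (n : ℕ) (I : A), Injective I → IsZero ((T.F (n + 1)).obj I)) :
    (postcompDelta T E).IsUniversal :=
  Groth.Agent.S6773.result _ ((Groth.Agent.S14349.result _).2 (fun n I hI =>
    E.map_isZero (h n I hI)))

end Post

section Compare

open Groth.Agent.Lib.Helper47.RDerLES

variable {A : Type u} [Category.{v} A] [Abelian A] [EnoughInjectives A]
  {B : Type u'} [Category.{v'} B] [Abelian B]

/-- a universal δ-functor whose degree zero part is `G` computes the right derived functors of `G` -/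
theorem nonempty_rightDerived_iso (T : DeltaF.CohDeltaFunctor A B ℕ) (hT : T.IsUniversal)
    (G : A ⥤ B) [G.Additive] [PreservesFiniteLimits G] (e : G ≅ T.F 0) (q : ℕ) :
    Nonempty (G.rightDerived q ≅ T.F q) := by
  have h1 := Groth.Agent.S16465.result G (derivedLES G)
  let e0 : (derivedLES G).toCohDeltaFunctor.F 0 ≅ T.F 0 := G.rightDerivedZeroIsoSelf ≪≫ e
  obtain ⟨φ, -, -⟩ := Groth.Agent.S6774.result _ _ h1 hT e0
  refine ⟨⟨φ.hom.app q, φ.inv.app q, ?_, ?_⟩⟩
  · exact congrArg (fun τ => DeltaF.CohDeltaFunctor.Hom.app τ q) φ.hom_inv_id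
  · exact congrArg (fun τ => DeltaF.CohDeltaFunctor.Hom.app τ q) φ.inv_hom_id

end Compare

end Groth.Agent.Lib.Helper47.DeltaGen
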