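import Mathlib
import Groth.Prelude.Def_EtBase
import Groth.Agent.Lib.Helper47.FilCol5

set_option autoImplicit false
universe u
open CategoryTheory CategoryTheory.Limits AlgebraicGeometry Opposite

namespace Groth.Agent.Lib.Helper47.EtQc

variable (X : Scheme.{u})

/-- small model of the étale site -/
abbrev Cs : Type (u + 1) := ULiftHom.{u + 1} X.Etale

/-- the equivalence with the small model -/
abbrev eqv : X.Etale ≌ Cs X := ULiftHom.equiv

/-- topology on the small model -/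
abbrev Ks : GrothendieckTopology (Cs X) :=
  (eqv X).inverse.inducedTopology X.smallEtaleTopology

instance : (ULiftHom.down : Cs X ⥤ X.Etale).IsEquivalence := (eqv X).isEquivalence_inverse

instance : HasPullbacks (Cs X) :=
  Adjunction.hasLimitsOfShape_of_equivalence (ULiftHom.down : Cs X ⥤ X.Etale)

/-- the underlying scheme -/
abbrev Φ : Cs X ⥤ Scheme.{u} := ULiftHom.down ⋙ Scheme.Etale.forget X ⋙ Over.forget X

instance : PreservesLimitsOfShape WalkingCospan (Φ X) := inferInstance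

/-- quasi-compact quasi-separated étale schemes -/
def B : Set (Cs X) := {U | CompactSpace ((Φ X).obj U) ∧ QuasiSeparatedSpace ((Φ X).obj U)}

variable {X}

lemma mem_B_of_iso {U V : Cs X} (e : U ≅ V) (hV : V ∈ B X) : U ∈ B X := by
  obtain ⟨h1, h2⟩ := hV
  let a : (Φ X).obj U ≅ (Φ X).obj V := (Φ X).mapIso e
  exact ⟨QuasiCompact.compactSpace_of_compactSpace a.hom,
    quasiSeparatedSpace_of_quasiSeparated a.hom⟩

lemma isPullback_mem_B {P V W U : Cs X} {f : P ⟶ V} {g : P ⟶ W} {a : V ⟶ U} {b : W ⟶ U}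
    (h : IsPullback f g a b) (hV : V ∈ B X) (hW : W ∈ B X) (hU : U ∈ B X) : P ∈ B X := by
  obtain ⟨hV1, hV2⟩ := hV
  obtain ⟨hW1, hW2⟩ := hW
  obtain ⟨hU1, hU2⟩ := hU
  have h' := h.map (Φ X)
  let e := h'.isoPullback
  have : QuasiCompact ((Φ X).map a) := inferInstance
  have : QuasiSeparated ((Φ X).map a) := inferInstance
  have c1 : CompactSpace ↥(pullback ((Φ X).map a) ((Φ X).map b)) := inferInstance
  have c2 : QuasiSeparatedSpace ↥(pullback ((Φ X).map a) ((Φ X).map b)) :=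
    quasiSeparatedSpace_of_quasiSeparated (pullback.snd ((Φ X).map a) ((Φ X).map b))
  exact ⟨QuasiCompact.compactSpace_of_compactSpace e.hom,
    quasiSeparatedSpace_of_quasiSeparated e.hom⟩

section Products

variable {U : Cs X}

/-- the object property on `Over U` -/
def PB (U : Cs X) : ObjectProperty (Over U) := fun V => V.left ∈ B X

lemma isPullback_of_isLimit_pairDiagram {𝒞 : Type*} [Category 𝒞] {U : 𝒞}
    (F : Discrete WalkingPair ⥤ Over U) (c : Cone F) (hc : IsLimit c) :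
    IsPullback (c.π.app ⟨.left⟩).left (c.π.app ⟨.right⟩).left
      (F.obj ⟨.left⟩).hom (F.obj ⟨.right⟩).hom := by
  let c' : BinaryFan (F.obj ⟨.left⟩) (F.obj ⟨.right⟩) :=
    BinaryFan.mk (c.π.app ⟨.left⟩) (c.π.app ⟨.right⟩)
  have hc' : IsLimit c' :=
    IsLimit.ofIsoLimit ((IsLimit.postcomposeHomEquiv (diagramIsoPair F) c).symm hc)
      (Cone.ext (Iso.refl _) (by rintro ⟨_ | _⟩ <;> simp [c']))
  exact Over.isPullback_of_binaryFan_isLimit c' hc'

lemma PB_binary (hU : U ∈ B X) : (PB U).IsClosedUnderBinaryProducts where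
  limitsOfShape_le := by
    rintro V ⟨p⟩
    have h := isPullback_of_isLimit_pairDiagram p.diag (Cone.mk V p.π) p.isLimit
    exact isPullback_mem_B h (p.prop_diag_obj ⟨.left⟩) (p.prop_diag_obj ⟨.right⟩) hU

lemma PB_terminal (hU : U ∈ B X) :
    (PB U).IsClosedUnderLimitsOfShape (Discrete.{0} PEmpty) where
  limitsOfShape_le := by
    rintro V ⟨p⟩
    have hV : IsTerminal V :=
      (IsLimit.equivOfNatIsoOfIso p.diag.uniqueFromEmpty _ _
        (by exact Cone.ext (Iso.refl _) (by rintro ⟨⟨⟩⟩))).1 p.isLimit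
    let e : V ≅ Over.mk (𝟙 U) := hV.uniqueUpToIso Over.mkIdTerminal
    exact mem_B_of_iso ((Over.forget U).mapIso e) hU

lemma prod_mem_B (hU : U ∈ B X) {n : ℕ} (Y : Fin n → Over U)
    (hY : ∀ i, (Y i).left ∈ B X) : (∏ᶜ Y).left ∈ B X := by
  have := PB_binary hU
  have := PB_terminal hU
  have : (PB U).IsClosedUnderFiniteProducts := ObjectProperty.IsClosedUnderFiniteProducts.mk'
  exact (PB U).prop_product hY

end Products



/-- the class of finite coverings by quasi-compact quasi-separated objects -/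
def Cov (U : Cs X) (ι : Type (u + 1)) (Y : ι → Over U) : Prop :=
  Finite ι ∧ U ∈ B X ∧ (∀ i, (Y i).left ∈ B X) ∧
    Sieve.ofArrows (fun i => (Y i).left) (fun i => (Y i).hom) ∈ Ks X U

lemma Cov_h1 (U : Cs X) (ι : Type (u + 1)) (Y : ι → Over U) (h : Cov U ι Y) :
    Finite ι ∧ U ∈ B X ∧ Sieve.ofArrows (fun i => (Y i).left) (fun i => (Y i).hom) ∈ Ks X U ∧
    ∀ (p : ℕ) (a : Fin (p + 1) → ι), (∏ᶜ fun k => Y (a k)).left ∈ B X :=
  ⟨h.1, h.2.1, h.2.2.2, fun _ a => prod_mem_B h.2.1 _ (fun k => h.2.2.1 (a k))⟩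

lemma Cov_h2 (U : Cs X) (hU : U ∈ B X) (T : Sieve U) (hT : T ∈ Ks X U) :
    ∃ (ι : Type (u + 1)) (Y : ι → Over U), Cov U ι Y ∧ ∀ i, T.arrows (Y i).hom := by
  have hU' := hU
  obtain ⟨hU1, hU2⟩ := hU
  let W : X.Etale := (ULiftHom.down : Cs X ⥤ X.Etale).obj U
  have hT' : T.functorPushforward (ULiftHom.down : Cs X ⥤ X.Etale) ∈ X.smallEtaleTopology W :=
    (Functor.mem_inducedTopology_iff_of_isCoverDense (G := (ULiftHom.down : Cs X ⥤ X.Etale))
      (K := X.smallEtaleTopology) T).1 hT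
  obtain ⟨𝒰, h𝒰, hP, hle⟩ := (Scheme.mem_smallGrothendieckTopology W _).1 hT'
  have : QuasiCompactCover 𝒰.toPreZeroHypercover :=
    QuasiCompactCover.of_isOpenMap (fun i => (𝒰.f i).isOpenMap)
  have : CompactSpace W.left := hU1
  obtain ⟨𝒱, f, hfin, hf⟩ : ∃ (𝒱 : Scheme.AffineCover.{u} @Etale W.left) (f : 𝒱.cover ⟶ 𝒰),
      Finite 𝒱.I₀ ∧ ∀ j, IsOpenImmersion (f.h₀ j) := QuasiCompactCover.exists_hom 𝒰
  have hj : ∀ j : 𝒱.I₀, Etale (𝒱.f j) := fun j => 𝒱.map_prop j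
  let Z : 𝒱.I₀ → X.Etale := fun j => Scheme.Etale.mk (𝒱.f j ≫ W.hom)
  let g : ∀ j, Z j ⟶ W := fun j => MorphismProperty.Over.homMk (𝒱.f j) rfl
  let Yf : ULift.{u + 1} 𝒱.I₀ → Over U := fun j =>
    Over.mk (Y := (ULiftHom.objUp (Z j.down) : Cs X))
      (ULift.up (g j.down) : (ULiftHom.objUp (Z j.down) : Cs X) ⟶ U)
  refine ⟨ULift.{u + 1} 𝒱.I₀, Yf, ⟨inferInstance, hU', ?_, ?_⟩, ?_⟩
  · rintro ⟨j⟩
    exact ⟨inferInstanceAs (CompactSpace (Spec (𝒱.X j))),
      inferInstanceAs (QuasiSeparatedSpace (Spec (𝒱.X j)))⟩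
  · have h1 : Sieve.ofArrows Z g ∈ X.smallEtaleTopology W := by
      rw [Scheme.ofArrows_mem_smallEtaleTopology_iff]
      ext x
      simp only [Set.mem_iUnion, Set.mem_univ, iff_true]
      exact ⟨𝒱.idx x, 𝒱.covers x⟩
    refine (Functor.mem_inducedTopology_iff_of_isCoverDense
      (G := (ULiftHom.down : Cs X ⥤ X.Etale)) (K := X.smallEtaleTopology) _).2 ?_
    refine X.smallEtaleTopology.superset_covering ?_ h1
    rw [Sieve.ofArrows, Sieve.generate_le_iff]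
    rintro _ _ ⟨j⟩
    exact ⟨(Yf ⟨j⟩).left, (Yf ⟨j⟩).hom, 𝟙 _, Sieve.ofArrows_mk _ _ (ULift.up j),
      (Category.id_comp _).symm⟩
  · rintro ⟨j⟩
    obtain ⟨V', a, b, ha, hab⟩ := hle _ ((𝒰.f (f.s₀ j)).asOverProp X) ⟨f.s₀ j⟩
    have hw : f.h₀ j ≫ (𝒰.X (f.s₀ j) ↘ X) = 𝒱.f j ≫ W.hom := by
      have h1 : f.h₀ j ≫ 𝒰.f (f.s₀ j) = 𝒱.f j := f.w₀ j
      have h2 : 𝒰.f (f.s₀ j) ≫ W.hom = 𝒰.X (f.s₀ j) ↘ X := CategoryTheory.comp_over (𝒰.f (f.s₀ j)) X
      exact (congrArg (fun t => f.h₀ j ≫ t) h2.symm).trans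
        ((Category.assoc _ _ _).symm.trans (congrArg (fun t => t ≫ W.hom) h1))
    let c₀ : Z j ⟶ (𝒰.X (f.s₀ j)).asOverProp X (hP _) := MorphismProperty.Over.homMk (f.h₀ j) hw
    have hg : g j = c₀ ≫ (𝒰.f (f.s₀ j)).asOverProp X := by
      apply MorphismProperty.Over.Hom.ext
      exact (f.w₀ j).symm
    have : (Yf ⟨j⟩).hom = (ULift.up (c₀ ≫ b) : (ULiftHom.objUp (Z j) : Cs X) ⟶ V') ≫ a := by
      apply ULift.ext
      change g j = (c₀ ≫ b) ≫ a.down
      rw [hg, hab, Category.assoc]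
      rfl
    rw [this]
    exact T.downward_closed ha _


end Groth.Agent.Lib.Helper47.EtQc
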