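import Groth.Prelude.Def_EtCore
import Groth.Agent.Lib.Helper47.EtQc
import Groth.Agent.Lib.Helper47.SiteTransport3

/-!
# Étale cohomology of a qcqs scheme commutes with filtered colimits, index categories in the
universe of the coefficients (helper47)
-/

set_option autoImplicit false
universe u
open CategoryTheory CategoryTheory.Limits AlgebraicGeometry Opposite

namespace Groth.Agent.Lib.Helper47.EtQc

/-- étale cohomology of a qcqs scheme commutes with filtered colimits indexed by categories which
are small with respect to the universe of the coefficients -/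
theorem preservesColimitsOfShape_HF (X : Scheme.{u}) [CompactSpace X] [QuasiSeparatedSpace X]
    (n : ℕ) (I : Type (u + 1)) [SmallCategory I] [IsFiltered I] :
    PreservesColimitsOfShape I (EtCoh.HF X n) := by
  have hT : IsTerminal (EtCoh.top X) := EtCore.topIsTerminal X
  have hB : (eqv X).functor.obj (EtCoh.top X) ∈ B X :=
    ⟨inferInstanceAs (CompactSpace X), inferInstanceAs (QuasiSeparatedSpace X)⟩
  exact SiteTransport.preservesColimitsOfShape_functorH_of_cov.{u + 1} X.smallEtaleTopology (Ks X)
      (eqv X) (B X) Cov Cov_h1 Cov_h2 hT hB n I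

/-- the same for sequential colimits -/
theorem preservesColimitsOfShape_HF_nat (X : Scheme.{u}) [CompactSpace X] [QuasiSeparatedSpace X]
    (n : ℕ) : PreservesColimitsOfShape ℕ (EtCoh.HF X n) := by
  let e : ULift.{u + 1} ℕ ≌ ℕ := OrderIso.equivalence ULift.orderIso
  have : IsFiltered (ULift.{u + 1} ℕ) := IsFiltered.of_equivalence e.symm
  have := preservesColimitsOfShape_HF X n (ULift.{u + 1} ℕ)
  exact preservesColimitsOfShape_of_equiv e _

end Groth.Agent.Lib.Helper47.EtQc
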