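import Groth.Agent.Lib.Helper47.DeltaGen

/-!
# Pre-composition of a δ-functor with an exact functor (helper47)
-/

set_option autoImplicit false
set_option linter.unusedSectionVars false
universe v u v' u' v'' u''
open CategoryTheory CategoryTheory.Limits Opposite

namespace Groth.Agent.Lib.Helper47.DeltaGen

section Pre

variable {A : Type u} [Category.{v} A] [Abelian A]
  {B : Type u'} [Category.{v'} B] [Abelian B] {A' : Type u''} [Category.{v''} A'] [Abelian A']
  (T : DeltaF.CohDeltaFunctor A B ℕ)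
  (E : A' ⥤ A) [E.Additive] [PreservesFiniteLimits E] [PreservesFiniteColimits E]

/-- pre-composition of a δ-functor with an exact functor -/
noncomputable def precompDelta : DeltaF.CohDeltaFunctor A' B ℕ where
  F n := E ⋙ T.F n
  additive _ := inferInstance
  δ S hS n₀ n₁ h := T.δ (S.map E) (hS.map_of_exact E) n₀ n₁ h
  δ_natural hS hS' φ n₀ n₁ h :=
    T.δ_natural (hS.map_of_exact E) (hS'.map_of_exact E) (E.mapShortComplex.map φ) n₀ n₁ h
  exact₂ S hS n := T.exact₂ (S.map E) (hS.map_of_exact E) n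
  comp_δ S hS n₀ n₁ h := T.comp_δ (S.map E) (hS.map_of_exact E) n₀ n₁ h
  exact₃ S hS n₀ n₁ h := T.exact₃ (S.map E) (hS.map_of_exact E) n₀ n₁ h
  δ_comp S hS n₀ n₁ h := T.δ_comp (S.map E) (hS.map_of_exact E) n₀ n₁ h
  exact₁ S hS n₀ n₁ h := T.exact₁ (S.map E) (hS.map_of_exact E) n₀ n₁ h

lemma precompDelta_F (n : ℕ) : (precompDelta T E).F n = E ⋙ T.F n := rfl

variable [EnoughInjectives A'] [E.PreservesInjectiveObjects]

lemma precompDelta_isUniversal
    (h : ∀ (n : ℕ) (I : A), Injective I → IsZero ((T.F (n + 1)).obj I)) :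
    (precompDelta T E).IsUniversal :=
  Groth.Agent.S6773.result _ ((Groth.Agent.S14349.result _).2 (fun n I hI =>
    h n (E.obj I) (E.injective_obj I)))

end Pre

end Groth.Agent.Lib.Helper47.DeltaGen
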