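import Groth.Agent.Lib.Cohomology.helper5_SiteH
import Groth.Agent.Lib.Helper47.DeltaGen

/-!
# `R^p u_*` is the sheafification of `V ↦ H^p(u V, -)`, for a continuous functor from an
arbitrary site to a small site (helper47)
-/

set_option autoImplicit false
set_option linter.unusedSectionVars false
universe u v' u'
open CategoryTheory CategoryTheory.Limits Opposite

namespace Groth.Agent.Lib.Helper47.RpushGen

open Abelian Groth.Agent.Lib.Cohomology.SiteH Groth.Agent.Lib.Helper47.DeltaGen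

variable {C : Type u} [SmallCategory C] {D : Type u'} [Category.{v'} D]
  (J : GrothendieckTopology C) (K : GrothendieckTopology D) (u : D ⥤ C)

/-- `V ↦ ℤ_{u V}` -/
noncomputable def ZZ : D ⥤ Sheaf J AddCommGrpCat.{u} :=
  u ⋙ yoneda ⋙ (Functor.whiskeringRight _ _ _).obj AddCommGrpCat.free.{u} ⋙
    presheafToSheaf J AddCommGrpCat.{u}

lemma ZZ_obj (V : D) : (ZZ J u).obj V = CohCx.freeSheaf J (u.obj V) := rfl

lemma ZZ_map {V V' : D} (j : V ⟶ V') : (ZZ J u).map j = CohCx.freeSheafMap J (u.map j) := rfl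

lemma sect_nat_V (G : Sheaf J AddCommGrpCat.{u}) {V V' : Dᵒᵖ} (j : V ⟶ V')
    (t : G.obj.obj (op (u.obj V.unop))) :
    sectionsEquivH0 J G (u.obj V'.unop) (G.obj.map (u.map j.unop).op t) =
      (Ext.mk₀ (CohCx.freeSheafMap J (u.map j.unop))).comp
        (sectionsEquivH0 J G (u.obj V.unop) t) (zero_add 0) := by
  rw [sectionsEquivH0_apply, sectionsEquivH0_apply, Ext.mk₀_comp_mk₀, ofSect_res]

variable [u.IsContinuous K J]

/-- the direct image functor -/
noncomputable abbrev push : Sheaf J AddCommGrpCat.{u} ⥤ Sheaf K AddCommGrpCat.{u} :=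
  u.sheafPushforwardContinuous AddCommGrpCat.{u} K J

/-- sections over `u V` are `Ext^0(ℤ_{u V}, -)`, naturally in `V` -/
noncomputable def e0app (G : Sheaf J AddCommGrpCat.{u}) :
    (push J K u ⋙ sheafToPresheaf K AddCommGrpCat.{u}).obj G ≅ (HZ (ZZ J u) 0).obj G :=
  NatIso.ofComponents (fun V => (sectionsEquivH0 J G (u.obj V.unop)).toAddCommGrpIso) (by
    intro V V' j
    ext t
    exact sect_nat_V J u G j t)

/-- `u_*` followed by the forgetful functor is `G ↦ (V ↦ Ext^0(ℤ_{u V}, G))` -/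
noncomputable def e0 :
    push J K u ⋙ sheafToPresheaf K AddCommGrpCat.{u} ≅ HZ (ZZ J u) 0 :=
  NatIso.ofComponents (e0app J K u) (by
    intro G G' φ
    ext V t
    exact sectionsEquivH0_naturality J φ (u.obj V.unop) t)

variable [HasSheafify K AddCommGrpCat.{u}]

/-- the δ-functor `G ↦ (V ↦ H^n(u V, G))^#` -/
noncomputable def TT :
    DeltaF.CohDeltaFunctor (Sheaf J AddCommGrpCat.{u}) (Sheaf K AddCommGrpCat.{u}) ℕ :=
  postcompDelta (extFamDelta.{u} (ZZ J u)) (presheafToSheaf K AddCommGrpCat.{u})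

lemma TT_F (n : ℕ) :
    (TT J K u).F n = HZ.{u} (ZZ J u) n ⋙ presheafToSheaf K AddCommGrpCat.{u} := rfl

lemma TT_isUniversal : (TT J K u).IsUniversal :=
  postcompDelta_isUniversal _ _ (fun n I _ => isZero_HZ_succ_injective (ZZ J u) n I)

lemma isZero_TT_succ_injective (n : ℕ) (I : Sheaf J AddCommGrpCat.{u}) [Injective I] :
    IsZero (((TT J K u).F (n + 1)).obj I) :=
  (presheafToSheaf K AddCommGrpCat.{u}).map_isZero (isZero_HZ_succ_injective (ZZ J u) n I)

/-- `u_*` is the degree zero part -/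
noncomputable def pushIso : push J K u ≅ (TT J K u).F 0 :=
  (Functor.rightUnitor _).symm ≪≫
    Functor.isoWhiskerLeft _ (asIso (sheafificationAdjunction K AddCommGrpCat.{u}).counit).symm ≪≫
    (Functor.associator _ _ _).symm ≪≫
    Functor.isoWhiskerRight (e0 J K u) (presheafToSheaf K AddCommGrpCat.{u})

end Groth.Agent.Lib.Helper47.RpushGen
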