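import Mathlib

/-!
# Transport of sheaf cohomology along an equivalence of sites (helper47)
-/

set_option autoImplicit false
universe w v₁ u₁
open CategoryTheory CategoryTheory.Limits Opposite Abelian

namespace Groth.Agent.Lib.Helper47.SiteTransport

variable {C : Type u₁} [Category.{v₁} C] (J : GrothendieckTopology C)
variable {D : Type w} [SmallCategory D] (K : GrothendieckTopology D) (e : C ≌ D)
  [e.inverse.IsDenseSubsite K J]
variable [HasSheafify J AddCommGrpCat.{w}]

/-- the equivalence of abelian sheaf categories -/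
noncomputable abbrev E : Sheaf J AddCommGrpCat.{w} ≌ Sheaf K AddCommGrpCat.{w} :=
  e.sheafCongr J K AddCommGrpCat.{w}

/-- sections of the transported sheaf -/
noncomputable def sectionsIso (T : C) :
    (E J K e).inverse ⋙ (sheafSections J AddCommGrpCat.{w}).obj (op T) ≅
      (sheafSections K AddCommGrpCat.{w}).obj (op (e.functor.obj T)) :=
  NatIso.ofComponents (fun F => Iso.refl _) (by
    intro F G φ
    simp only [Iso.refl_hom]
    rfl)

/-- the constant sheaf is transported to the constant sheaf -/
noncomputable def constIso {T : C} (hT : IsTerminal T) :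
    constantSheaf J AddCommGrpCat.{w} ⋙ (E J K e).functor ≅ constantSheaf K AddCommGrpCat.{w} :=
  (((constantSheafAdj J AddCommGrpCat.{w} hT).comp (E J K e).toAdjunction).ofNatIsoRight
      (sectionsIso J K e T)).leftAdjointUniq
    (constantSheafAdj K AddCommGrpCat.{w} (hT.isTerminalObj e.functor T))

section Ext

variable [HasExt.{w} (Sheaf J AddCommGrpCat.{w})] [HasExt.{w} (Sheaf K AddCommGrpCat.{w})]
  [EnoughInjectives (Sheaf J AddCommGrpCat.{w})]

instance : (E J K e).functor.Additive := Functor.additive_of_preserves_binary_products _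

instance : (E J K e).functor.PreservesInjectiveObjects :=
  Functor.preservesInjectiveObjects_of_adjunction_of_preservesMonomorphisms
    (E J K e).symm.toAdjunction

/-- the comparison of cohomology groups -/
noncomputable def cmp {T : C} (hT : IsTerminal T) (n : ℕ) (F : Sheaf J AddCommGrpCat.{w}) :
    Sheaf.H F n →+ Sheaf.H ((E J K e).functor.obj F) n :=
  ((Ext.mk₀ ((constIso J K e hT).inv.app (AddCommGrpCat.of (ULift ℤ)))).precomp _ (zero_add n)).comp
    ((E J K e).functor.mapExtAddHom _ F n)

lemma cmp_bijective {T : C} (hT : IsTerminal T) (n : ℕ) (F : Sheaf J AddCommGrpCat.{w}) :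
    Function.Bijective (cmp J K e hT n F) := by
  let a := (constIso J K e hT).app (AddCommGrpCat.of (ULift ℤ))
  have h0 : ⇑(cmp J K e hT n F) = ⇑((Ext.mk₀ a.inv).precomp ((E J K e).functor.obj F) (zero_add n)) ∘
      ⇑((E J K e).functor.mapExtAddHom _ F n) := rfl
  rw [h0]
  refine Function.Bijective.comp ?_
    ((E J K e).functor.mapExt_bijective_of_preservesInjectiveObjects _ F n)
  refine Function.bijective_iff_has_inverse.2
    ⟨(Ext.mk₀ a.hom).precomp _ (zero_add n), ?_, ?_⟩
  · intro x
    change (Ext.mk₀ a.hom).comp ((Ext.mk₀ a.inv).comp x (zero_add n)) (zero_add n) = x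
    rw [Ext.mk₀_comp_mk₀_assoc, a.hom_inv_id, Ext.mk₀_id_comp]
  · intro x
    change (Ext.mk₀ a.inv).comp ((Ext.mk₀ a.hom).comp x (zero_add n)) (zero_add n) = x
    rw [Ext.mk₀_comp_mk₀_assoc, a.inv_hom_id, Ext.mk₀_id_comp]

/-- cohomology is transported along an equivalence of sites -/
noncomputable def functorHIso {T : C} (hT : IsTerminal T) (n : ℕ) :
    Sheaf.functorH J n ≅ (E J K e).functor ⋙ Sheaf.functorH K n :=
  NatIso.ofComponents
    (fun F => (AddEquiv.ofBijective (cmp J K e hT n F) (cmp_bijective J K e hT n F)).toAddCommGrpIso)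
    (by
      intro F G φ
      ext x
      change cmp J K e hT n G (x.comp (Ext.mk₀ φ) (add_zero n)) =
        (cmp J K e hT n F x).comp (Ext.mk₀ ((E J K e).functor.map φ)) (add_zero n)
      change (Ext.mk₀ _).comp ((x.comp (Ext.mk₀ φ) (add_zero n)).mapExactFunctor (E J K e).functor)
        (zero_add n) = ((Ext.mk₀ _).comp (x.mapExactFunctor (E J K e).functor) (zero_add n)).comp
          (Ext.mk₀ ((E J K e).functor.map φ)) (add_zero n)
      rw [Ext.mapExactFunctor_comp, Ext.mapExactFunctor_mk₀, Ext.comp_assoc_of_third_deg_zero])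

include e in
theorem preservesColimitsOfShape_functorH {T : C} (hT : IsTerminal T) (n : ℕ)
    (I : Type*) [Category I] [PreservesColimitsOfShape I (Sheaf.functorH K n)] :
    PreservesColimitsOfShape I (Sheaf.functorH J n) :=
  preservesColimitsOfShape_of_natIso (functorHIso J K e hT n).symm

end Ext

end Groth.Agent.Lib.Helper47.SiteTransport
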