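import Groth.Agent.Lib.Helper47.EtQc
import Groth.Agent.Lib.Helper47.SiteTransport
import Groth.Agent.Lib.Helper47.RpushGen
import Groth.Agent.Lib.Helper47.PrecompDelta

/-!
# Higher direct images of étale sheaves as sheafified cohomology of the small model (helper47)
-/

set_option autoImplicit false
universe u
open CategoryTheory CategoryTheory.Limits AlgebraicGeometry Opposite

namespace Groth.Agent.Lib.Helper47.EtQc

open Groth.Agent.Lib.Helper47.DeltaGen

variable {X Y : Scheme.{u}} (f : X ⟶ Y) [EtCoh.BCCont f]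

/-- the equivalence between étale sheaves and sheaves on the small model -/
noncomputable abbrev EX (X : Scheme.{u}) :
    EtCoh.Ab X ≌ Sheaf (Ks X) AddCommGrpCat.{u + 1} :=
  SiteTransport.E X.smallEtaleTopology (Ks X) (eqv X)

/-- small model of base change -/
noncomputable abbrev us : Y.Etale ⥤ Cs X := EtCoh.bc f ⋙ (ULiftHom.up : X.Etale ⥤ Cs X)

instance : (ULiftHom.up : X.Etale ⥤ Cs X).IsContinuous X.smallEtaleTopology (Ks X) :=
  inferInstanceAs ((eqv X).functor.IsContinuous X.smallEtaleTopology (Ks X))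

instance : (us f).IsContinuous Y.smallEtaleTopology (Ks X) :=
  Functor.isContinuous_comp (EtCoh.bc f) (ULiftHom.up : X.Etale ⥤ Cs X)
    Y.smallEtaleTopology X.smallEtaleTopology (Ks X)

/-- the δ-functor `F ↦ (V ↦ H^n(X ×_Y V, F))^#` -/
noncomputable def Tf : DeltaF.CohDeltaFunctor (EtCoh.Ab X) (EtCoh.Ab Y) ℕ :=
  precompDelta (RpushGen.TT (Ks X) Y.smallEtaleTopology (us f)) (EX X).functor

lemma Tf_isUniversal : (Tf f).IsUniversal :=
  precompDelta_isUniversal _ _
    (fun n I _ => RpushGen.isZero_TT_succ_injective (Ks X) Y.smallEtaleTopology (us f) n I)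

/-- direct image via the small model -/
noncomputable def pushIso₁ :
    EtCoh.push f ≅ (EX X).functor ⋙ RpushGen.push (Ks X) Y.smallEtaleTopology (us f) :=
  NatIso.ofComponents (fun G => ObjectProperty.isoMk _ (NatIso.ofComponents (fun V => Iso.refl _)
    (by intro V V' j; simp; rfl))) (by intro G G' φ; ext V; simp; rfl)

/-- direct image is the degree zero part of `Tf` -/
noncomputable def pushIso₀ : EtCoh.push f ≅ (Tf f).F 0 :=
  pushIso₁ f ≪≫ Functor.isoWhiskerLeft (EX X).functor
    (RpushGen.pushIso (Ks X) Y.smallEtaleTopology (us f))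

instance : PreservesFiniteLimits (EtCoh.push f) := by
  have := (EtCoh.pullPushAdj f).rightAdjoint_preservesLimits
  infer_instance

/-- `R^q f_*` is the sheafification of `V ↦ H^q(X ×_Y V, -)` computed on the small model -/
theorem nonempty_Rpush_iso (q : ℕ) :
    Nonempty (EtCoh.Rpush f q ≅ (EX X).functor ⋙
      HZ.{u + 1} (RpushGen.ZZ (Ks X) (us f)) q ⋙
        presheafToSheaf Y.smallEtaleTopology AddCommGrpCat.{u + 1}) :=
  nonempty_rightDerived_iso (Tf f) (Tf_isUniversal f) (EtCoh.push f) (pushIso₀ f) q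

end Groth.Agent.Lib.Helper47.EtQc
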