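import Groth.Agent.Lib.Helper47.TorsColim

/-!
# Sheaves whose sections are locally killed by a member of a divisibility chain (helper47)
-/

set_option autoImplicit false
set_option linter.unusedSectionVars false
universe w' w v₁ u₁
open CategoryTheory CategoryTheory.Limits Opposite Abelian

namespace Groth.Agent.Lib.Helper47.TorsColim

variable {C : Type u₁} [Category.{v₁} C] {J : GrothendieckTopology C}
  [HasSheafify J AddCommGrpCat.{w}]

variable (F : Sheaf J AddCommGrpCat.{w}) (m : ℕ → ℕ) (hm : ∀ k, m k ∣ m (k + 1))

/-- the sequence of the `m k`-torsion subsheaves -/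
noncomputable def seqM : ℕ ⥤ Sheaf J AddCommGrpCat.{w} :=
  Functor.ofSequence (X := fun k => tors F (m k)) (fun k => torsMap F (hm k))

/-- the inclusions, as a natural transformation to the constant diagram -/
noncomputable def seqMι : seqM F m hm ⟶ (Functor.const ℕ).obj F :=
  NatTrans.ofSequence (fun k => torsι F (m k)) (by
    intro k
    have h1 : (seqM F m hm).map (homOfLE (k.le_add_right 1)) = torsMap F (hm k) :=
      Functor.ofSequence_map_homOfLE_succ _ k
    rw [h1]
    exact (torsMap_ι F _).trans (Category.comp_id _).symm)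

instance : Mono (seqMι F m hm) := by
  have : ∀ k, Mono ((seqMι F m hm).app k) := fun k =>
    inferInstanceAs (Mono (torsι F (m k)))
  exact NatTrans.mono_of_mono_app _

include hm in
lemma dvd_of_le {k k' : ℕ} (h : k ≤ k') : m k ∣ m k' := by
  induction h with
  | refl => exact dvd_rfl
  | step _ ih => exact ih.trans (hm _)

section Main

attribute [local instance] IsFiltered.isConnected

variable [HasColimitsOfShape ℕ (Sheaf J AddCommGrpCat.{w})]
  [(colim : (ℕ ⥤ Sheaf J AddCommGrpCat.{w}) ⥤ Sheaf J AddCommGrpCat.{w}).PreservesMonomorphisms]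

/-- the comparison map from the colimit of the torsion subsheaves -/
noncomputable def descM : colimit (seqM F m hm) ⟶ F :=
  colimit.desc (seqM F m hm) ⟨F, seqMι F m hm⟩

@[reassoc]
lemma ι_descM (k : ℕ) : colimit.ι (seqM F m hm) k ≫ descM F m hm = torsι F (m k) :=
  colimit.ι_desc _ _

instance : Mono (descM F m hm) :=
  colim.map_mono' (seqMι F m hm) (colimit.isColimit (seqM F m hm)) (isColimitConstCocone ℕ F)
    (descM F m hm) (fun k => (ι_descM F m hm k).trans (Category.comp_id _).symm)

variable (hF : ∀ (U : C) (s : F.obj.obj (op U)), ∃ R ∈ J U, ∀ ⦃V : C⦄ (f : V ⟶ U), R f →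
  ∃ k, m k • F.obj.map f.op s = 0)

include hF in
lemma isLocallySurjective_descM : Sheaf.IsLocallySurjective (descM F m hm) := by
  constructor
  intro U s
  obtain ⟨R, hR, h⟩ := hF U s
  refine J.superset_covering ?_ hR
  intro V f hf
  obtain ⟨k, hk⟩ := h f hf
  obtain ⟨t', ht'⟩ := exists_torsι_app_eq F (m k) (op V) (F.obj.map f.op s) hk
  refine ⟨(colimit.ι (seqM F m hm) k).hom.app (op V) t', ?_⟩
  have := congrArg (fun φ : (seqM F m hm).obj k ⟶ F => φ.hom.app (op V) t') (ι_descM F m hm k)
  exact this.trans ht'

include hF in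
lemma isIso_descM : IsIso (descM F m hm) := by
  have := isLocallySurjective_descM F m hm hF
  have : Epi (descM F m hm) := Sheaf.epi_of_isLocallySurjective _
  exact isIso_of_mono_of_epi _

include hF in
/-- an additive functor commuting with the colimit of the torsion subsheaves takes values in
groups whose elements are killed by members of the chain -/
theorem exists_nsmul_eq_zero (G : Sheaf J AddCommGrpCat.{w} ⥤ AddCommGrpCat.{w'}) [G.Additive]
    [PreservesColimit (seqM F m hm) G] (x : G.obj F) : ∃ k, m k • x = 0 := by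
  have := isIso_descM F m hm hF
  let x' : G.obj (colimit (seqM F m hm)) := G.map (inv (descM F m hm)) x
  have hc : IsColimit (G.mapCocone (colimit.cocone (seqM F m hm))) :=
    isColimitOfPreserves G (colimit.isColimit _)
  have : PreservesFilteredColimitsOfSize.{0, 0} (forget AddCommGrpCat.{w'}) :=
    preservesFilteredColimitsOfSize_shrink.{0, w', 0, w'} _
  have : PreservesColimitsOfShape ℕ (forget AddCommGrpCat.{w'}) :=
    PreservesFilteredColimitsOfSize.preserves_filtered_colimits ℕ
  obtain ⟨k, y, hy⟩ := Concrete.isColimit_exists_rep _ hc x'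
  let y₀ : G.obj (tors F (m k)) := y
  have hy' : G.map (colimit.ι (seqM F m hm) k) y₀ = x' := hy
  have hx : x = G.map (torsι F (m k)) y₀ := by
    have h1 : G.map (descM F m hm) x' = x := by
      change (G.map (inv (descM F m hm)) ≫ G.map (descM F m hm)) x = x
      rw [← G.map_comp, IsIso.inv_hom_id, G.map_id]
      rfl
    have h2 : G.map (torsι F (m k)) =
        G.map (colimit.ι (seqM F m hm) k) ≫ G.map (descM F m hm) := by
      rw [← G.map_comp]
      exact congrArg G.map (ι_descM F m hm k).symm
    rw [← h1, ← hy', h2]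
    rfl
  have hy0 : m k • y₀ = 0 := by
    have h1 : G.map (m k • 𝟙 (tors F (m k))) = m k • 𝟙 _ := by
      rw [G.map_nsmul, G.map_id]
    rw [nsmul_id_tors, G.map_zero] at h1
    have h2 := congrArg (fun φ : G.obj (tors F (m k)) ⟶ G.obj (tors F (m k)) => φ y₀) h1
    have h3 : (m k • 𝟙 (G.obj (tors F (m k))) :
        G.obj (tors F (m k)) ⟶ G.obj (tors F (m k))) y₀ = m k • y₀ := by
      simp
    exact h3.symm.trans h2.symm
  exact ⟨k, by rw [hx, ← map_nsmul, hy0, map_zero]⟩

end Main

end Groth.Agent.Lib.Helper47.TorsColim
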