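import Groth.Agent.Lib.Helper47.FilCol5
import Groth.Agent.Lib.Helper47.TorsColim2

/-!
# `Ext^q(ℤ_U, G)` for a locally killed sheaf `G` on a small site with enough finite coverings
(helper47)
-/

set_option autoImplicit false
universe w
open CategoryTheory CategoryTheory.Limits Opposite

namespace Groth.Agent.Lib.Helper47.TorsColim

/-- `Ext^q(ℤ_U, G)` is killed elementwise by members of the chain, for `U ∈ B` and `G` locally
killed -/
theorem exists_nsmul_ext_eq_zero {D : Type w} [SmallCategory D] [HasPullbacks D]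
    (K : GrothendieckTopology D) (B : Set D)
    (Cov : ∀ (U : D) (ι : Type w), (ι → Over U) → Prop)
    (h1 : ∀ (U : D) (ι : Type w) (Y : ι → Over U), Cov U ι Y → Finite ι ∧ U ∈ B ∧
      Sieve.ofArrows (fun i => (Y i).left) (fun i => (Y i).hom) ∈ K U ∧
      ∀ (p : ℕ) (a : Fin (p + 1) → ι), (∏ᶜ fun k => Y (a k)).left ∈ B)
    (h2 : ∀ U ∈ B, ∀ T ∈ K U, ∃ (ι : Type w) (Y : ι → Over U), Cov U ι Y ∧
      ∀ i, T.arrows (Y i).hom)
    (m : ℕ → ℕ) (hm : ∀ k, m k ∣ m (k + 1))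
    (G : Sheaf K AddCommGrpCat.{w})
    (hG : ∀ (U : D) (s : G.obj.obj (op U)), ∃ R ∈ K U, ∀ ⦃V : D⦄ (f : V ⟶ U), R f →
      ∃ k, m k • G.obj.map f.op s = 0)
    (U : D) (hU : U ∈ B) (q : ℕ) (x : Abelian.Ext.{w} (CohCx.freeSheaf K U) G q) :
    ∃ k, m k • x = 0 := by
  let e : ULift.{w} ℕ ≌ ℕ := OrderIso.equivalence ULift.orderIso
  have : IsFiltered (ULift.{w} ℕ) := IsFiltered.of_equivalence e.symm
  have : HasColimitsOfShape ℕ (Sheaf K AddCommGrpCat.{w}) := hasColimitsOfShape_of_equivalence e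
  have : HasExactColimitsOfShape ℕ (Sheaf K AddCommGrpCat.{w}) :=
    HasExactColimitsOfShape.of_domain_equivalence _ e
  have h3 : PreservesColimitsOfShape (ULift.{w} ℕ)
      (Abelian.extFunctorObj.{w} (CohCx.freeSheaf K U) q) :=
    ⟨fun {F} => FilCol.preservesColimit_H B Cov h1 h2 U hU q F⟩
  have h4 : PreservesColimitsOfShape ℕ (Abelian.extFunctorObj.{w} (CohCx.freeSheaf K U) q) :=
    preservesColimitsOfShape_of_equiv e _
  exact exists_nsmul_eq_zero G m hm hG (Abelian.extFunctorObj.{w} (CohCx.freeSheaf K U) q) x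

end Groth.Agent.Lib.Helper47.TorsColim
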