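import Groth.Agent.Lib.Helper47.EtRpush
import Groth.Agent.Lib.Helper47.TorsColim2
import Groth.Agent.Lib.Helper47.ExtKill

/-!
# Higher direct images along qcqs morphisms preserve sheaves with locally torsion sections
(helper47)
-/

set_option autoImplicit false
universe u
open CategoryTheory CategoryTheory.Limits AlgebraicGeometry Opposite

namespace Groth.Agent.Lib.Helper47.EtQc

open Groth.Agent.Lib.Helper47.DeltaGen Groth.Agent.Lib.Helper47.TorsColim

/-- sections are, étale locally around every point, killed by a member of the chain `m` -/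
def LocKilled (m : ℕ → ℕ) {X : Scheme.{u}} (F : EtCoh.Ab X) : Prop :=
  ∀ (U : X.Etale) (s : F.obj.obj (op U)) (x : U.left), ∃ (V : X.Etale) (g : V ⟶ U) (k : ℕ),
    (∃ v : V.left, g.left.base v = x) ∧ m k • F.obj.map g.op s = 0

/-- covering sieves of the small étale site hit every point -/
lemma exists_arrow_of_mem {X : Scheme.{u}} {U : X.Etale} (R : Sieve U)
    (hR : R ∈ X.smallEtaleTopology U) (x : U.left) :
    ∃ (V : X.Etale) (g : V ⟶ U), R g ∧ ∃ v : V.left, g.left.base v = x := by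
  obtain ⟨𝒰, h𝒰, hP, hle⟩ := (Scheme.mem_smallGrothendieckTopology U R).1 hR
  obtain ⟨i, v, hv⟩ := 𝒰.exists_eq x
  exact ⟨_, (𝒰.f i).asOverProp X, hle _ _ ⟨i⟩, v, hv⟩

/-- the transported sheaf on the small model is locally killed -/
lemma locKilled_EX {X : Scheme.{u}} (F : EtCoh.Ab X) (m : ℕ → ℕ) (hF : LocKilled m F)
    (U : Cs X) (s : ((EX X).functor.obj F).obj.obj (op U)) :
    ∃ R ∈ Ks X U, ∀ ⦃V : Cs X⦄ (f : V ⟶ U), R f →
      ∃ k, m k • ((EX X).functor.obj F).obj.map f.op s = 0 := by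
  let EF := (EX X).functor.obj F
  let R : Sieve U :=
    { arrows := fun V f => ∃ k, m k • EF.obj.map f.op s = 0
      downward_closed := by
        rintro V W f ⟨k, hk⟩ h
        refine ⟨k, ?_⟩
        rw [op_comp, EF.obj.map_comp]
        change m k • (EF.obj.map h.op) (EF.obj.map f.op s) = 0
        rw [← map_nsmul, hk, map_zero] }
  refine ⟨R, ?_, fun V f hf => hf⟩
  refine (Functor.mem_inducedTopology_iff_of_isCoverDense
    (G := (ULiftHom.down : Cs X ⥤ X.Etale)) (K := X.smallEtaleTopology) _).2 ?_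
  let U₀ : X.Etale := (ULiftHom.down : Cs X ⥤ X.Etale).obj U
  let s₀ : F.obj.obj (op U₀) := s
  choose V g k hv hk using hF U₀ s₀
  have h1 : Sieve.ofArrows V g ∈ X.smallEtaleTopology U₀ := by
    rw [Scheme.ofArrows_mem_smallEtaleTopology_iff]
    ext x
    simp only [Set.mem_iUnion, Set.mem_univ, iff_true]
    obtain ⟨v, hv'⟩ := hv x
    exact ⟨x, v, hv'⟩
  refine X.smallEtaleTopology.superset_covering ?_ h1
  rw [Sieve.ofArrows, Sieve.generate_le_iff]
  rintro _ _ ⟨x⟩
  exact ⟨(ULiftHom.objUp (V x) : Cs X), (ULift.up (g x) : (ULiftHom.objUp (V x) : Cs X) ⟶ U), 𝟙 _,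
    ⟨k x, hk x⟩, (Category.id_comp _).symm⟩

/-- affine étale neighbourhoods have quasi-compact quasi-separated base change -/
lemma exists_affine_refinement {X Y : Scheme.{u}} (f : X ⟶ Y) [QuasiCompact f] [QuasiSeparated f]
    (V' : Y.Etale) (v : V'.left) :
    ∃ (V'' : Y.Etale) (h : V'' ⟶ V'), (∃ w : V''.left, h.left.base w = v) ∧
      (us f).obj V'' ∈ B X := by
  obtain ⟨W, hW, hvW, -⟩ := exists_isAffineOpen_mem_and_subset (X := V'.left) (x := v)
    (U := ⊤) trivial
  have : IsAffine W.toScheme := hW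
  let V'' : Y.Etale := Scheme.Etale.mk (W.ι ≫ V'.hom)
  let h : V'' ⟶ V' := MorphismProperty.Over.homMk W.ι rfl
  refine ⟨V'', h, ⟨⟨v, hvW⟩, rfl⟩, ?_⟩
  let p : pullback (W.ι ≫ V'.hom) f ⟶ W.toScheme := pullback.fst (W.ι ≫ V'.hom) f
  have h1 : CompactSpace ↥(pullback (W.ι ≫ V'.hom) f) :=
    QuasiCompact.compactSpace_of_compactSpace p
  have h2 : QuasiSeparatedSpace ↥(pullback (W.ι ≫ V'.hom) f) :=
    quasiSeparatedSpace_of_quasiSeparated p
  exact ⟨h1, h2⟩

/-- higher direct images along a qcqs morphism preserve locally killed sheaves -/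
theorem locKilled_Rpush {X Y : Scheme.{u}} (f : X ⟶ Y) [QuasiCompact f] [QuasiSeparated f]
    [EtCoh.BCCont f] (m : ℕ → ℕ) (hm : ∀ k, m k ∣ m (k + 1)) (F : EtCoh.Ab X)
    (hF : LocKilled m F) (q : ℕ) : LocKilled m ((EtCoh.Rpush f q).obj F) := by
  obtain ⟨φ⟩ := nonempty_Rpush_iso f q
  let EF := (EX X).functor.obj F
  let P : Y.Etaleᵒᵖ ⥤ AddCommGrpCat.{u + 1} := (HZ.{u + 1} (RpushGen.ZZ (Ks X) (us f)) q).obj EF
  let a : (EtCoh.Rpush f q).obj F ≅
      (presheafToSheaf Y.smallEtaleTopology AddCommGrpCat.{u + 1}).obj P := φ.app F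
  intro V s y
  let s' : (sheafify Y.smallEtaleTopology P).obj (op V) := a.hom.hom.app (op V) s
  have hls : Presheaf.IsLocallySurjective Y.smallEtaleTopology (toSheafify Y.smallEtaleTopology P) :=
    inferInstance
  obtain ⟨V', g, ⟨t, ht⟩, v, hv⟩ := exists_arrow_of_mem _
    (Presheaf.imageSieve_mem Y.smallEtaleTopology (toSheafify Y.smallEtaleTopology P) s') y
  obtain ⟨V'', h, ⟨w, hw⟩, hB⟩ := exists_affine_refinement f V' v
  let t' : Abelian.Ext.{u + 1} (CohCx.freeSheaf (Ks X) ((us f).obj V'')) EF q := P.map h.op t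
  obtain ⟨k, hk⟩ := exists_nsmul_ext_eq_zero.{u + 1} (Ks X) (B X) Cov Cov_h1 Cov_h2 m hm EF
    (locKilled_EX F m hF) ((us f).obj V'') hB q t'
  refine ⟨V'', h ≫ g, k, ⟨w, ?_⟩, ?_⟩
  · change g.left.base (h.left.base w) = y
    rw [hw, hv]
  · have hinv : ∀ z : ((EtCoh.Rpush f q).obj F).obj.obj (op V''),
        a.inv.hom.app (op V'') (a.hom.hom.app (op V'') z) = z := fun z =>
      congrArg (fun ψ : (EtCoh.Rpush f q).obj F ⟶ (EtCoh.Rpush f q).obj F =>
        ψ.hom.app (op V'') z) a.hom_inv_id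
    have key : a.hom.hom.app (op V'')
        (m k • ((EtCoh.Rpush f q).obj F).obj.map (h ≫ g).op s) = 0 := by
      rw [map_nsmul]
      have n1 : a.hom.hom.app (op V'') (((EtCoh.Rpush f q).obj F).obj.map (h ≫ g).op s) =
          (sheafify Y.smallEtaleTopology P).map (h ≫ g).op s' :=
        ConcreteCategory.congr_hom (a.hom.hom.naturality (h ≫ g).op) s
      rw [n1, op_comp, Functor.map_comp]
      change m k • (sheafify Y.smallEtaleTopology P).map h.op
        ((sheafify Y.smallEtaleTopology P).map g.op s') = 0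
      rw [← ht]
      have n2 : (sheafify Y.smallEtaleTopology P).map h.op
          ((toSheafify Y.smallEtaleTopology P).app (op V') t) =
          (toSheafify Y.smallEtaleTopology P).app (op V'') (P.map h.op t) :=
        (ConcreteCategory.congr_hom ((toSheafify Y.smallEtaleTopology P).naturality h.op) t).symm
      rw [n2, ← map_nsmul]
      have hk' : m k • (P.map h.op t) = 0 := hk
      rw [hk', map_zero]
    rw [← hinv (m k • ((EtCoh.Rpush f q).obj F).obj.map (h ≫ g).op s), key, map_zero]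

end Groth.Agent.Lib.Helper47.EtQc
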