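import Mathlib

/-!
# Vanishing of `Ext¹(A, R G)` from vanishing of `Ext¹(L A, G)` for an adjunction `L ⊣ R` (helper47)
-/

set_option autoImplicit false
set_option linter.unusedSectionVars false
universe w w' v v' u u'
open CategoryTheory CategoryTheory.Limits CategoryTheory.Abelian

namespace Groth.Agent.Lib.Helper47.PushH1

variable {𝒜 : Type u} [Category.{v} 𝒜] [Abelian 𝒜] [HasExt.{w} 𝒜]
variable {ℬ : Type u'} [Category.{v'} ℬ] [Abelian ℬ] [HasExt.{w'} ℬ] [EnoughInjectives ℬ]

lemma shortExact_of_isKernel {F I Q : 𝒜} (ι : F ⟶ I) (φ : I ⟶ Q) (w : ι ≫ φ = 0)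
    (hk : IsLimit (KernelFork.ofι ι w)) :
    (ShortComplex.mk ι (Abelian.factorThruImage φ)
      ((cancel_mono (Abelian.image.ι φ)).1 (by simp [w]))).ShortExact := by
  have hm : Mono ι := mono_of_isLimit_fork hk
  refine { exact := ShortComplex.exact_of_f_is_kernel _ ?_, mono_f := hm,
           epi_g := inferInstanceAs (Epi (Abelian.factorThruImage φ)) }
  exact isKernelOfComp (f := Abelian.factorThruImage φ) (Abelian.image.ι φ) φ hk _ (by simp)

variable {L : 𝒜 ⥤ ℬ} {R : ℬ ⥤ 𝒜} (adj : L ⊣ R) [R.PreservesZeroMorphisms]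
  (hinj : ∀ I : ℬ, Injective I → Injective (R.obj I))
  (A : 𝒜) (B : ℬ) (e : L.obj A ≅ B) (G : ℬ) (hG : ∀ ξ : Ext B G 1, ξ = 0)

include adj hinj e hG in
theorem ext_one_push_eq_zero (ξ : Ext A (R.obj G) 1) : ξ = 0 := by
  have : PreservesLimitsOfSize.{0, 0} R := adj.rightAdjoint_preservesLimits
  let ι : G ⟶ Injective.under G := Injective.ι G
  let p : Injective.under G ⟶ cokernel ι := cokernel.π ι
  have hS : (ShortComplex.mk ι p (cokernel.condition ι)).ShortExact :=
    { exact := ShortComplex.exact_of_g_is_cokernel _ (cokernelIsCokernel _)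
      mono_f := inferInstanceAs (Mono (Injective.ι G))
      epi_g := inferInstanceAs (Epi (cokernel.π (Injective.ι G))) }
  have hSR : ((ShortComplex.mk ι p (cokernel.condition ι)).map R).Exact :=
    hS.exact.map_of_mono_of_preservesKernel R hS.mono_f inferInstance
  have hmR : Mono (R.map ι) := by
    have := hS.mono_f
    exact inferInstanceAs (Mono (R.map ι))
  have hmR' : Mono ((ShortComplex.mk ι p (cokernel.condition ι)).map R).f := hmR
  have hk : IsLimit (KernelFork.ofι (R.map ι)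
      (show R.map ι ≫ R.map p = 0 from ((ShortComplex.mk ι p (cokernel.condition ι)).map R).zero)) :=
    hSR.fIsKernel
  have hS' := shortExact_of_isKernel (R.map ι) (R.map p) _ hk
  have hI : Injective (R.obj (Injective.under G)) := hinj _ inferInstance
  obtain ⟨β, hβ⟩ := Ext.covariant_sequence_exact₁ A hS' ξ (Ext.eq_zero_of_injective _) rfl
  obtain ⟨b, rfl⟩ := (Ext.mk₀_bijective A _).2 β
  -- the adjoint morphism
  let b' : B ⟶ cokernel ι := e.inv ≫ (adj.homEquiv A (cokernel ι)).symm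
    (b ≫ Abelian.image.ι (R.map p))
  obtain ⟨c, hc⟩ := Ext.covariant_sequence_exact₃ B hS (Ext.mk₀ b') rfl (hG _)
  obtain ⟨c₀, rfl⟩ := (Ext.mk₀_bijective B _).2 c
  have hc₀ : c₀ ≫ p = b' := by
    have h1 : Ext.mk₀ (c₀ ≫ p) = Ext.mk₀ b' := (Ext.mk₀_comp_mk₀ c₀ p).symm.trans hc
    exact (Ext.mk₀_bijective B _).1 h1
  let γ : A ⟶ R.obj (Injective.under G) := adj.homEquiv A _ (e.hom ≫ c₀)
  have hγ : γ ≫ Abelian.factorThruImage (R.map p) = b := by
    rw [← cancel_mono (Abelian.image.ι (R.map p)), Category.assoc, Abelian.image.fac]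
    change adj.homEquiv A _ (e.hom ≫ c₀) ≫ R.map p = _
    rw [← adj.homEquiv_naturality_right, Category.assoc, hc₀]
    change adj.homEquiv A _ (e.hom ≫ e.inv ≫ _) = _
    rw [e.hom_inv_id_assoc, Equiv.apply_symm_apply]
  rw [← hβ, ← hγ, ← Ext.mk₀_comp_mk₀, Ext.comp_assoc_of_second_deg_zero]
  have := hS'.comp_extClass
  rw [this, Ext.comp_zero]

end Groth.Agent.Lib.Helper47.PushH1
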