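import Mathlib
import Groth.Agent.Lib.Helper47.ExtAdjShift
import Groth.Agent.Lib.Helper47.PushH1

/-!
# Injectivity of the degree one edge map `Ext¹(a, R G) → Ext¹(L a, G)` (helper47)
-/

set_option autoImplicit false
set_option linter.unusedSectionVars false
universe w w' v v' u u'
open CategoryTheory CategoryTheory.Limits CategoryTheory.Abelian

namespace Groth.Agent.Lib.Helper47.ExtAdjShift

variable {A : Type u} [Category.{v} A] [Abelian A] [HasExt.{w} A]
  {B : Type u'} [Category.{v'} B] [Abelian B] [HasExt.{w'} B]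
  {L : A ⥤ B} {R : B ⥤ A} (adj : L ⊣ R) [L.Additive] [PreservesFiniteLimits L]
  [PreservesFiniteColimits L] {a : A} {b : B} (ι : b ⟶ L.obj a)
  [R.Additive] [EnoughInjectives B]

omit [HasExt.{w} A] [HasExt.{w'} B] in
lemma SIm_zero (R : B ⥤ A) [R.Additive] (G : B) :
    R.map (SI G).f ≫ Abelian.factorThruImage (R.map (SI G).g) = 0 :=
  (cancel_mono (Abelian.image.ι (R.map (SI G).g))).1 (by
    rw [Category.assoc, Abelian.image.fac, zero_comp, ← R.map_comp, (SI G).zero, R.map_zero])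

/-- the kernel–image short complex `0 → R G → R I → im → 0` -/
noncomputable abbrev SIm (R : B ⥤ A) [R.Additive] (G : B) : ShortComplex A :=
  ShortComplex.mk (R.map (SI G).f) (Abelian.factorThruImage (R.map (SI G).g)) (SIm_zero R G)

include adj in
lemma shortExact_image (G : B) : (SIm R G).ShortExact := by
  have : PreservesLimitsOfSize.{0, 0} R := adj.rightAdjoint_preservesLimits
  have hS := SI_shortExact G
  have hSR : ((SI G).map R).Exact :=
    hS.exact.map_of_mono_of_preservesKernel R hS.mono_f inferInstance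
  have hk : IsLimit (KernelFork.ofι (R.map (SI G).f)
      (show R.map (SI G).f ≫ R.map (SI G).g = 0 from ((SI G).map R).zero)) := by
    have hm : Mono ((SI G).map R).f := by
      have := hS.mono_f
      exact inferInstanceAs (Mono (R.map (SI G).f))
    exact hSR.fIsKernel
  exact PushH1.shortExact_of_isKernel (R.map (SI G).f) (R.map (SI G).g) _ hk

theorem Φ_one_injective [IsIso ι] (G : B) : Function.Injective (Φ adj ι G 1) := by
  rw [injective_iff_map_eq_zero]
  intro ξ hξ
  have hS := SI_shortExact G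
  have hS' := shortExact_image adj G
  have hRI : Injective (R.obj (SI G).X₂) := injective_R_obj adj _
  obtain ⟨β, hβ⟩ := Ext.covariant_sequence_exact₁ a hS' ξ (Ext.eq_zero_of_injective _) rfl
  obtain ⟨b₀, rfl⟩ := (Ext.mk₀_bijective a _).2 β
  -- the morphism of short exact sequences `L(S') ⟶ S`
  let c₃ : L.obj (Abelian.image (R.map (SI G).g)) ⟶ (SI G).X₃ :=
    L.map (Abelian.image.ι (R.map (SI G).g)) ≫ adj.counit.app (SI G).X₃
  let φ : (SIm R G).map L ⟶ SI G :=
    { τ₁ := adj.counit.app (SI G).X₁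
      τ₂ := adj.counit.app (SI G).X₂
      τ₃ := c₃
      comm₁₂ := (adj.counit_naturality (SI G).f).symm
      comm₂₃ := by
        symm
        change L.map (Abelian.factorThruImage (R.map (SI G).g)) ≫
          L.map (Abelian.image.ι (R.map (SI G).g)) ≫ adj.counit.app (SI G).X₃ =
          adj.counit.app (SI G).X₂ ≫ (SI G).g
        rw [← L.map_comp_assoc, Abelian.image.fac]
        exact adj.counit_naturality (SI G).g }
  have hnat := ShortComplex.ShortExact.extClass_naturality (hS'.map_of_exact L) hS φ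
  have h2 : hS'.extClass.mapExactFunctor L = (hS'.map_of_exact L).extClass :=
    Ext.mapExactFunctor_extClass L hS'
  have hkey := key ι c₃ (adj.counit.app (SI G).X₁) hS'.extClass hS.extClass
    ((congrArg (fun z => z.comp (Ext.mk₀ (adj.counit.app (SI G).X₁)) (add_zero 1)) h2).trans hnat)
    0 (Ext.mk₀ b₀)
  have h3 : Φ adj ι G 1 ((Ext.mk₀ b₀).comp hS'.extClass rfl) =
      (Ext.mk₀ (ι ≫ L.map b₀ ≫ c₃)).comp hS.extClass rfl := by
    rw [Φ_apply]
    refine hkey.trans ?_
    rw [Ext.mapExactFunctor_mk₀, Ext.mk₀_comp_mk₀, Ext.mk₀_comp_mk₀, Category.assoc]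
  rw [hβ] at h3
  rw [h3] at hξ
  obtain ⟨c, hc⟩ := Ext.covariant_sequence_exact₃ b hS (Ext.mk₀ (ι ≫ L.map b₀ ≫ c₃)) rfl hξ
  obtain ⟨c₀, rfl⟩ := (Ext.mk₀_bijective b _).2 c
  have hc₀ : c₀ ≫ (SI G).g = ι ≫ L.map b₀ ≫ c₃ := by
    have h1 : Ext.mk₀ (c₀ ≫ (SI G).g) = Ext.mk₀ (ι ≫ L.map b₀ ≫ c₃) :=
      (Ext.mk₀_comp_mk₀ c₀ (SI G).g).symm.trans hc
    exact (Ext.mk₀_bijective b _).1 h1
  let γ : a ⟶ R.obj (SI G).X₂ := adj.homEquiv a _ (inv ι ≫ c₀)
  have hγ : γ ≫ Abelian.factorThruImage (R.map (SI G).g) = b₀ := by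
    rw [← cancel_mono (Abelian.image.ι (R.map (SI G).g)), Category.assoc, Abelian.image.fac]
    change adj.homEquiv a _ (inv ι ≫ c₀) ≫ R.map (SI G).g = _
    rw [← adj.homEquiv_naturality_right, Category.assoc, hc₀, IsIso.inv_hom_id_assoc]
    change adj.homEquiv a _ (L.map b₀ ≫ L.map (Abelian.image.ι (R.map (SI G).g)) ≫
      adj.counit.app (SI G).X₃) = _
    rw [← L.map_comp_assoc]
    have h5 : L.map (b₀ ≫ Abelian.image.ι (R.map (SI G).g)) ≫ adj.counit.app (SI G).X₃ =
        (adj.homEquiv a _).symm (b₀ ≫ Abelian.image.ι (R.map (SI G).g)) :=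
      (adj.homEquiv_counit _ _ _).symm
    exact (congrArg (adj.homEquiv a _) h5).trans (Equiv.apply_symm_apply _ _)
  rw [← hβ, ← hγ, ← Ext.mk₀_comp_mk₀, Ext.comp_assoc_of_second_deg_zero]
  have := hS'.comp_extClass
  rw [this, Ext.comp_zero]

end Groth.Agent.Lib.Helper47.ExtAdjShift
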