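import Mathlib
import Groth.Prelude.Def_CechEdge

/-!
# Filtered colimits of abelian sheaves, elementwise (helper47)
For a filtered diagram `F : I ⥤ Sheaf J Ab` and a colimit cocone `E` of the underlying presheaves:
every section of `E.pt` comes from a stage, and a section of a stage dying in `E.pt` dies at a later stage.
-/

set_option autoImplicit false
set_option linter.unusedSectionVars false
universe u
open CategoryTheory CategoryTheory.Limits Opposite

namespace Groth.Agent.Lib.Helper47.FilCol

variable {C : Type u} [SmallCategory C] {J : GrothendieckTopology C}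
  {I : Type u} [SmallCategory I] [IsFiltered I] {F : I ⥤ Sheaf J AddCommGrpCat.{u}}
  {E : Cocone (F ⋙ sheafToPresheaf J AddCommGrpCat.{u})} (hE : IsColimit E)

/-- the colimit cocone of sections over `V` -/
noncomputable def evCocone (V : C) :
    IsColimit (((evaluation Cᵒᵖ AddCommGrpCat.{u}).obj (op V)).mapCocone E) :=
  isColimitOfPreserves _ hE

include hE in
lemma exists_rep (V : C) (x : E.pt.obj (op V)) :
    ∃ (k : I) (y : (F.obj k).obj.obj (op V)), (E.ι.app k).app (op V) y = x :=
  Concrete.isColimit_exists_rep _ (evCocone hE V) x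

include hE in
lemma exists_map_eq_zero (V : C) (k : I) (y : (F.obj k).obj.obj (op V))
    (h : (E.ι.app k).app (op V) y = 0) :
    ∃ (l : I) (f : k ⟶ l), (F.map f).hom.app (op V) y = 0 := by
  have h2 : (((evaluation Cᵒᵖ AddCommGrpCat.{u}).obj (op V)).mapCocone E).ι.app k y =
      (((evaluation Cᵒᵖ AddCommGrpCat.{u}).obj (op V)).mapCocone E).ι.app k 0 := by
    rw [map_zero]
    exact h
  obtain ⟨l, f, g, hfg⟩ := Concrete.isColimit_exists_of_rep_eq _ (evCocone hE V) y 0 h2
  refine ⟨l, f, ?_⟩
  rw [map_zero] at hfg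
  exact hfg

include hE in
lemma ι_map (V : C) {k l : I} (f : k ⟶ l) (y : (F.obj k).obj.obj (op V)) :
    (E.ι.app l).app (op V) ((F.map f).hom.app (op V) y) = (E.ι.app k).app (op V) y := by
  have h := E.ι.naturality f
  have h2 := congrArg (fun t => (NatTrans.app t (op V))) h
  simp only [Functor.const_obj_obj, Functor.const_obj_map, Category.comp_id] at h2
  exact ConcreteCategory.congr_hom h2 y

include hE in
lemma exists_rep_finset {κ : Type*} (V : κ → C) (x : ∀ a, E.pt.obj (op (V a))) (s : Finset κ) :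
    ∃ (k : I), ∀ a ∈ s, ∃ (y : (F.obj k).obj.obj (op (V a))),
      (E.ι.app k).app (op (V a)) y = x a := by
  classical
  induction s using Finset.induction_on with
  | empty => exact ⟨Classical.choice IsFiltered.nonempty, fun a ha => by simp at ha⟩
  | insert a s ha ih =>
    obtain ⟨k, hk⟩ := ih
    obtain ⟨k', y', hy'⟩ := exists_rep hE (V a) (x a)
    refine ⟨IsFiltered.max k k', fun b hb => ?_⟩
    rw [Finset.mem_insert] at hb
    rcases hb with rfl | hb
    · exact ⟨(F.map (IsFiltered.rightToMax k k')).hom.app (op (V b)) y',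
        (ι_map hE (V b) (IsFiltered.rightToMax k k') y').trans hy'⟩
    · obtain ⟨y, hy⟩ := hk b hb
      exact ⟨(F.map (IsFiltered.leftToMax k k')).hom.app (op (V b)) y, (ι_map hE (V b) (IsFiltered.leftToMax k k') y).trans hy⟩

include hE in
lemma exists_rep_fin {κ : Type*} [Finite κ] (V : κ → C) (x : ∀ a, E.pt.obj (op (V a))) :
    ∃ (k : I) (y : ∀ a, (F.obj k).obj.obj (op (V a))),
      ∀ a, (E.ι.app k).app (op (V a)) (y a) = x a := by
  classical
  have := Fintype.ofFinite κ
  obtain ⟨k, hk⟩ := exists_rep_finset hE V x Finset.univ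
  choose y hy using fun a => hk a (Finset.mem_univ a)
  exact ⟨k, y, hy⟩

include hE in
lemma exists_map_eq_zero_finset {κ : Type*} (V : κ → C) (k : I)
    (y : ∀ a, (F.obj k).obj.obj (op (V a)))
    (h : ∀ a, (E.ι.app k).app (op (V a)) (y a) = 0) (s : Finset κ) :
    ∃ (l : I) (f : k ⟶ l), ∀ a ∈ s, (F.map f).hom.app (op (V a)) (y a) = 0 := by
  classical
  induction s using Finset.induction_on with
  | empty => exact ⟨k, 𝟙 k, fun a ha => by simp at ha⟩
  | insert a s ha ih =>
    obtain ⟨l, f, hf⟩ := ih
    have h1 : (E.ι.app l).app (op (V a)) ((F.map f).hom.app (op (V a)) (y a)) = 0 :=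
      (ι_map hE (V a) f (y a)).trans (h a)
    obtain ⟨l', g, hg⟩ := exists_map_eq_zero hE (V a) l _ h1
    refine ⟨l', f ≫ g, fun b hb => ?_⟩
    have hcomp : ∀ (c : κ) (z : (F.obj k).obj.obj (op (V c))),
        (F.map (f ≫ g)).hom.app (op (V c)) z =
          (F.map g).hom.app (op (V c)) ((F.map f).hom.app (op (V c)) z) := by
      intro c z
      rw [F.map_comp]
      rfl
    rw [Finset.mem_insert] at hb
    rcases hb with rfl | hb
    · rw [hcomp]
      exact hg
    · rw [hcomp, hf b hb, map_zero]

include hE in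
lemma exists_map_eq_zero_fin {κ : Type*} [Finite κ] (V : κ → C) (k : I)
    (y : ∀ a, (F.obj k).obj.obj (op (V a)))
    (h : ∀ a, (E.ι.app k).app (op (V a)) (y a) = 0) :
    ∃ (l : I) (f : k ⟶ l), ∀ a, (F.map f).hom.app (op (V a)) (y a) = 0 := by
  classical
  have := Fintype.ofFinite κ
  obtain ⟨l, f, hf⟩ := exists_map_eq_zero_finset hE V k y h Finset.univ
  exact ⟨l, f, fun a => hf a (Finset.mem_univ a)⟩

end Groth.Agent.Lib.Helper47.FilCol
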