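import Groth.Agent.Lib.Helper47.FilCol1
import Groth.Agent.Lib.Helper47.CechEdge8

/-!
# Čech cochains of a filtered colimit of sheaves with respect to a finite family (helper47)
-/

set_option autoImplicit false
set_option linter.unusedSectionVars false
universe u
open CategoryTheory CategoryTheory.Limits Opposite

namespace Groth.Agent.Lib.Helper47.FilCol

open Groth.Agent.Lib.Cohomology.SiteCech Groth.Agent.Lib.Helper47.CechFree
  Groth.Agent.Lib.Helper47.CechDelta CechEdge

variable {C : Type u} [SmallCategory C] [HasPullbacks C] {J : GrothendieckTopology C}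
  {I : Type u} [SmallCategory I] [IsFiltered I] {F : I ⥤ Sheaf J AddCommGrpCat.{u}}
  {E : Cocone (F ⋙ sheafToPresheaf J AddCommGrpCat.{u})} (hE : IsColimit E)
  {U : C} {ι : Type u} [Finite ι] (Y : ι → Over U)

/-- the stage maps, as morphisms of presheaves -/
abbrev stg (E : Cocone (F ⋙ sheafToPresheaf J AddCommGrpCat.{u})) (k : I) : (F.obj k).obj ⟶ E.pt :=
  E.ι.app k

include hE in
/-- every Čech cochain of the colimit presheaf comes from a stage -/
lemma cochain_exists_rep (n : ℕ) (c : (cx (resP E.pt) Y).X n) :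
    ∃ (k : I) (ck : (cx (resP (F.obj k).obj) Y).X n), ((GG Y).map (stg E k)).f n ck = c := by
  obtain ⟨k, y, hy⟩ := exists_rep_fin hE (fun a : Fin (n + 1) → ι => (inter Y a).left)
    (fun a => proj (resP E.pt) Y n a c)
  refine ⟨k, (cochEquiv (resP (F.obj k).obj) Y n).symm y, cx_ext (resP E.pt) Y (fun a => ?_)⟩
  exact (GG_map_proj_apply Y (stg E k) n a _).trans
    ((congrArg ((stg E k).app (op (inter Y a).left))
      (proj_cochEquiv_symm (resP (F.obj k).obj) Y n y a)).trans (hy a))

include hE in
/-- a Čech cochain of a stage which dies in the colimit presheaf dies at a later stage -/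
lemma cochain_exists_map_eq_zero (n : ℕ) (k : I) (ck : (cx (resP (F.obj k).obj) Y).X n)
    (h : ((GG Y).map (stg E k)).f n ck = 0) :
    ∃ (l : I) (f : k ⟶ l), ((GG Y).map (F.map f).hom).f n ck = 0 := by
  obtain ⟨l, f, hf⟩ := exists_map_eq_zero_fin hE (fun a : Fin (n + 1) → ι => (inter Y a).left) k
    (fun a => proj (resP (F.obj k).obj) Y n a ck) (fun a => by
      have h1 := GG_map_proj_apply Y (stg E k) n a ck
      rw [h, map_zero] at h1
      exact h1.symm)
  refine ⟨l, f, cx_ext (resP (F.obj l).obj) Y (fun a => ?_)⟩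
  rw [map_zero]
  exact (GG_map_proj_apply Y (F.map f).hom n a ck).trans (hf a)

end Groth.Agent.Lib.Helper47.FilCol
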