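import Groth.Agent.Lib.Helper47.FilCol2

/-!
# Sections of a filtered colimit of sheaves over objects with enough finite coverings (helper47)
-/

set_option autoImplicit false
set_option linter.unusedSectionVars false
universe u
open CategoryTheory CategoryTheory.Limits Opposite

namespace Groth.Agent.Lib.Helper47.FilCol

open Groth.Agent.Lib.Cohomology.SiteCech Groth.Agent.Lib.Helper47.CechFree
  Groth.Agent.Lib.Helper47.CechDelta Groth.Agent.Lib.Helper47.CechEdgeLib CechEdge

variable {C : Type u} [SmallCategory C] [HasPullbacks C] {J : GrothendieckTopology C}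

section Basic

variable {U : C} {ι : Type u} (Y : ι → Over U)

lemma toCech₀_apply_proj (R : Cᵒᵖ ⥤ AddCommGrpCat.{u}) (a : Fin 1 → ι) (s : R.obj (op U)) :
    proj (resP R) Y 0 a (toCech₀ R Y s) = R.map (inter Y a).hom.op s :=
  ConcreteCategory.congr_hom (toCech₀_proj Y R a) s

lemma toCech₀_map {P Q : Cᵒᵖ ⥤ AddCommGrpCat.{u}} (φ : P ⟶ Q) (s : P.obj (op U)) :
    ((GG Y).map φ).f 0 (toCech₀ P Y s) = toCech₀ Q Y (φ.app (op U) s) :=
  ConcreteCategory.congr_hom (toCech₀_naturality Y φ) s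

/-- the structure map of a one-fold fibre product factors through the member of the family -/
lemma inter_hom_eq (a : Fin 1 → ι) :
    (inter Y a).hom = (Pi.π (Y ∘ a) 0).left ≫ (Y (a 0)).hom :=
  (Over.w (Pi.π (Y ∘ a) 0)).symm

lemma map_inter_hom (R : Cᵒᵖ ⥤ AddCommGrpCat.{u}) (a : Fin 1 → ι) (s : R.obj (op U)) :
    R.map (inter Y a).hom.op s = R.map (Pi.π (Y ∘ a) 0).left.op (R.map (Y (a 0)).hom.op s) := by
  rw [inter_hom_eq, op_comp, R.map_comp]
  rfl

lemma map_over_w (R : Cᵒᵖ ⥤ AddCommGrpCat.{u}) {A A' : Over U} (g : A ⟶ A') (t : R.obj (op U)) :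
    R.map g.left.op (R.map A'.hom.op t) = R.map A.hom.op t := by
  rw [← ConcreteCategory.comp_apply, ← R.map_comp, ← op_comp, Over.w]

lemma toCech₀_eq_of_forall (R : Cᵒᵖ ⥤ AddCommGrpCat.{u}) (s s' : R.obj (op U))
    (h : ∀ i : ι, R.map (Y i).hom.op s = R.map (Y i).hom.op s') :
    toCech₀ R Y s = toCech₀ R Y s' := by
  refine cx_ext (resP R) Y (fun a => ?_)
  rw [toCech₀_apply_proj, toCech₀_apply_proj, map_inter_hom, map_inter_hom, h]

end Basic

/-- the sheaf condition for the families of a class `Cov`, at the level of cochains -/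
def CovSheaf (Cov : ∀ (U : C) (ι : Type u), (ι → Over U) → Prop) (P : Cᵒᵖ ⥤ AddCommGrpCat.{u}) :
    Prop :=
  ∀ (U : C) (ι : Type u) (Y : ι → Over U), Cov U ι Y →
    Function.Injective (toCech₀ P Y) ∧
      ∀ c : (cx P Y).X 0, (cx P Y).d 0 1 c = 0 → ∃ s, toCech₀ P Y s = c

lemma sheaf_toCech₀_injective (G : Sheaf J AddCommGrpCat.{u}) {U : C} {ι : Type u} (Y : ι → Over U)
    (hY : Sieve.ofArrows (fun i => (Y i).left) (fun i => (Y i).hom) ∈ J U) :
    Function.Injective (toCech₀ G.obj Y) :=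
  toC0_injective Y G hY

lemma sheaf_exists_toCech₀_eq (G : Sheaf J AddCommGrpCat.{u}) {U : C} {ι : Type u} (Y : ι → Over U)
    (hY : Sieve.ofArrows (fun i => (Y i).left) (fun i => (Y i).hom) ∈ J U)
    (c : (cx G.obj Y).X 0) (hc : (cx G.obj Y).d 0 1 c = 0) : ∃ s, toCech₀ G.obj Y s = c :=
  exists_toC0_eq Y G hY c hc

section Colimit

variable {I : Type u} [SmallCategory I] [IsFiltered I] {F : I ⥤ Sheaf J AddCommGrpCat.{u}}
  {E : Cocone (F ⋙ sheafToPresheaf J AddCommGrpCat.{u})} (hE : IsColimit E)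

lemma stg_map {k l : I} (f : k ⟶ l) : (F.map f).hom ≫ stg E l = stg E k := by
  have h := E.ι.naturality f
  simp only [Functor.const_obj_obj, Functor.const_obj_map, Category.comp_id] at h
  exact h

lemma GG_stg_map {U : C} {ι : Type u} (Y : ι → Over U) {k l : I} (f : k ⟶ l) (n : ℕ)
    (c : (cx (resP (F.obj k).obj) Y).X n) :
    ((GG Y).map (stg E l)).f n (((GG Y).map (F.map f).hom).f n c) =
      ((GG Y).map (stg E k)).f n c := by
  have h : (GG Y).map (F.map f).hom ≫ (GG Y).map (stg E l) = (GG Y).map (stg E k) := by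
    rw [← Functor.map_comp, stg_map]
  have h2 := congrArg (fun t => HomologicalComplex.Hom.f t n) h
  exact ConcreteCategory.congr_hom h2 c

include hE in
/-- the presheaf colimit of a filtered diagram of sheaves satisfies the sheaf condition for finite
covering families -/
lemma covSheaf_colimit_aux {U : C} {ι : Type u} [Finite ι] (Y : ι → Over U)
    (hY : Sieve.ofArrows (fun i => (Y i).left) (fun i => (Y i).hom) ∈ J U) :
    Function.Injective (toCech₀ E.pt Y) ∧
      ∀ c : (cx E.pt Y).X 0, (cx E.pt Y).d 0 1 c = 0 → ∃ s, toCech₀ E.pt Y s = c := by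
  constructor
  · rw [injective_iff_map_eq_zero]
    intro s hs
    obtain ⟨k, sk, rfl⟩ := exists_rep hE U s
    have h1 : ((GG Y).map (stg E k)).f 0 (toCech₀ (F.obj k).obj Y sk) = 0 :=
      (toCech₀_map Y (stg E k) sk).trans hs
    obtain ⟨l, f, hf⟩ := cochain_exists_map_eq_zero hE Y 0 k _ h1
    rw [toCech₀_map] at hf
    have h2 : (F.map f).hom.app (op U) sk = 0 := by
      apply sheaf_toCech₀_injective (F.obj l) Y hY
      rw [hf, map_zero]
    rw [← ι_map hE U f sk, h2, map_zero]
  · intro c hc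
    obtain ⟨k, ck, rfl⟩ := cochain_exists_rep hE Y 0 c
    have h1 : ((GG Y).map (stg E k)).f 1 ((cx (F.obj k).obj Y).d 0 1 ck) = 0 := by
      have hcomm := ((GG Y).map (stg E k)).comm 0 1
      have h2 := ConcreteCategory.congr_hom hcomm ck
      exact h2.symm.trans hc
    obtain ⟨l, f, hf⟩ := cochain_exists_map_eq_zero hE Y 1 k _ h1
    have h3 : (cx (F.obj l).obj Y).d 0 1 (((GG Y).map (F.map f).hom).f 0 ck) = 0 := by
      have hcomm := ((GG Y).map (F.map f).hom).comm 0 1
      have h2 := ConcreteCategory.congr_hom hcomm ck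
      exact h2.trans hf
    obtain ⟨sl, hsl⟩ := sheaf_exists_toCech₀_eq (F.obj l) Y hY _ h3
    refine ⟨(stg E l).app (op U) sl, ?_⟩
    rw [← toCech₀_map, hsl, GG_stg_map]

end Colimit

section ToSheafify

variable (B : Set C) (Cov : ∀ (U : C) (ι : Type u), (ι → Over U) → Prop)
  (h1 : ∀ (U : C) (ι : Type u) (Y : ι → Over U), Cov U ι Y → U ∈ B ∧
    Sieve.ofArrows (fun i => (Y i).left) (fun i => (Y i).hom) ∈ J U ∧
    ∀ (p : ℕ) (a : Fin (p + 1) → ι), (∏ᶜ fun k => Y (a k)).left ∈ B)
  (h2 : ∀ U ∈ B, ∀ T ∈ J U, ∃ (ι : Type u) (Y : ι → Over U), Cov U ι Y ∧ ∀ i, T.arrows (Y i).hom)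
  (P : Cᵒᵖ ⥤ AddCommGrpCat.{u}) (hP : CovSheaf Cov P)

include h2 hP in
lemma toSheafify_injective_of_covSheaf (U : C) (hU : U ∈ B) :
    Function.Injective ((toSheafify J P).app (op U)) := by
  intro s s' hss
  have hmem := Presheaf.equalizerSieve_mem J (toSheafify J P) s s' hss
  obtain ⟨ι, Y, hY, hYT⟩ := h2 U hU _ hmem
  exact (hP U ι Y hY).1 (toCech₀_eq_of_forall Y P s s' (fun i => hYT i))

lemma toSheafify_map (P : Cᵒᵖ ⥤ AddCommGrpCat.{u}) {V W : C} (g : W ⟶ V) (s : P.obj (op V)) :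
    (toSheafify J P).app (op W) (P.map g.op s) =
      (sheafify J P).map g.op ((toSheafify J P).app (op V) s) :=
  ConcreteCategory.congr_hom ((toSheafify J P).naturality g.op) s

include h1 h2 hP in
lemma toSheafify_surjective_of_covSheaf (U : C) (hU : U ∈ B) :
    Function.Surjective ((toSheafify J P).app (op U)) := by
  intro t
  have hmem := Presheaf.imageSieve_mem J (toSheafify J P) t
  obtain ⟨ι, Y, hY, hYT⟩ := h2 U hU _ hmem
  choose s hs using hYT
  obtain ⟨-, hcov, hB⟩ := h1 U ι Y hY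
  -- the cochain
  let c : (cx P Y).X 0 := (cochEquiv (resP P) Y 0).symm
    (fun a => P.map (Pi.π (Y ∘ a) 0).left.op (s (a 0)))
  have hc_proj : ∀ a : Fin 1 → ι, proj (resP P) Y 0 a c = P.map (Pi.π (Y ∘ a) 0).left.op (s (a 0)) :=
    fun a => proj_cochEquiv_symm (resP P) Y 0 _ a
  -- images of the components in the sheafification
  have himg : ∀ a : Fin 1 → ι, (toSheafify J P).app (op (inter Y a).left) (proj (resP P) Y 0 a c) =
      (sheafify J P).map (inter Y a).hom.op t := by
    intro a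
    exact (congrArg _ (hc_proj a)).trans ((toSheafify_map P (Pi.π (Y ∘ a) 0).left (s (a 0))).trans
      ((congrArg ((sheafify J P).map (Pi.π (Y ∘ a) 0).left.op) (hs (a 0))).trans
        (map_over_w (sheafify J P) (Pi.π (Y ∘ a) 0) t)))
  have hdc : (cx P Y).d 0 1 c = 0 := by
    refine cx_ext (resP P) Y (fun b => ?_)
    rw [map_zero, proj_d_apply, Fin.sum_univ_two]
    have key : ∀ k : Fin 2, face (resP P) Y b k (proj (resP P) Y 0 (b ∘ k.succAbove) c) =
        face (resP P) Y b 0 (proj (resP P) Y 0 (b ∘ (0 : Fin 2).succAbove) c) := by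
      intro k
      apply toSheafify_injective_of_covSheaf B Cov h2 P hP _ (hB 1 b)
      have hk : ∀ k' : Fin 2, (toSheafify J P).app (op (inter Y b).left)
          (face (resP P) Y b k' (proj (resP P) Y 0 (b ∘ k'.succAbove) c)) =
          (sheafify J P).map (inter Y b).hom.op t := by
        intro k'
        exact (toSheafify_map P (faceHom Y b k').left
            (proj (resP P) Y 0 (b ∘ k'.succAbove) c)).trans
          ((congrArg ((sheafify J P).map (faceHom Y b k').left.op) (himg (b ∘ k'.succAbove))).trans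
            (map_over_w (sheafify J P) (faceHom Y b k') t))
      exact (hk k).trans (hk 0).symm
    rw [key 1]
    simp only [Fin.val_zero, pow_zero, one_smul, Fin.val_one, pow_one, neg_smul, add_neg_cancel]
  obtain ⟨s₀, hs₀⟩ := (hP U ι Y hY).2 c hdc
  refine ⟨s₀, ?_⟩
  apply sheaf_toCech₀_injective (shf J P) Y hcov
  refine cx_ext (resP (shf J P).obj) Y (fun a => ?_)
  rw [toCech₀_apply_proj, toCech₀_apply_proj]
  have h3 := toCech₀_apply_proj Y P a s₀
  rw [hs₀] at h3
  have h4 := toSheafify_map (J := J) P (inter Y a).hom s₀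
  rw [← h3, himg] at h4
  exact h4.symm

include h1 h2 hP in
theorem toSheafify_bijective_of_covSheaf (U : C) (hU : U ∈ B) :
    Function.Bijective ((toSheafify J P).app (op U)) :=
  ⟨toSheafify_injective_of_covSheaf B Cov h2 P hP U hU,
    toSheafify_surjective_of_covSheaf B Cov h1 h2 P hP U hU⟩

end ToSheafify

end Groth.Agent.Lib.Helper47.FilCol
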