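import Groth.Agent.Lib.Helper47.FilCol3
import Groth.Agent.S0861

/-!
# Čech cohomology and cohomology of a filtered colimit of acyclic sheaves (helper47)
-/

set_option autoImplicit false
set_option linter.unusedSectionVars false
universe u
open CategoryTheory CategoryTheory.Limits Opposite

namespace Groth.Agent.Lib.Helper47.FilCol

open Groth.Agent.Lib.Cohomology.SiteCech Groth.Agent.Lib.Helper47.CechFree
  Groth.Agent.Lib.Helper47.CechDelta Groth.Agent.Lib.Helper47.CechEdgeLib CechEdge

variable {C : Type u} [SmallCategory C] [HasPullbacks C] {J : GrothendieckTopology C}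
  {I : Type u} [SmallCategory I] [IsFiltered I] {F : I ⥤ Sheaf J AddCommGrpCat.{u}}
  {E : Cocone (F ⋙ sheafToPresheaf J AddCommGrpCat.{u})} (hE : IsColimit E)

include hE in
/-- Čech cohomology of the presheaf colimit with respect to a finite family vanishes in positive
degrees if it does at every stage -/
lemma isZero_cechH_colimit {U : C} {ι : Type u} [Finite ι] (Y : ι → Over U) (n : ℕ)
    (h : ∀ k : I, IsZero (CohCx.cechH (F.obj k).obj Y (n + 1))) :
    IsZero (CohCx.cechH E.pt Y (n + 1)) := by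
  change IsZero ((cx (resP E.pt) Y).homology (n + 1))
  rw [isZero_homology_succ_iff]
  intro c hc
  obtain ⟨k, ck, rfl⟩ := cochain_exists_rep hE Y (n + 1) c
  have h1 : ((GG Y).map (stg E k)).f (n + 2)
      ((cx (resP (F.obj k).obj) Y).d (n + 1) (n + 2) ck) = 0 := by
    have hcomm := ((GG Y).map (stg E k)).comm (n + 1) (n + 2)
    exact (ConcreteCategory.congr_hom hcomm ck).symm.trans hc
  obtain ⟨l, f, hf⟩ := cochain_exists_map_eq_zero hE Y (n + 2) k _ h1
  have h3 : (cx (resP (F.obj l).obj) Y).d (n + 1) (n + 2)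
      (((GG Y).map (F.map f).hom).f (n + 1) ck) = 0 := by
    have hcomm := ((GG Y).map (F.map f).hom).comm (n + 1) (n + 2)
    exact (ConcreteCategory.congr_hom hcomm ck).trans hf
  have hl : IsZero ((cx (resP (F.obj l).obj) Y).homology (n + 1)) := h l
  rw [isZero_homology_succ_iff] at hl
  obtain ⟨bl, hbl⟩ := hl _ h3
  refine ⟨((GG Y).map (stg E l)).f n bl, ?_⟩
  have hcomm := ((GG Y).map (stg E l)).comm n (n + 1)
  exact (ConcreteCategory.congr_hom hcomm bl).trans
    ((congrArg (((GG Y).map (stg E l)).f (n + 1)) hbl).trans (GG_stg_map Y f (n + 1) ck))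

section Cov

variable (B : Set C) (Cov : ∀ (U : C) (ι : Type u), (ι → Over U) → Prop)
  (h1 : ∀ (U : C) (ι : Type u) (Y : ι → Over U), Cov U ι Y → Finite ι ∧ U ∈ B ∧
    Sieve.ofArrows (fun i => (Y i).left) (fun i => (Y i).hom) ∈ J U ∧
    ∀ (p : ℕ) (a : Fin (p + 1) → ι), (∏ᶜ fun k => Y (a k)).left ∈ B)
  (h2 : ∀ U ∈ B, ∀ T ∈ J U, ∃ (ι : Type u) (Y : ι → Over U), Cov U ι Y ∧ ∀ i, T.arrows (Y i).hom)

include h1 in
lemma h1' : ∀ (U : C) (ι : Type u) (Y : ι → Over U), Cov U ι Y → U ∈ B ∧
    Sieve.ofArrows (fun i => (Y i).left) (fun i => (Y i).hom) ∈ J U ∧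
    ∀ (p : ℕ) (a : Fin (p + 1) → ι), (∏ᶜ fun k => Y (a k)).left ∈ B :=
  fun U ι Y h => (h1 U ι Y h).2

include hE h1 in
lemma covSheaf_colimit : CovSheaf Cov E.pt := by
  intro U ι Y hY
  have := (h1 U ι Y hY).1
  exact covSheaf_colimit_aux hE Y (h1 U ι Y hY).2.2.1

include hE h1 h2 in
/-- sections of the sheaf colimit over an object of `B` are the colimit of the sections -/
theorem toSheafify_colimit_bijective (U : C) (hU : U ∈ B) :
    Function.Bijective ((toSheafify J E.pt).app (op U)) :=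
  toSheafify_bijective_of_covSheaf B Cov (h1' B Cov h1) h2 E.pt (covSheaf_colimit hE B Cov h1) U hU

include hE h1 h2 in
lemma isZero_cechH_shf_colimit {U : C} {ι : Type u} (Y : ι → Over U) (hY : Cov U ι Y) (n : ℕ)
    (h : ∀ k : I, IsZero (CohCx.cechH (F.obj k).obj Y (n + 1))) :
    IsZero (CohCx.cechH (shf J E.pt).obj Y (n + 1)) := by
  have := (h1 U ι Y hY).1
  have h0 := isZero_cechH_colimit hE Y n h
  have hb := cechHMap_bijective_of_bijective_on_inter (Y := Y) (toSheafify J E.pt)
    (fun m i => toSheafify_colimit_bijective hE B Cov h1 h2 _ ((h1 U ι Y hY).2.2.2 m i)) (n + 1)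
  have hs : Subsingleton (CohCx.cechH E.pt Y (n + 1)) := AddCommGrpCat.subsingleton_of_isZero h0
  have hs' : Subsingleton (CohCx.cechH (shf J E.pt).obj Y (n + 1)) :=
    hb.2.subsingleton
  exact AddCommGrpCat.isZero_of_subsingleton _

include hE h1 h2 in
/-- the sheaf colimit of a filtered diagram of sheaves which are Čech-acyclic for the families of
`Cov` is acyclic on the objects of `B` -/
theorem subsingleton_HU_shf_colimit
    (h : ∀ (k : I) (U : C) (ι : Type u) (Y : ι → Over U), Cov U ι Y → ∀ n : ℕ,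
      IsZero (CohCx.cechH (F.obj k).obj Y (n + 1)))
    (U : C) (hU : U ∈ B) (n : ℕ) : Subsingleton (CohSite.HU (shf J E.pt) (n + 1) U) :=
  Groth.Agent.S0861.result J B Cov (h1' B Cov h1) h2 (shf J E.pt)
    (fun V ι Y hY m => isZero_cechH_shf_colimit hE B Cov h1 h2 Y hY m (fun k => h k V ι Y hY m))
    U hU n

end Cov

end Groth.Agent.Lib.Helper47.FilCol
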