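import Groth.Agent.Lib.Helper47.GalEfface2
import Groth.Agent.Lib.Helper47.ConstH1b
import Groth.Agent.Lib.Helper47.EtQc
import Groth.Agent.Lib.Helper47.SiteTransport

/-!
# `H¹` of a field with coefficients in a torsion-free constant sheaf vanishes (helper47)
-/

set_option autoImplicit false
universe u
open CategoryTheory CategoryTheory.Limits AlgebraicGeometry Opposite CategoryTheory.Abelian

namespace Groth.Agent.Lib.Helper47.GalEfface

lemma mk₀_nsmul_id_comp {𝒜 : Type*} [Category 𝒜] [Abelian 𝒜] [HasExt 𝒜] {A K : 𝒜} {i : ℕ} (N : ℕ)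
    (x : Ext A K i) : (Ext.mk₀ (N • 𝟙 A)).comp x (zero_add i) = N • x := by
  rw [ExtLocalize.mk₀_nsmul]
  refine (map_nsmul (x.postcomp A (zero_add i)) N (Ext.mk₀ (𝟙 A))).trans ?_
  congr 1
  exact Ext.mk₀_id_comp x

lemma mk₀_zsmul_id_comp {𝒜 : Type*} [Category 𝒜] [Abelian 𝒜] [HasExt 𝒜] {A K : 𝒜} {i : ℕ} (N : ℤ)
    (x : Ext A K i) : (Ext.mk₀ (N • 𝟙 A)).comp x (zero_add i) = N • x := by
  have h : Ext.mk₀ (N • 𝟙 A) = N • Ext.mk₀ (𝟙 A) :=
    map_zsmul (Ext.addEquiv₀ (X := A) (Y := A)).symm N (𝟙 A)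
  rw [h]
  refine (map_zsmul (x.postcomp A (zero_add i)) N (Ext.mk₀ (𝟙 A))).trans ?_
  congr 1
  exact Ext.mk₀_id_comp x

theorem H1_const_eq_zero (K : Type u) [Field K] (M : Type) [AddCommGroup M] [IsAddTorsionFree M]
    (x : EtCoh.H (Spec (CommRingCat.of K)) (EtCoh.const (Spec (CommRingCat.of K)) M) 1) :
    x = 0 := by
  obtain ⟨d, hd, hx⟩ := exists_pos_nsmul_eq_zero (EtCoh.const (Spec (CommRingCat.of K)) M) 0 x
  have hT := EtCore.topIsTerminal (Spec (CommRingCat.of K))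
  let c := SiteTransport.cmp.{u + 1} (Spec (CommRingCat.of K)).smallEtaleTopology
    (EtQc.Ks (Spec (CommRingCat.of K))) (EtQc.eqv (Spec (CommRingCat.of K))) hT 1
    (EtCoh.const (Spec (CommRingCat.of K)) M)
  have hc : Function.Bijective c := SiteTransport.cmp_bijective.{u + 1} _ _ _ hT 1 _
  let a := (SiteTransport.constIso.{u + 1} (Spec (CommRingCat.of K)).smallEtaleTopology
    (EtQc.Ks (Spec (CommRingCat.of K))) (EtQc.eqv (Spec (CommRingCat.of K))) hT).app
      (AddCommGrpCat.of (ULift.{u + 1} M))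
  let x' := (c x).comp (Ext.mk₀ a.hom) (add_zero 1)
  have hx' : d • x' = 0 := by
    have h1 : d • c x = 0 := by rw [← map_nsmul, hx, map_zero]
    change d • ((Ext.mk₀ a.hom).postcomp _ (add_zero 1)) (c x) = 0
    rw [← map_nsmul, h1, map_zero]
  have hA : ∀ (m : ℤ) (b : ULift.{u + 1} M), m ≠ 0 → m • b = 0 → b = 0 := by
    intro m b hm hb
    have h1 : m • b.down = 0 := congrArg ULift.down hb
    have h2 : b.down = 0 := by
      rcases smul_eq_zero.1 h1 with h | h
      · exact absurd h hm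
      · exact h
    exact ULift.ext _ _ h2
  have h0 : x' = 0 := by
    refine ConstH1.H1_const_no_torsion (EtQc.Ks (Spec (CommRingCat.of K))) hA
      ((d : ℤ) • 𝟙 _) (ι := PUnit)
      (fun _ => (EtQc.eqv (Spec (CommRingCat.of K))).functor.obj (EtCoh.top _))
      (fun _ => (d : ℤ)) (fun _ => by exact_mod_cast hd.ne') ?_ ?_ x' ?_
    · intro _ V _
      have := (sheafToPresheaf (EtQc.Ks (Spec (CommRingCat.of K))) AddCommGrpCat.{u + 1} ⋙
        (evaluation _ _).obj (op V)).map_zsmul (f := 𝟙 (TorsLib.ZZ _)) (r := (d : ℤ))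
      simpa using this
    · intro V
      refine ⟨⊤, GrothendieckTopology.top_mem _ V, fun W g _ => ⟨PUnit.unit, ?_⟩⟩
      exact ⟨(hT.isTerminalObj (EtQc.eqv (Spec (CommRingCat.of K))).functor _).from W⟩
    · rw [mk₀_zsmul_id_comp, natCast_zsmul, hx']
  have h2 : c x = 0 := by
    have := congrArg (fun z => z.comp (Ext.mk₀ a.inv) (add_zero 1)) h0
    simp only [Ext.zero_comp] at this
    rw [Ext.comp_assoc_of_third_deg_zero, Ext.mk₀_comp_mk₀, a.hom_inv_id] at this
    exact (Ext.comp_mk₀_id (c x)).symm.trans this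
  exact hc.1 (h2.trans (map_zero c).symm)

end Groth.Agent.Lib.Helper47.GalEfface
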