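import Mathlib
import Groth.Prelude.Def_EtBase
import Groth.Prelude.Def_EtCore
import Groth.Prelude.Def_EtAcyc

/-!
# Compatibility of pullback on étale cohomology with long exact sequences (helper47)
-/

set_option autoImplicit false
universe u
open CategoryTheory CategoryTheory.Limits AlgebraicGeometry Opposite CategoryTheory.Abelian

namespace Groth.Agent.Lib.Helper47.HpullLES

section Hpull

variable {X Y : Scheme.{u}} (f : X ⟶ Y) [PreservesFiniteLimits (EtCoh.pull f)]

lemma Hpull_apply (G : EtCoh.Ab Y) (n : ℕ) (x : EtCoh.H Y G n) :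
    EtCore.Hpull f G n x =
      (Ext.mk₀ (EtCore.pullConst f ℤ).inv).comp (x.mapExactFunctor (EtCoh.pull f)) (zero_add n) :=
  rfl

/-- naturality of the pullback in the coefficient sheaf -/
lemma Hpull_comp_mk₀ {G G' : EtCoh.Ab Y} (φ : G ⟶ G') (n : ℕ) (x : EtCoh.H Y G n) :
    EtCore.Hpull f G' n (x.comp (Ext.mk₀ φ) (add_zero n)) =
      (EtCore.Hpull f G n x).comp (Ext.mk₀ ((EtCoh.pull f).map φ)) (add_zero n) := by
  rw [Hpull_apply, Hpull_apply, Ext.mapExactFunctor_comp, Ext.mapExactFunctor_mk₀,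
    Ext.comp_assoc_of_third_deg_zero]

/-- compatibility of the pullback with connecting homomorphisms -/
lemma Hpull_comp_extClass (S : ShortComplex (EtCoh.Ab Y)) (hS : S.ShortExact) (n : ℕ)
    (x : EtCoh.H Y S.X₃ n) :
    EtCore.Hpull f S.X₁ (n + 1) (x.comp hS.extClass rfl) =
      (EtCore.Hpull f S.X₃ n x).comp (hS.map_of_exact (EtCoh.pull f)).extClass rfl := by
  rw [Hpull_apply, Hpull_apply, Ext.mapExactFunctor_comp, Ext.mapExactFunctor_extClass]
  exact (Ext.comp_assoc _ _ _ (zero_add n) rfl (by omega)).symm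

end Hpull

section Torsion

/-- covering sieves of the small étale site hit every point -/
lemma exists_arrow_of_mem {X : Scheme.{u}} {U : X.Etale} (R : Sieve U)
    (hR : R ∈ X.smallEtaleTopology U) (x : U.left) :
    ∃ (V : X.Etale) (g : V ⟶ U), R g ∧ ∃ v : V.left, g.left.base v = x := by
  obtain ⟨𝒰, h𝒰, hP, hle⟩ := (Scheme.mem_smallGrothendieckTopology U R).1 hR
  obtain ⟨i, v, hv⟩ := 𝒰.exists_eq x
  exact ⟨_, (𝒰.f i).asOverProp X, hle _ _ ⟨i⟩, v, hv⟩

/-- quotients of `L`-torsion sheaves are `L`-torsion -/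
lemma isLTorsion_of_epi {X : Scheme.{u}} (L : Set ℕ) {G C : EtCoh.Ab X} (p : G ⟶ C) [Epi p]
    (hG : EtAcyc.IsLTorsion L G) : EtAcyc.IsLTorsion L C := by
  intro U s x
  have hls : Sheaf.IsLocallySurjective p := (Sheaf.isLocallySurjective_iff_epi' _ p).2 inferInstance
  obtain ⟨V, g, ⟨t, ht⟩, v, hv⟩ := exists_arrow_of_mem _ (Presheaf.imageSieve_mem _ p.hom s) x
  obtain ⟨V', g', m, ⟨v', hv'⟩, hm, hk⟩ := hG V t v
  refine ⟨V', g' ≫ g, m, ⟨v', ?_⟩, hm, ?_⟩
  · change g.left.base (g'.left.base v') = x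
    rw [hv', hv]
  · rw [op_comp, C.obj.map_comp]
    change m • C.obj.map g'.op (C.obj.map g.op s) = 0
    rw [← ht]
    have hnat : C.obj.map g'.op (p.hom.app (op V) t) = p.hom.app (op V') (G.obj.map g'.op t) :=
      (ConcreteCategory.congr_hom (p.hom.naturality g'.op) t).symm
    rw [hnat, ← map_nsmul, hk, map_zero]

/-- subsheaves of `L`-torsion sheaves are `L`-torsion -/
lemma isLTorsion_of_mono {X : Scheme.{u}} (L : Set ℕ) {F G : EtCoh.Ab X} (i : F ⟶ G) [Mono i]
    (hG : EtAcyc.IsLTorsion L G) : EtAcyc.IsLTorsion L F := by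
  intro U s x
  obtain ⟨V, g, m, hv, hm, hk⟩ := hG U (i.hom.app (op U) s) x
  refine ⟨V, g, m, hv, hm, ?_⟩
  have hinj : Function.Injective (i.hom.app (op V)) := by
    have h1 : Mono ((sheafToPresheaf _ _).map i) := inferInstance
    have h2 : Mono (((sheafToPresheaf _ _).map i).app (op V)) := inferInstance
    exact (AddCommGrpCat.mono_iff_injective _).1 h2
  apply hinj
  rw [map_nsmul, map_zero]
  have hnat : i.hom.app (op V) (F.obj.map g.op s) = G.obj.map g.op (i.hom.app (op U) s) :=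
    ConcreteCategory.congr_hom (i.hom.naturality g.op) s
  rw [hnat, hk]

end Torsion

end Groth.Agent.Lib.Helper47.HpullLES
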