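import Mathlib

/-!
# Sheafification of a presheaf-valued functor preserves a colimit if it does so locally (helper47)
-/

set_option autoImplicit false
set_option linter.unusedSectionVars false
universe u v₁ u₁
open CategoryTheory CategoryTheory.Limits Opposite

namespace Groth.Agent.Lib.Helper47.LocIsoColim

variable {D : Type u} [SmallCategory D] (K : GrothendieckTopology D)
  [HasWeakSheafify K AddCommGrpCat.{u}] [K.WEqualsLocallyBijective AddCommGrpCat.{u}]
  {A : Type u₁} [Category.{v₁} A] {ι : Type u} [SmallCategory ι] (F : ι ⥤ A) [HasColimit F]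
  (H : A ⥤ (Dᵒᵖ ⥤ AddCommGrpCat.{u}))

/-- the comparison from the presheaf colimit -/
noncomputable def cmp : colimit (F ⋙ H) ⟶ H.obj (colimit F) :=
  colimit.desc (F ⋙ H) (H.mapCocone (colimit.cocone F))

lemma ι_cmp (j : ι) : colimit.ι (F ⋙ H) j ≫ cmp F H = H.map (colimit.ι F j) :=
  colimit.ι_desc _ _

lemma isIso_cmp_app (Y : D)
    (hY : PreservesColimit F (H ⋙ (evaluation Dᵒᵖ AddCommGrpCat.{u}).obj (op Y))) :
    IsIso ((cmp F H).app (op Y)) := by
  have h1 : IsColimit (((evaluation Dᵒᵖ AddCommGrpCat.{u}).obj (op Y)).mapCocone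
      (colimit.cocone (F ⋙ H))) := isColimitOfPreserves _ (colimit.isColimit _)
  have h2 : IsColimit ((H ⋙ (evaluation Dᵒᵖ AddCommGrpCat.{u}).obj (op Y)).mapCocone
      (colimit.cocone F)) := isColimitOfPreserves _ (colimit.isColimit _)
  have heq : (cmp F H).app (op Y) = (h1.coconePointUniqueUpToIso h2).hom :=
    h1.hom_ext (fun j => by
      rw [IsColimit.comp_coconePointUniqueUpToIso_hom]
      exact congrArg (fun t => NatTrans.app t (op Y)) (ι_cmp F H j))
  rw [heq]
  infer_instance

variable (h : ∀ V : D, ∃ (κ : Type u) (Y : κ → D) (g : ∀ k, Y k ⟶ V), Sieve.ofArrows Y g ∈ K V ∧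
    ∀ k, PreservesColimit F (H ⋙ (evaluation Dᵒᵖ AddCommGrpCat.{u}).obj (op (Y k))))

include h in
lemma isLocallyInjective_cmp : Presheaf.IsLocallyInjective K (cmp F H) := by
  refine ⟨fun {X} x y hxy => ?_⟩
  obtain ⟨κ, Y, g, hcov, hpres⟩ := h X.unop
  refine K.superset_covering ?_ hcov
  refine (Sieve.generate_le_iff _ _).2 (Presieve.ofArrows_le_iff.2 fun k => ?_)
  have := isIso_cmp_app F H (Y k) (hpres k)
  have hinj : Function.Injective ((cmp F H).app (op (Y k))) :=
    (ConcreteCategory.bijective_of_isIso _).1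
  apply hinj
  have hx := NatTrans.naturality_apply (cmp F H) (g k).op x
  have hy := NatTrans.naturality_apply (cmp F H) (g k).op y
  exact hx.trans ((congrArg _ hxy).trans hy.symm)

include h in
lemma isLocallySurjective_cmp : Presheaf.IsLocallySurjective K (cmp F H) := by
  refine ⟨fun {V} s => ?_⟩
  obtain ⟨κ, Y, g, hcov, hpres⟩ := h V
  refine K.superset_covering ?_ hcov
  refine (Sieve.generate_le_iff _ _).2 (Presieve.ofArrows_le_iff.2 fun k => ?_)
  have := isIso_cmp_app F H (Y k) (hpres k)
  have hsurj : Function.Surjective ((cmp F H).app (op (Y k))) :=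
    (ConcreteCategory.bijective_of_isIso _).2
  exact hsurj _

include h in
lemma isIso_sheafify_cmp : IsIso ((presheafToSheaf K AddCommGrpCat.{u}).map (cmp F H)) := by
  rw [← GrothendieckTopology.W_iff, GrothendieckTopology.W_iff_isLocallyBijective]
  exact ⟨isLocallyInjective_cmp K F H h, isLocallySurjective_cmp K F H h⟩

include h in
/-- sheafification of `H` preserves the colimit of `F` if `H` does so locally -/
theorem preservesColimit_comp_sheafify :
    PreservesColimit F (H ⋙ presheafToSheaf K AddCommGrpCat.{u}) := by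
  have := isIso_sheafify_cmp K F H h
  refine preservesColimit_of_preserves_colimit_cocone (colimit.isColimit F) ?_
  have hL : IsColimit ((presheafToSheaf K AddCommGrpCat.{u}).mapCocone
      (colimit.cocone (F ⋙ H))) := isColimitOfPreserves _ (colimit.isColimit _)
  refine IsColimit.ofIsoColimit hL (Cocone.ext
    (asIso ((presheafToSheaf K AddCommGrpCat.{u}).map (cmp F H))) (fun j => ?_))
  change (presheafToSheaf K AddCommGrpCat.{u}).map (colimit.ι (F ⋙ H) j) ≫
    (presheafToSheaf K AddCommGrpCat.{u}).map (cmp F H) =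
    (presheafToSheaf K AddCommGrpCat.{u}).map (H.map (colimit.ι F j))
  rw [← Functor.map_comp, ι_cmp]

end Groth.Agent.Lib.Helper47.LocIsoColim
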