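import Mathlib

/-!
# Kernels and cokernels of morphisms of abelian sheaves which are locally localisations (helper47)
-/

set_option autoImplicit false
set_option linter.unusedSectionVars false
universe w v₁ u₁
open CategoryTheory CategoryTheory.Limits Opposite

namespace Groth.Agent.Lib.Helper47.LocKer

variable {C : Type u₁} [Category.{v₁} C] {J : GrothendieckTopology C}
  [HasSheafify J AddCommGrpCat.{w}]
  [J.WEqualsLocallyBijective AddCommGrpCat.{w}] [J.HasSheafCompose (forget AddCommGrpCat.{w})]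

variable {F G : Sheaf J AddCommGrpCat.{w}} (φ : F ⟶ G) (m : ℕ → ℕ) (P : C → Prop)
  (hP : ∀ (U : C) (R : Sieve U), (∀ (V : C) (f : V ⟶ U), P V → R f) → R ∈ J U)

/-- the sieve of arrows along which a section is killed by a member of the family `m` -/
def killSieve (K : Sheaf J AddCommGrpCat.{w}) {U : C} (t : K.obj.obj (op U)) : Sieve U where
  arrows V f := ∃ k, m k • K.obj.map f.op t = 0
  downward_closed := by
    rintro V W f ⟨k, hk⟩ g
    refine ⟨k, ?_⟩
    rw [op_comp, K.obj.map_comp]
    change m k • (K.obj.map g.op) (K.obj.map f.op t) = 0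
    rw [← map_nsmul, hk, map_zero]

lemma app_injective_of_mono {K F : Sheaf J AddCommGrpCat.{w}} (ι : K ⟶ F) [Mono ι] (U : Cᵒᵖ) :
    Function.Injective (ι.hom.app U) := by
  have : Mono ((sheafToPresheaf J AddCommGrpCat.{w} ⋙ (evaluation _ _).obj U).map ι) :=
    inferInstance
  exact (AddCommGrpCat.mono_iff_injective _).1 this

include hP in
lemma kernel_locKilled
    (hk : ∀ V, P V → ∀ x : F.obj.obj (op V), φ.hom.app (op V) x = 0 → ∃ k, m k • x = 0)
    (U : C) (t : (kernel φ).obj.obj (op U)) :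
    ∃ R ∈ J U, ∀ ⦃V : C⦄ (f : V ⟶ U), R f → ∃ k, m k • (kernel φ).obj.map f.op t = 0 := by
  refine ⟨killSieve m (kernel φ) t, hP U _ ?_, fun V f hf => hf⟩
  intro V f hV
  set t' := (kernel φ).obj.map f.op t with ht'
  have h0 : φ.hom.app (op V) ((kernel.ι φ).hom.app (op V) t') = 0 := by
    have := congrArg (fun ψ : kernel φ ⟶ G => ψ.hom.app (op V) t') (kernel.condition φ)
    exact this
  obtain ⟨k, hk'⟩ := hk V hV _ h0
  refine ⟨k, ?_⟩
  apply app_injective_of_mono (kernel.ι φ) (op V)
  rw [map_nsmul, map_zero]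
  exact hk'

include hP in
lemma cokernel_locKilled
    (hc : ∀ V, P V → ∀ y : G.obj.obj (op V), ∃ k, ∃ x : F.obj.obj (op V),
      m k • y = φ.hom.app (op V) x)
    (U : C) (t : (cokernel φ).obj.obj (op U)) :
    ∃ R ∈ J U, ∀ ⦃V : C⦄ (f : V ⟶ U), R f → ∃ k, m k • (cokernel φ).obj.map f.op t = 0 := by
  refine ⟨killSieve m (cokernel φ) t, ?_, fun V f hf => hf⟩
  have hls : Sheaf.IsLocallySurjective (cokernel.π φ) :=
    (Sheaf.isLocallySurjective_iff_epi' _ (cokernel.π φ)).2 inferInstance
  refine J.transitive (Presheaf.imageSieve_mem J (cokernel.π φ).hom t) _ ?_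
  rintro V f ⟨g, hg⟩
  refine hP V _ ?_
  intro W a hW
  obtain ⟨k, x, hx⟩ := hc W hW (G.obj.map a.op g)
  refine ⟨k, ?_⟩
  have h1 : (cokernel φ).obj.map (a ≫ f).op t =
      (cokernel.π φ).hom.app (op W) (G.obj.map a.op g) := by
    rw [op_comp, (cokernel φ).obj.map_comp]
    change (cokernel φ).obj.map a.op ((cokernel φ).obj.map f.op t) = _
    rw [← hg]
    exact (NatTrans.naturality_apply (cokernel.π φ).hom a.op g).symm
  rw [h1, ← map_nsmul, hx]
  have := congrArg (fun ψ : F ⟶ cokernel φ => ψ.hom.app (op W) x) (cokernel.condition φ)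
  exact this

include hP in
lemma isIso_of_bijective_on {G G' : Sheaf J AddCommGrpCat.{w}} (ψ : G ⟶ G')
    (hb : ∀ V, P V → Function.Bijective (ψ.hom.app (op V))) : IsIso ψ := by
  have h1 : Sheaf.IsLocallyInjective ψ := by
    constructor
    intro U x y hxy
    refine hP _ _ ?_
    intro V f hV
    apply (hb V hV).1
    change ψ.hom.app (op V) (G.obj.map f.op x) = ψ.hom.app (op V) (G.obj.map f.op y)
    rw [NatTrans.naturality_apply, NatTrans.naturality_apply, hxy]
  have h2 : Sheaf.IsLocallySurjective ψ := by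
    constructor
    intro U s
    refine hP _ _ ?_
    intro V f hV
    exact (hb V hV).2 _
  have := Sheaf.mono_of_isLocallyInjective ψ
  have : Epi ψ := Sheaf.epi_of_isLocallySurjective ψ
  exact isIso_of_mono_of_epi ψ

end Groth.Agent.Lib.Helper47.LocKer
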