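import Mathlib
import Groth.Agent.S9285

/-!
Rings in which every proper finitely generated ideal has a nonzero annihilator ("property (P)"):
injective maps between finite projective modules split.
-/

set_option autoImplicit false
universe u

namespace Groth.Agent.Lib.Helper47.PropP

variable {R : Type u} [CommRing R]

/-- property (P) in the form: every injective `R → M` with `M` finite projective has a
retraction. -/
theorem splits_one (hP : ∀ I : Ideal R, I.FG → I ≠ ⊤ → I.annihilator ≠ ⊥)
    {M : Type u} [AddCommGroup M] [Module R M] [Module.Finite R M] [Module.Projective R M]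
    (u : R →ₗ[R] M) (hu : Function.Injective u) :
    ∃ v : M →ₗ[R] R, v.comp u = LinearMap.id := by
  obtain ⟨n, f, g, -, hg, hfg⟩ := Module.Finite.exists_comp_eq_id_of_projective R M
  obtain ⟨w, hw⟩ := (Groth.Agent.S9285.result R).mp hP n (g.comp u) (hg.comp hu)
  exact ⟨w.comp g, by rw [LinearMap.comp_assoc]; exact hw⟩

/-- inductive step -/
theorem step (hP : ∀ I : Ideal R, I.FG → I ≠ ⊤ → I.annihilator ≠ ⊥)
    {N' M : Type u} [AddCommGroup N'] [Module R N'] [AddCommGroup M] [Module R M]
    [Module.Finite R M] [Module.Projective R M]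
    (IH : ∀ (K : Type u) [AddCommGroup K] [Module R K] [Module.Finite R K] [Module.Projective R K]
      (w : N' →ₗ[R] K), Function.Injective w → ∃ v : K →ₗ[R] N', v.comp w = LinearMap.id)
    (u : (R × N') →ₗ[R] M) (hu : Function.Injective u) :
    ∃ v : M →ₗ[R] (R × N'), v.comp u = LinearMap.id := by
  -- first coordinate
  let u₁ : R →ₗ[R] M := u.comp (LinearMap.inl R R N')
  have hu₁ : Function.Injective u₁ := hu.comp LinearMap.inl_injective
  obtain ⟨v₁, hv₁⟩ := splits_one hP u₁ hu₁
  have hv₁' : ∀ r, v₁ (u₁ r) = r := fun r => LinearMap.congr_fun hv₁ r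
  -- the complement K = ker v₁, with projection
  let K : Submodule R M := LinearMap.ker v₁
  let pK : M →ₗ[R] K := LinearMap.codRestrict K (LinearMap.id - u₁.comp v₁) (by
    intro y
    simp only [K, LinearMap.mem_ker, LinearMap.sub_apply, LinearMap.id_apply, LinearMap.comp_apply,
      map_sub, hv₁', sub_self])
  have hpK : ∀ y, (pK y : M) = y - u₁ (v₁ y) := fun y => rfl
  have hKproj : Module.Projective R K := by
    refine Module.Projective.of_split K.subtype pK ?_
    apply LinearMap.ext
    intro k
    apply Subtype.ext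
    rw [LinearMap.comp_apply, hpK, LinearMap.id_apply, Submodule.subtype_apply]
    have : v₁ (k : M) = 0 := k.2
    rw [this, map_zero, sub_zero]
  have hKfin : Module.Finite R K := by
    refine Module.Finite.of_surjective pK ?_
    intro k
    refine ⟨k, ?_⟩
    apply Subtype.ext
    rw [hpK]
    have : v₁ (k : M) = 0 := k.2
    rw [this, map_zero, sub_zero]
  let ub : N' →ₗ[R] K := pK.comp (u.comp (LinearMap.inr R R N'))
  have hub : Function.Injective ub := by
    rw [injective_iff_map_eq_zero]
    intro x hx
    have h1 : (ub x : M) = 0 := by rw [hx]; rfl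
    rw [show (ub x : M) = u (0, x) - u₁ (v₁ (u (0, x))) from rfl] at h1
    have h2 : u (0, x) = u (v₁ (u (0, x)), 0) := by
      rw [sub_eq_zero] at h1
      exact h1
    have h3 := hu h2
    rw [Prod.mk.injEq] at h3
    exact h3.2
  obtain ⟨vb, hvb⟩ := IH K ub hub
  have hvb' : ∀ x, vb (ub x) = x := fun x => LinearMap.congr_fun hvb x
  -- the retraction
  let s : M →ₗ[R] N' := vb.comp pK
  let v : M →ₗ[R] (R × N') :=
    LinearMap.prod (v₁ - v₁.comp ((u.comp (LinearMap.inr R R N')).comp s)) s
  refine ⟨v, ?_⟩
  apply LinearMap.ext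
  rintro ⟨r, x⟩
  have hdecomp : u (r, x) = u₁ r + u (0, x) := by
    have : ((r, x) : R × N') = (r, 0) + (0, x) := by simp
    rw [this, map_add]
    rfl
  have hpK1 : pK (u₁ r) = 0 := by
    apply Subtype.ext
    rw [hpK, hv₁']
    simp
  have hs : s (u (r, x)) = x := by
    change vb (pK (u (r, x))) = x
    rw [hdecomp, map_add, hpK1, zero_add]
    exact hvb' x
  change (v₁ (u (r, x)) - v₁ (u (0, s (u (r, x)))), s (u (r, x))) = (r, x)
  rw [hs, hdecomp, map_add, hv₁']
  simp

/-- injective maps from a finite free module to a finite projective module split -/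
theorem splits_free (hP : ∀ I : Ideal R, I.FG → I ≠ ⊤ → I.annihilator ≠ ⊥) (a : ℕ) :
    ∀ (M : Type u) [AddCommGroup M] [Module R M] [Module.Finite R M] [Module.Projective R M]
      (u : (Fin a → R) →ₗ[R] M), Function.Injective u →
      ∃ v : M →ₗ[R] (Fin a → R), v.comp u = LinearMap.id := by
  induction a with
  | zero =>
    intro M _ _ _ _ u _
    refine ⟨0, ?_⟩
    apply LinearMap.ext
    intro x
    exact Subsingleton.elim _ _
  | succ a ih =>
    intro M _ _ _ _ u hu
    let e : (R × (Fin a → R)) ≃ₗ[R] (Fin (a + 1) → R) := Fin.consLinearEquiv R (fun _ => R)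
    obtain ⟨v, hv⟩ := step hP (N' := Fin a → R) (fun K _ _ _ _ w hw => ih K w hw)
      (u.comp e.toLinearMap) (hu.comp e.injective)
    refine ⟨e.toLinearMap.comp v, ?_⟩
    apply LinearMap.ext
    intro x
    have := LinearMap.congr_fun hv (e.symm x)
    simp only [LinearMap.comp_apply, LinearEquiv.coe_coe, LinearEquiv.apply_symm_apply,
      LinearMap.id_apply] at this ⊢
    rw [this, LinearEquiv.apply_symm_apply]

/-- injective maps between finite projective modules split -/
theorem splits_proj (hP : ∀ I : Ideal R, I.FG → I ≠ ⊤ → I.annihilator ≠ ⊥)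
    {N M : Type u} [AddCommGroup N] [Module R N] [Module.Finite R N] [Module.Projective R N]
    [AddCommGroup M] [Module R M] [Module.Finite R M] [Module.Projective R M]
    (u : N →ₗ[R] M) (hu : Function.Injective u) :
    ∃ v : M →ₗ[R] N, v.comp u = LinearMap.id := by
  obtain ⟨a, f, g, -, -, hfg⟩ := Module.Finite.exists_comp_eq_id_of_projective R N
  have hfg' : ∀ n, f (g n) = n := fun n => LinearMap.congr_fun hfg n
  let U : (Fin a → R) →ₗ[R] (M × (Fin a → R)) :=
    LinearMap.prod (u.comp f) (LinearMap.id - g.comp f)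
  have hU : Function.Injective U := by
    rw [injective_iff_map_eq_zero]
    intro x hx
    have h1 : u (f x) = 0 := congrArg Prod.fst hx
    have h2 : x - g (f x) = 0 := congrArg Prod.snd hx
    have h3 : f x = 0 := hu (by rw [h1, map_zero])
    rw [h3, map_zero, sub_zero] at h2
    exact h2
  obtain ⟨V, hV⟩ := splits_free hP a (M × (Fin a → R)) U hU
  refine ⟨f.comp (V.comp (LinearMap.inl R M (Fin a → R))), ?_⟩
  apply LinearMap.ext
  intro n
  have h1 : U (g n) = (u n, 0) := by
    change (u (f (g n)), g n - g (f (g n))) = (u n, 0)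
    rw [hfg', sub_self]
  have h2 := LinearMap.congr_fun hV (g n)
  simp only [LinearMap.comp_apply, LinearMap.id_apply] at h2
  rw [h1] at h2
  simp only [LinearMap.comp_apply, LinearMap.inl_apply, LinearMap.id_apply]
  rw [h2, hfg']

end Groth.Agent.Lib.Helper47.PropP
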