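import Groth.Agent.Lib.Helper1.LanFlat
import Mathlib

/-!
# Colimits in `Ab` over a category with pushouts and coequalizers preserve monomorphisms
-/

set_option autoImplicit false
universe u
open CategoryTheory CategoryTheory.Limits Opposite

namespace Groth.Agent.Lib.Helper47.PseudoFil

/-- pseudo-filtered categories (connected components are filtered). -/
structure IsPseudoFiltered (I : Type u) [SmallCategory I] : Prop where
  span : ∀ {i j j' : I} (_ : i ⟶ j) (_ : i ⟶ j'), ∃ k : I, Nonempty (j ⟶ k) ∧ Nonempty (j' ⟶ k)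
  coeq : ∀ {i j : I} (f g : i ⟶ j), ∃ (k : I) (h : j ⟶ k), f ≫ h = g ≫ h

variable {I : Type u} [SmallCategory I]

theorem IsPseudoFiltered.of_hasPushouts_hasCoequalizers [HasPushouts I] [HasCoequalizers I] :
    IsPseudoFiltered I where
  span f g := ⟨pushout f g, ⟨pushout.inl f g⟩, ⟨pushout.inr f g⟩⟩
  coeq f g := ⟨coequalizer f g, coequalizer.π f g, coequalizer.condition f g⟩

theorem exists_cospan_of_zigzag (hI : IsPseudoFiltered I) {i i' : I} (h : Zigzag i i') :
    ∃ k, Nonempty (i ⟶ k) ∧ Nonempty (i' ⟶ k) := by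
  induction h with
  | refl => exact ⟨i, ⟨𝟙 i⟩, ⟨𝟙 i⟩⟩
  | tail _ hz ih =>
    obtain ⟨k, ⟨a⟩, ⟨b⟩⟩ := ih
    rcases hz with ⟨⟨c⟩⟩ | ⟨⟨c⟩⟩
    · obtain ⟨k', ⟨d⟩, ⟨e⟩⟩ := hI.span b c
      exact ⟨k', ⟨a ≫ d⟩, ⟨e⟩⟩
    · exact ⟨k, ⟨a⟩, ⟨c ≫ b⟩⟩

/-- the projection to the discrete category of connected components. -/
abbrev p (I : Type u) [SmallCategory I] : I ⥤ Discrete (ConnectedComponents I) :=
  ConnectedComponents.functorToDiscrete _ id

theorem p_obj_as (i : I) : ((p I).obj i).as = Quotient.mk (Zigzag.setoid _) i := rfl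

/-- an object of the costructured arrow category from an object in the given component. -/
def ca (c : Discrete (ConnectedComponents I)) (i : I)
    (h : Quotient.mk (Zigzag.setoid _) i = c.as) : CostructuredArrow (p I) c :=
  CostructuredArrow.mk (Y := i) (Discrete.eqToHom h)

theorem mk_left_eq {c : Discrete (ConnectedComponents I)} (A : CostructuredArrow (p I) c) :
    Quotient.mk (Zigzag.setoid _) A.left = c.as := Discrete.eq_of_hom A.hom

def caHom {c : Discrete (ConnectedComponents I)} (A : CostructuredArrow (p I) c) {k : I}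
    (a : A.left ⟶ k) :
    A ⟶ ca c k ((Quotient.sound (Zigzag.of_hom a)).symm.trans (mk_left_eq A)) :=
  CostructuredArrow.homMk a (Subsingleton.elim _ _)

theorem isFiltered_costructuredArrow (hI : IsPseudoFiltered I)
    (c : Discrete (ConnectedComponents I)) : IsFiltered (CostructuredArrow (p I) c) := by
  have : IsFilteredOrEmpty (CostructuredArrow (p I) c) :=
  { cocone_objs := fun A B => by
      have hz : Zigzag A.left B.left := Quotient.exact ((mk_left_eq A).trans (mk_left_eq B).symm)
      obtain ⟨k, ⟨a⟩, ⟨b⟩⟩ := exists_cospan_of_zigzag hI hz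
      exact ⟨_, caHom A a, caHom B b, trivial⟩
    cocone_maps := fun A B f g => by
      obtain ⟨k, h, hh⟩ := hI.coeq f.left g.left
      refine ⟨_, caHom B h, ?_⟩
      apply CostructuredArrow.hom_ext
      exact hh }
  obtain ⟨i0, hi0⟩ := Quotient.exists_rep c.as
  exact { nonempty := ⟨ca c i0 hi0⟩ }

section Lan

variable (hI : IsPseudoFiltered I)
include hI

/-- left Kan extension to the discrete category of components preserves monomorphisms. -/
theorem lan_p_preservesMonomorphisms :
    ((p I).lan : (I ⥤ AddCommGrpCat.{u}) ⥤ _).PreservesMonomorphisms where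
  preserves {F G} φ hφ := by
    rw [NatTrans.mono_iff_mono_app]
    intro c
    have : IsFiltered (CostructuredArrow (p I) c) := isFiltered_costructuredArrow hI c
    have : ((Functor.whiskeringLeft _ _ AddCommGrpCat.{u}).obj
        (CostructuredArrow.proj (p I) c)).PreservesMonomorphisms :=
      ⟨fun {F G} ψ hψ => by
        rw [NatTrans.mono_iff_mono_app] at hψ ⊢
        intro x
        exact hψ _⟩
    have : ((p I).lan ⋙ (evaluation _ AddCommGrpCat.{u}).obj c).PreservesMonomorphisms :=
      Functor.PreservesMonomorphisms.of_iso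
        (Groth.Agent.Lib.Helper1.LanFlat.lanEvaluationIsoColim AddCommGrpCat.{u} (p I) c).symm
    exact inferInstanceAs (Mono (((p I).lan ⋙ (evaluation _ AddCommGrpCat.{u}).obj c).map φ))

/-- the colimit functor factors through the left Kan extension to the components. -/
noncomputable def colimIso :
    ((p I).lan : (I ⥤ AddCommGrpCat.{u}) ⥤ _) ⋙ colim ≅ colim :=
  ((((p I).lanAdjunction AddCommGrpCat.{u}).comp colimConstAdj).ofNatIsoRight
    (NatIso.ofComponents (fun X => NatIso.ofComponents (fun _ => Iso.refl _))) :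
      ((p I).lan : (I ⥤ AddCommGrpCat.{u}) ⥤ _) ⋙ colim ⊣ Functor.const I).leftAdjointUniq
    colimConstAdj

/-- colimits of abelian groups over a pseudo-filtered category preserve monomorphisms. -/
theorem colim_preservesMonomorphisms :
    (colim : (I ⥤ AddCommGrpCat.{u}) ⥤ AddCommGrpCat.{u}).PreservesMonomorphisms := by
  have := lan_p_preservesMonomorphisms hI
  exact Functor.PreservesMonomorphisms.of_iso (colimIso (I := I))

end Lan

end Groth.Agent.Lib.Helper47.PseudoFil
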