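import Groth.Agent.Lib.Helper47.PseudoFil

set_option autoImplicit false
universe u
open CategoryTheory CategoryTheory.Limits Opposite

namespace Groth.Agent.Lib.Helper47.PseudoFil

variable {C D : Type u} [SmallCategory C] [SmallCategory D] (u : C ⥤ D)
  [HasPullbacks C] [HasEqualizers C]
  [PreservesLimitsOfShape WalkingCospan u] [PreservesLimitsOfShape WalkingParallelPair u]

theorem isPseudoFiltered_costructuredArrow_op (V : Dᵒᵖ) :
    IsPseudoFiltered (CostructuredArrow u.op V) := by
  have : HasPushouts (CostructuredArrow u.op V) :=
    Adjunction.hasColimitsOfShape_of_equivalence (structuredArrowOpEquivalence u V.unop).inverse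
  have : HasCoequalizers (CostructuredArrow u.op V) :=
    Adjunction.hasColimitsOfShape_of_equivalence (structuredArrowOpEquivalence u V.unop).inverse
  exact IsPseudoFiltered.of_hasPushouts_hasCoequalizers

/-- left Kan extension of abelian presheaves along `u.op` preserves monomorphisms when `C` has
fibre products and equalizers and `u` commutes with them. -/
theorem lan_op_preservesMonomorphisms :
    (u.op.lan : (Cᵒᵖ ⥤ AddCommGrpCat.{u}) ⥤ (Dᵒᵖ ⥤ AddCommGrpCat.{u})).PreservesMonomorphisms where
  preserves {F G} φ hφ := by
    rw [NatTrans.mono_iff_mono_app]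
    intro V
    have := colim_preservesMonomorphisms (isPseudoFiltered_costructuredArrow_op u V)
    have : ((Functor.whiskeringLeft _ _ AddCommGrpCat.{u}).obj
        (CostructuredArrow.proj u.op V)).PreservesMonomorphisms :=
      ⟨fun {F G} ψ hψ => by
        rw [NatTrans.mono_iff_mono_app] at hψ ⊢
        intro x
        exact hψ _⟩
    have : (u.op.lan ⋙ (evaluation _ AddCommGrpCat.{u}).obj V).PreservesMonomorphisms :=
      Functor.PreservesMonomorphisms.of_iso
        (Groth.Agent.Lib.Helper1.LanFlat.lanEvaluationIsoColim AddCommGrpCat.{u} u.op V).symm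
    exact inferInstanceAs (Mono ((u.op.lan ⋙ (evaluation _ AddCommGrpCat.{u}).obj V).map φ))

end Groth.Agent.Lib.Helper47.PseudoFil
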