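import Groth.Agent.Lib.Cohomology.helper5_SiteH
import Groth.Agent.Lib.Helper47.DeltaGen
import Groth.Agent.Lib.Helper47.LocIsoColim

/-!
# `R^p u_*` is naturally the sheafification of `V ↦ H^p(u V, -)`; colimits (helper47)
-/

set_option autoImplicit false
set_option linter.unusedSectionVars false
universe u
open CategoryTheory CategoryTheory.Limits Opposite

namespace Groth.Agent.Lib.Helper47.RpushNat

open Abelian Groth.Agent.Lib.Cohomology.SiteH Groth.Agent.Lib.Helper47.DeltaGen

variable {C D : Type u} [SmallCategory C] [SmallCategory D]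
  (J : GrothendieckTopology C) (K : GrothendieckTopology D) (u : D ⥤ C)

/-- `V ↦ ℤ_{u V}` -/
noncomputable def ZZ : D ⥤ Sheaf J AddCommGrpCat.{u} :=
  u ⋙ yoneda ⋙ (Functor.whiskeringRight _ _ _).obj AddCommGrpCat.free.{u} ⋙
    presheafToSheaf J AddCommGrpCat.{u}

lemma ZZ_obj (V : D) : (ZZ J u).obj V = CohCx.freeSheaf J (u.obj V) := rfl

lemma ZZ_map {V V' : D} (j : V ⟶ V') : (ZZ J u).map j = CohCx.freeSheafMap J (u.map j) := rfl

lemma sect_nat_V (G : Sheaf J AddCommGrpCat.{u}) {V V' : Dᵒᵖ} (j : V ⟶ V')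
    (t : G.obj.obj (op (u.obj V.unop))) :
    sectionsEquivH0 J G (u.obj V'.unop) (G.obj.map (u.map j.unop).op t) =
      (Ext.mk₀ (CohCx.freeSheafMap J (u.map j.unop))).comp
        (sectionsEquivH0 J G (u.obj V.unop) t) (zero_add 0) := by
  rw [sectionsEquivH0_apply, sectionsEquivH0_apply, Ext.mk₀_comp_mk₀, ofSect_res]

variable [u.IsContinuous K J]

/-- sections over `u V` are `Ext^0(ℤ_{u V}, -)`, naturally in `V` -/
noncomputable def e0app (G : Sheaf J AddCommGrpCat.{u}) :
    (CohSite.push J K u ⋙ sheafToPresheaf K AddCommGrpCat.{u}).obj G ≅ (HZ (ZZ J u) 0).obj G :=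
  NatIso.ofComponents (fun V => (sectionsEquivH0 J G (u.obj V.unop)).toAddCommGrpIso) (by
    intro V V' j
    ext t
    exact sect_nat_V J u G j t)

end Groth.Agent.Lib.Helper47.RpushNat
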