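import Groth.Agent.Lib.Helper47.RpushNat1

/-!
# `R^p u_*` is naturally the sheafification of `V ↦ H^p(u V, -)`, part 2 (helper47)
-/

set_option autoImplicit false
set_option linter.unusedSectionVars false
universe u
open CategoryTheory CategoryTheory.Limits Opposite

namespace Groth.Agent.Lib.Helper47.RpushNat

open Abelian Groth.Agent.Lib.Cohomology.SiteH Groth.Agent.Lib.Helper47.DeltaGen

variable {C D : Type u} [SmallCategory C] [SmallCategory D]
  (J : GrothendieckTopology C) (K : GrothendieckTopology D) (u : D ⥤ C) [u.IsContinuous K J]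

/-- `u_*` followed by the forgetful functor is `G ↦ (V ↦ Ext^0(ℤ_{u V}, G))` -/
noncomputable def e0 :
    CohSite.push J K u ⋙ sheafToPresheaf K AddCommGrpCat.{u} ≅ HZ (ZZ J u) 0 :=
  NatIso.ofComponents (e0app J K u) (by
    intro G G' φ
    ext V t
    exact sectionsEquivH0_naturality J φ (u.obj V.unop) t)

end Groth.Agent.Lib.Helper47.RpushNat
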