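import Groth.Agent.Lib.Helper47.RpushNat3

/-!
# `R^p u_*` commutes with a colimit if `H^p(u V, -)` does so locally on `V` (helper47)
-/

set_option autoImplicit false
set_option linter.unusedSectionVars false
universe u
open CategoryTheory CategoryTheory.Limits Opposite

namespace Groth.Agent.Lib.Helper47.RpushNat

open Abelian Groth.Agent.Lib.Cohomology.SiteH Groth.Agent.Lib.Helper47.DeltaGen

variable {C D : Type u} [SmallCategory C] [SmallCategory D]
  (J : GrothendieckTopology C) (K : GrothendieckTopology D) (u : D ⥤ C) [u.IsContinuous K J]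

theorem preservesColimit_Rpush {ι : Type u} [SmallCategory ι]
    (F : ι ⥤ Sheaf J AddCommGrpCat.{u}) (p : ℕ)
    (h : ∀ V : D, ∃ (κ : Type u) (Y : κ → D) (g : ∀ k, Y k ⟶ V), Sieve.ofArrows Y g ∈ K V ∧
      ∀ k, PreservesColimit F ((Sheaf.cohomologyPresheafFunctor J p).flip.obj (op (u.obj (Y k))))) :
    PreservesColimit F (CohSite.Rpush J K u p) := by
  obtain ⟨e⟩ := nonempty_rpush_iso J K u p
  have h' : PreservesColimit F (HZ.{u} (ZZ J u) p ⋙ presheafToSheaf K AddCommGrpCat.{u}) :=
    LocIsoColim.preservesColimit_comp_sheafify K F (HZ.{u} (ZZ J u) p) (by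
      intro V
      obtain ⟨κ, Y, g, hc, hp⟩ := h V
      exact ⟨κ, Y, g, hc, fun k => hp k⟩)
  exact preservesColimit_of_natIso F e.symm

end Groth.Agent.Lib.Helper47.RpushNat
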