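import Mathlib
import Groth.Prelude.Def_EtBase

set_option autoImplicit false
universe u
open CategoryTheory CategoryTheory.Limits AlgebraicGeometry Opposite

namespace Groth.Agent.Lib.Helper47.SkyAff

lemma isFinite_of_etale_of_isAffine {k : Type u} [Field k] {W : Scheme.{u}} [IsAffine W]
    (g : W ⟶ Spec (CommRingCat.of k)) [Etale g] : IsFinite g := by
  rw [← MorphismProperty.cancel_left_of_respectsIso (P := @IsFinite) W.isoSpec.inv]
  have h : Etale (W.isoSpec.inv ≫ g) := inferInstance
  obtain ⟨φ, hφ⟩ := Spec.map_surjective (W.isoSpec.inv ≫ g)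
  rw [← hφ] at h ⊢
  rw [IsFinite.SpecMap_iff]
  rw [HasRingHomProperty.Spec_iff (P := @Etale)] at h
  algebraize [φ.hom]
  have := Algebra.FormallyUnramified.finite_of_free k Γ(W, ⊤)
  exact this

instance isAffineHom_fromSpecResidueField (X : Scheme.{u}) (x : X) :
    IsAffineHom (X.fromSpecResidueField x) := by
  constructor
  intro U hU
  by_cases h : (⊥ : PrimeSpectrum (X.residueField x)) ∈ (X.fromSpecResidueField x) ⁻¹ᵁ U
  · have : (X.fromSpecResidueField x) ⁻¹ᵁ U = ⊤ := by
      ext y
      have hy : y = (⊥ : PrimeSpectrum (X.residueField x)) := Subsingleton.elim _ _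
      constructor
      · intro _; trivial
      · intro _; rw [hy]; exact h
    rw [this]
    exact isAffineOpen_top _
  · have : (X.fromSpecResidueField x) ⁻¹ᵁ U = ⊥ := by
      ext y
      have hy : y = (⊥ : PrimeSpectrum (X.residueField x)) := Subsingleton.elim _ _
      constructor
      · intro h'; rw [hy] at h'; exact (h h').elim
      · intro h'; exact h'.elim
    rw [this]
    exact isAffineOpen_bot _

end Groth.Agent.Lib.Helper47.SkyAff
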