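import Groth.Agent.Lib.Helper47.SkyTors
import Groth.Agent.Lib.Helper47.SkyAff
import Groth.Agent.Lib.Helper47.HpullLES

/-!
# Higher direct images along the inclusion of a point are torsion (helper47)
-/

set_option autoImplicit false
universe u
open CategoryTheory CategoryTheory.Limits AlgebraicGeometry Opposite CategoryTheory.Abelian

namespace Groth.Agent.Lib.Helper47.SkyPush

open Groth.Agent.Lib.Helper47.GalEfface Groth.Agent.Lib.Helper47.SkyAff
  Groth.Agent.Lib.Helper47.HpullLES

variable (X : Scheme.{u}) (x : X)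

/-- the cokernel of `f_* I ⟶ f_* Q` for an epimorphism `I ⟶ Q` on the spectrum of a residue
field is a torsion sheaf -/
lemma isTorsion_of_epi_push {I Q : EtCoh.Ab (Spec (X.residueField x))} (p : I ⟶ Q) [Epi p]
    {C : EtCoh.Ab X} (π : (EtCoh.push (X.fromSpecResidueField x)).obj Q ⟶ C) [Epi π]
    (w : (EtCoh.push (X.fromSpecResidueField x)).map p ≫ π = 0) : EtCoh.IsTorsion C := by
  intro U s u₀
  have hls : Sheaf.IsLocallySurjective π := (Sheaf.isLocallySurjective_iff_epi' _ π).2 inferInstance
  obtain ⟨V, g, ⟨t, ht⟩, v, hv⟩ := exists_arrow_of_mem _ (Presheaf.imageSieve_mem _ π.hom s) u₀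
  obtain ⟨W₀, hW₀, hvW, -⟩ := exists_isAffineOpen_mem_and_subset (X := V.left) (x := v)
    (U := ⊤) trivial
  have : IsAffine W₀.toScheme := hW₀
  let V'' : X.Etale := Scheme.Etale.mk (W₀.ι ≫ V.hom)
  let h : V'' ⟶ V := MorphismProperty.Over.homMk W₀.ι rfl
  let Wk : (Spec (X.residueField x)).Etale := (EtCoh.bc (X.fromSpecResidueField x)).obj V''
  have haffhom : IsAffineHom (pullback.fst V''.hom (X.fromSpecResidueField x)) :=
    MorphismProperty.pullback_fst (P := @IsAffineHom) V''.hom (X.fromSpecResidueField x)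
      (isAffineHom_fromSpecResidueField X x)
  have haff : IsAffine Wk.left :=
    @isAffine_of_isAffineHom _ _ (pullback.fst V''.hom (X.fromSpecResidueField x)) haffhom hW₀
  have hfin : IsFinite Wk.hom :=
    @isFinite_of_etale_of_isAffine (X.residueField x) _ Wk.left haff Wk.hom inferInstance
  let t'' : Q.obj.obj (op Wk) :=
    ((EtCoh.push (X.fromSpecResidueField x)).obj Q).obj.map h.op t
  obtain ⟨d, hd, i, hi⟩ := exists_nsmul_mem_range (K := X.residueField x) Wk p t''
  refine ⟨V'', h ≫ g, ⟨⟨v, hvW⟩, ?_⟩, ?_⟩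
  · change g.left.base (h.left.base ⟨v, hvW⟩) = u₀
    rw [← hv]
    rfl
  · rw [isOfFinAddOrder_iff_nsmul_eq_zero]
    refine ⟨d, hd, ?_⟩
    rw [op_comp, C.obj.map_comp]
    change d • C.obj.map h.op (C.obj.map g.op s) = 0
    rw [← ht]
    have hnat : C.obj.map h.op (π.hom.app (op V) t) =
        π.hom.app (op V'') (((EtCoh.push (X.fromSpecResidueField x)).obj Q).obj.map h.op t) :=
      (ConcreteCategory.congr_hom (π.hom.naturality h.op) t).symm
    rw [hnat, ← map_nsmul]
    have h1 : d • ((EtCoh.push (X.fromSpecResidueField x)).obj Q).obj.map h.op t =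
        ((EtCoh.push (X.fromSpecResidueField x)).map p).hom.app (op V'') i := hi.symm
    rw [h1]
    have h2 := congrArg (fun φ : (EtCoh.push (X.fromSpecResidueField x)).obj I ⟶ C =>
      φ.hom.app (op V'') i) w
    exact h2

end Groth.Agent.Lib.Helper47.SkyPush
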