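import Mathlib

/-!
# A locally torsion abelian sheaf is the filtered colimit of its torsion subsheaves; cohomology of
locally torsion sheaves is torsion when cohomology commutes with sequential colimits (helper47)
-/

set_option autoImplicit false
set_option linter.unusedSectionVars false
universe w v₁ u₁
open CategoryTheory CategoryTheory.Limits Opposite Abelian

namespace Groth.Agent.Lib.Helper47.TorsColim

variable {C : Type u₁} [Category.{v₁} C] {J : GrothendieckTopology C}
  [HasSheafify J AddCommGrpCat.{w}]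

variable (F : Sheaf J AddCommGrpCat.{w})

/-- the `m`-torsion subsheaf -/
noncomputable def tors (m : ℕ) : Sheaf J AddCommGrpCat.{w} := kernel (m • 𝟙 F)

/-- the inclusion of the `m`-torsion subsheaf -/
noncomputable def torsι (m : ℕ) : tors F m ⟶ F := kernel.ι _

instance (m : ℕ) : Mono (torsι F m) := equalizer.ι_mono

lemma torsι_nsmul (m : ℕ) : m • torsι F m = 0 := by
  have h : torsι F m ≫ (m • 𝟙 F) = 0 := kernel.condition _
  rwa [Preadditive.comp_nsmul, Category.comp_id] at h

lemma nsmul_id_tors (m : ℕ) : m • 𝟙 (tors F m) = 0 := by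
  rw [← cancel_mono (torsι F m), zero_comp, Preadditive.nsmul_comp, Category.id_comp,
    torsι_nsmul]

/-- the inclusions between torsion subsheaves -/
noncomputable def torsMap {m m' : ℕ} (h : m ∣ m') : tors F m ⟶ tors F m' :=
  kernel.lift _ (torsι F m) (by
    obtain ⟨k, rfl⟩ := h
    rw [Preadditive.comp_nsmul, Category.comp_id, mul_nsmul, torsι_nsmul, smul_zero])

@[reassoc (attr := simp)]
lemma torsMap_ι {m m' : ℕ} (h : m ∣ m') : torsMap F h ≫ torsι F m' = torsι F m :=
  kernel.lift_ι _ _ _

/-- the sequence of the `k!`-torsion subsheaves -/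
noncomputable def seq : ℕ ⥤ Sheaf J AddCommGrpCat.{w} :=
  Functor.ofSequence (X := fun k => tors F k.factorial)
    (fun k => torsMap F (Nat.factorial_dvd_factorial (Nat.le_succ k)))

/-- the inclusions, as a natural transformation to the constant diagram -/
noncomputable def seqι : seq F ⟶ (Functor.const ℕ).obj F :=
  NatTrans.ofSequence (fun k => torsι F k.factorial) (by
    intro k
    have h1 : (seq F).map (homOfLE (k.le_add_right 1)) =
        torsMap F (Nat.factorial_dvd_factorial (Nat.le_succ k)) :=
      Functor.ofSequence_map_homOfLE_succ _ k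
    rw [h1]
    exact (torsMap_ι F _).trans (Category.comp_id _).symm)

instance : Mono (seqι F) := by
  have : ∀ k, Mono ((seqι F).app k) := fun k =>
    inferInstanceAs (Mono (torsι F k.factorial))
  exact NatTrans.mono_of_mono_app _

/-- sections of the torsion subsheaf -/
lemma exists_torsι_app_eq (m : ℕ) (U : Cᵒᵖ) (t : F.obj.obj U) (ht : m • t = 0) :
    ∃ t' : (tors F m).obj.obj U, (torsι F m).hom.app U t' = t := by
  let S : ShortComplex (Sheaf J AddCommGrpCat.{w}) :=
    ShortComplex.mk (torsι F m) (m • 𝟙 F) (kernel.condition _)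
  have hS : S.Exact := ShortComplex.exact_of_f_is_kernel _ (kernelIsKernel _)
  have hm : Mono S.f := inferInstanceAs (Mono (torsι F m))
  have h := hS.map_of_mono_of_preservesKernel
    (sheafToPresheaf J AddCommGrpCat.{w} ⋙ (evaluation _ _).obj U) hm inferInstance
  rw [ShortComplex.ab_exact_iff] at h
  refine h t ?_
  change ((m • 𝟙 F : F ⟶ F)).hom.app U t = 0
  have h2 : ((m • 𝟙 F : F ⟶ F)).hom.app U = m • 𝟙 (F.obj.obj U) := by
    have := (sheafToPresheaf J AddCommGrpCat.{w} ⋙ (evaluation _ _).obj U).map_nsmul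
      (f := 𝟙 F) (n := m)
    simpa using this
  rw [h2]
  simpa using ht

section Main

attribute [local instance] IsFiltered.isConnected

variable [HasColimitsOfShape ℕ (Sheaf J AddCommGrpCat.{w})]
  [(colim : (ℕ ⥤ Sheaf J AddCommGrpCat.{w}) ⥤ Sheaf J AddCommGrpCat.{w}).PreservesMonomorphisms]

/-- the comparison map from the colimit of the torsion subsheaves -/
noncomputable def desc : colimit (seq F) ⟶ F := colimit.desc (seq F) ⟨F, seqι F⟩

omit [(colim : (ℕ ⥤ Sheaf J AddCommGrpCat.{w}) ⥤ Sheaf J AddCommGrpCat.{w}).PreservesMonomorphisms] in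
@[reassoc]
lemma ι_desc (k : ℕ) : colimit.ι (seq F) k ≫ desc F = torsι F k.factorial :=
  colimit.ι_desc _ _

instance : Mono (desc F) :=
  colim.map_mono' (seqι F) (colimit.isColimit (seq F)) (isColimitConstCocone ℕ F) (desc F)
    (fun k => (ι_desc F k).trans (Category.comp_id _).symm)

variable (hF : ∀ (U : C) (s : F.obj.obj (op U)), ∃ R ∈ J U, ∀ ⦃V : C⦄ (f : V ⟶ U), R f →
  IsOfFinAddOrder (F.obj.map f.op s))

include hF in
lemma isLocallySurjective_desc : Sheaf.IsLocallySurjective (desc F) := by
  constructor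
  intro U s
  obtain ⟨R, hR, h⟩ := hF U s
  refine J.superset_covering ?_ hR
  intro V f hf
  obtain ⟨m, hm, hms⟩ := isOfFinAddOrder_iff_nsmul_eq_zero.1 (h f hf)
  have hdvd : m ∣ m.factorial := Nat.dvd_factorial hm le_rfl
  obtain ⟨t', ht'⟩ := exists_torsι_app_eq F m.factorial (op V) (F.obj.map f.op s) (by
    obtain ⟨k, hk⟩ := hdvd
    rw [hk, mul_nsmul, hms, smul_zero])
  refine ⟨(colimit.ι (seq F) m).hom.app (op V) t', ?_⟩
  have := congrArg (fun φ : (seq F).obj m ⟶ F => φ.hom.app (op V) t') (ι_desc F m)
  exact this.trans ht'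

include hF in
lemma isIso_desc : IsIso (desc F) := by
  have := isLocallySurjective_desc F hF
  have : Epi (desc F) := Sheaf.epi_of_isLocallySurjective _
  exact isIso_of_mono_of_epi _

variable [HasExt.{w} (Sheaf J AddCommGrpCat.{w})]

include hF in
/-- cohomology of a locally torsion sheaf is torsion, if it commutes with the colimit of the
torsion subsheaves -/
theorem isAddTorsion_H (n : ℕ)
    [PreservesColimit (seq F)
      (Sheaf.functorH J n : Sheaf J AddCommGrpCat.{w} ⥤ AddCommGrpCat.{w})] :
    IsAddTorsion (Sheaf.H F n) := by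
  intro x
  have := isIso_desc F hF
  let G : Sheaf J AddCommGrpCat.{w} ⥤ AddCommGrpCat.{w} := Sheaf.functorH J n
  let x₀ : G.obj F := x
  let x' : G.obj (colimit (seq F)) := G.map (inv (desc F)) x₀
  have hc : IsColimit (G.mapCocone (colimit.cocone (seq F))) :=
    isColimitOfPreserves G (colimit.isColimit _)
  have : PreservesFilteredColimitsOfSize.{0, 0} (forget AddCommGrpCat.{w}) :=
    preservesFilteredColimitsOfSize_shrink.{0, w, 0, w} _
  have : PreservesColimitsOfShape ℕ (forget AddCommGrpCat.{w}) :=
    PreservesFilteredColimitsOfSize.preserves_filtered_colimits ℕ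
  obtain ⟨k, y, hy⟩ := Concrete.isColimit_exists_rep _ hc x'
  let y₀ : G.obj (tors F k.factorial) := y
  have hy' : G.map (colimit.ι (seq F) k) y₀ = x' := hy
  have hx : x₀ = G.map (torsι F k.factorial) y₀ := by
    have h1 : G.map (desc F) x' = x₀ := by
      change (G.map (inv (desc F)) ≫ G.map (desc F)) x₀ = x₀
      rw [← G.map_comp, IsIso.inv_hom_id, G.map_id]
      rfl
    have h2 : G.map (torsι F k.factorial) = G.map (colimit.ι (seq F) k) ≫ G.map (desc F) := by
      rw [← G.map_comp]
      exact congrArg G.map (ι_desc F k).symm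
    rw [← h1, ← hy', h2]
    rfl
  have hy0 : k.factorial • y₀ = 0 := by
    have h1 : G.map (k.factorial • 𝟙 (tors F k.factorial)) = k.factorial • 𝟙 _ := by
      rw [G.map_nsmul, G.map_id]
    rw [nsmul_id_tors, G.map_zero] at h1
    have h2 := congrArg (fun φ : G.obj (tors F k.factorial) ⟶ G.obj (tors F k.factorial) => φ y₀) h1
    have h3 : (k.factorial • 𝟙 (G.obj (tors F k.factorial)) :
        G.obj (tors F k.factorial) ⟶ G.obj (tors F k.factorial)) y₀ = k.factorial • y₀ := by
      simp
    exact h3.symm.trans h2.symm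
  rw [isOfFinAddOrder_iff_nsmul_eq_zero]
  refine ⟨k.factorial, Nat.factorial_pos k, ?_⟩
  change k.factorial • x₀ = 0
  rw [hx, ← map_nsmul, hy0, map_zero]

end Main

end Groth.Agent.Lib.Helper47.TorsColim
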