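import Groth.Agent.Lib.Helper47.SkyPush
import Groth.Agent.Lib.Helper47.ExtAdjShift2
import Groth.Agent.Lib.Helper47.EtRestr
import Groth.Agent.S0124
import Groth.Agent.S0101

/-!
# Higher direct images and cohomology of sheaves pushed forward from a point are torsion (helper47)
-/

set_option autoImplicit false
universe u
open CategoryTheory CategoryTheory.Limits AlgebraicGeometry Opposite CategoryTheory.Abelian

namespace Groth.Agent.Lib.Helper47.SkyPush

open Groth.Agent.Lib.Helper47.GalEfface Groth.Agent.Lib.Helper47.SkyAff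
  Groth.Agent.Lib.Helper47.HpullLES Groth.Agent.Lib.Helper47.ExtAdjShift

/-- quotients of torsion sheaves are torsion -/
lemma isTorsion_of_epi {X : Scheme.{u}} {G C : EtCoh.Ab X} (p : G ⟶ C) [Epi p]
    (hG : EtCoh.IsTorsion G) : EtCoh.IsTorsion C := by
  intro U s x
  have hls : Sheaf.IsLocallySurjective p := (Sheaf.isLocallySurjective_iff_epi' _ p).2 inferInstance
  obtain ⟨V, g, ⟨t, ht⟩, v, hv⟩ := exists_arrow_of_mem _ (Presheaf.imageSieve_mem _ p.hom s) x
  obtain ⟨V', g', ⟨v', hv'⟩, hk⟩ := hG V t v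
  rw [isOfFinAddOrder_iff_nsmul_eq_zero] at hk
  obtain ⟨m, hm, hk⟩ := hk
  refine ⟨V', g' ≫ g, ⟨v', ?_⟩, ?_⟩
  · change g.left.base (g'.left.base v') = x
    rw [hv', hv]
  · rw [isOfFinAddOrder_iff_nsmul_eq_zero]
    refine ⟨m, hm, ?_⟩
    rw [op_comp, C.obj.map_comp]
    change m • C.obj.map g'.op (C.obj.map g.op s) = 0
    rw [← ht]
    have hnat : C.obj.map g'.op (p.hom.app (op V) t) = p.hom.app (op V') (G.obj.map g'.op t) :=
      (ConcreteCategory.congr_hom (p.hom.naturality g'.op) t).symm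
    rw [hnat, ← map_nsmul, hk, map_zero]

variable (X : Scheme.{u}) (x : X)

instance preservesFiniteLimits_push :
    PreservesFiniteLimits (EtCoh.push (X.fromSpecResidueField x)) := by
  have : PreservesLimitsOfSize.{0, 0} (EtCoh.push (X.fromSpecResidueField x)) :=
    (EtCoh.pullPushAdj (X.fromSpecResidueField x)).rightAdjoint_preservesLimits
  exact PreservesLimitsOfSize.preservesFiniteLimits _

theorem isTorsion_Rpush (q : ℕ) : ∀ (F : EtCoh.Ab (Spec (X.residueField x))),
    EtCoh.IsTorsion ((EtCoh.Rpush (X.fromSpecResidueField x) (q + 1)).obj F) := by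
  let Δ := RDerLES.derivedLES (EtCoh.push (X.fromSpecResidueField x))
  induction q with
  | zero =>
    intro F
    have hS := SI_shortExact F
    have hI : Injective (SI F).X₂ := injective_SI_X₂ F
    have hz : IsZero (((EtCoh.push (X.fromSpecResidueField x)).rightDerived 1).obj (SI F).X₂) :=
      Functor.isZero_rightDerived_obj_injective_succ _ 0 _
    have hepi : Epi (Δ.δ (SI F) hS 0 1 rfl) :=
      (Δ.exact₁ (SI F) hS 0 1 rfl).epi_f (hz.eq_of_tgt _ _)
    let e := (EtCoh.push (X.fromSpecResidueField x)).rightDerivedZeroIsoSelf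
    have : Epi (e.inv.app (SI F).X₃ ≫ Δ.δ (SI F) hS 0 1 rfl) := epi_comp _ _
    have : Epi (SI F).g := hS.epi_g
    refine isTorsion_of_epi_push X x (SI F).g (e.inv.app (SI F).X₃ ≫ Δ.δ (SI F) hS 0 1 rfl) ?_
    rw [← Category.assoc, e.inv.naturality, Category.assoc, Δ.comp_δ, comp_zero]
  | succ q ih =>
    intro F
    have hS := SI_shortExact F
    have hI : Injective (SI F).X₂ := injective_SI_X₂ F
    have hz : IsZero (((EtCoh.push (X.fromSpecResidueField x)).rightDerived (q + 1 + 1)).obj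
        (SI F).X₂) :=
      Functor.isZero_rightDerived_obj_injective_succ _ (q + 1) _
    have hepi : Epi (Δ.δ (SI F) hS (q + 1) (q + 1 + 1) rfl) :=
      (Δ.exact₁ (SI F) hS (q + 1) (q + 1 + 1) rfl).epi_f (hz.eq_of_tgt _ _)
    exact isTorsion_of_epi (Δ.δ (SI F) hS (q + 1) (q + 1 + 1) rfl) (ih (SI F).X₃)


theorem exists_nsmul_H [CompactSpace X] [QuasiSeparatedSpace X] (m : ℕ) : ∀ (F : EtCoh.Ab (Spec (X.residueField x)))
    (ξ : Ext.{u + 1} (EtCoh.const X ℤ) ((EtCoh.push (X.fromSpecResidueField x)).obj F) (m + 1)),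
    ∃ d : ℕ, 0 < d ∧ d • ξ = 0 := by
  have hL : PreservesFiniteLimits (EtCoh.pull (X.fromSpecResidueField x)) :=
    Groth.Agent.S0101.result _
  induction m with
  | zero =>
    intro F ξ
    obtain ⟨d, hd, h⟩ := exists_pos_nsmul_eq_zero (K := X.residueField x) F 0
      (Φ (EtCoh.pullPushAdj (X.fromSpecResidueField x))
        (EtCore.pullConst (X.fromSpecResidueField x) ℤ).inv F 1 ξ)
    refine ⟨d, hd, Φ_one_injective (EtCoh.pullPushAdj (X.fromSpecResidueField x))
        (EtCore.pullConst (X.fromSpecResidueField x) ℤ).inv F ?_⟩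
    rw [map_nsmul, map_zero]
    exact h
  | succ m ih =>
    intro F ξ
    have hS := SI_shortExact F
    have hS' := shortExact_image (EtCoh.pullPushAdj (X.fromSpecResidueField x)) F
    have hRI : Injective ((EtCoh.push (X.fromSpecResidueField x)).obj (SI F).X₂) :=
      injective_R_obj (EtCoh.pullPushAdj (X.fromSpecResidueField x)) _
    obtain ⟨y, hy⟩ := Ext.covariant_sequence_exact₁ (EtCoh.const X ℤ) hS' ξ
      (Ext.eq_zero_of_injective _) rfl
    let j : Abelian.image ((EtCoh.push (X.fromSpecResidueField x)).map (SI F).g) ⟶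
        (EtCoh.push (X.fromSpecResidueField x)).obj (SI F).X₃ := Abelian.image.ι _
    obtain ⟨d₁, hd₁, h₁⟩ := ih (SI F).X₃ (y.comp (Ext.mk₀ j) (add_zero _))
    have hS'' : (ShortComplex.mk j (cokernel.π j) (cokernel.condition j)).ShortExact :=
      { exact := ShortComplex.exact_cokernel j
        mono_f := inferInstanceAs (Mono j)
        epi_g := inferInstanceAs (Epi (cokernel.π j)) }
    have hT : EtCoh.IsTorsion (cokernel j) := by
      have : Epi (SI F).g := hS.epi_g
      refine isTorsion_of_epi_push X x (SI F).g (cokernel.π j) ?_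
      exact ((congrArg (· ≫ cokernel.π j) (Abelian.image.fac
        ((EtCoh.push (X.fromSpecResidueField x)).map (SI F).g)).symm).trans
          (Category.assoc _ _ _)).trans
        ((congrArg (Abelian.factorThruImage
          ((EtCoh.push (X.fromSpecResidueField x)).map (SI F).g) ≫ ·)
            (cokernel.condition j)).trans comp_zero)
    obtain ⟨z, hz⟩ := Ext.covariant_sequence_exact₁ (EtCoh.const X ℤ) hS'' (d₁ • y)
      ((map_nsmul ((Ext.mk₀ j).postcomp (EtCoh.const X ℤ) (add_zero (m + 1))) d₁ y).trans h₁) rfl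
    have hz' := Groth.Agent.S0124.result X (cokernel j) hT m z
    rw [isOfFinAddOrder_iff_nsmul_eq_zero] at hz'
    obtain ⟨d₂, hd₂, h₂⟩ := hz'
    refine ⟨d₂ * d₁, Nat.mul_pos hd₂ hd₁, ?_⟩
    rw [mul_nsmul', ← hy]
    have e1 : d₁ • y.comp hS'.extClass rfl = (d₁ • y).comp hS'.extClass rfl :=
      (map_nsmul (hS'.extClass.postcomp (EtCoh.const X ℤ) (rfl : m + 1 + 1 = m + 1 + 1)) d₁ y).symm
    rw [e1, ← hz]
    have e2 : d₂ • (z.comp hS''.extClass rfl).comp hS'.extClass rfl =
        ((d₂ • z).comp hS''.extClass rfl).comp hS'.extClass rfl :=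
      (map_nsmul ((hS'.extClass.postcomp (EtCoh.const X ℤ) (rfl : m + 1 + 1 = m + 1 + 1)).comp
        (hS''.extClass.postcomp (EtCoh.const X ℤ) (rfl : m + 1 = m + 1))) d₂ z).symm
    rw [e2, h₂, Ext.zero_comp, Ext.zero_comp]

end Groth.Agent.Lib.Helper47.SkyPush
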