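import Groth.Agent.Lib.Helper47.GalEfface2

/-!
# Sections of quotient sheaves over finite étale schemes over a field lift up to torsion (helper47)
-/

set_option autoImplicit false
universe u
open CategoryTheory CategoryTheory.Limits AlgebraicGeometry Opposite CategoryTheory.Abelian

namespace Groth.Agent.Lib.Helper47.GalEfface

open Groth.Agent.Lib.Helper47.EtRestr Groth.Agent.Lib.Helper70.TraceFinEt

variable {K : Type u} [Field K]

lemma sec_nsmul (G : EtCoh.Ab (Spec (CommRingCat.of K))) (d : ℕ) (b : ZK K ⟶ G) :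
    sec G (d • b) = d • sec G b := by
  unfold sec
  rw [ExtLocalize.mk₀_nsmul, map_nsmul]

/-- terminal case: a global section of a quotient lifts after multiplication by a positive
integer -/
lemma exists_nsmul_mem_range_top {I Q : EtCoh.Ab (Spec (CommRingCat.of K))} (p : I ⟶ Q) [Epi p]
    (t : Q.obj.obj (op (EtCoh.top _))) :
    ∃ d : ℕ, 0 < d ∧ ∃ i : I.obj.obj (op (EtCoh.top _)),
      p.hom.app (op (EtCoh.top _)) i = d • t := by
  obtain ⟨b, hb⟩ := (sec_bijective Q).2 t
  let S : ShortComplex (EtCoh.Ab (Spec (CommRingCat.of K))) :=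
    ShortComplex.mk (kernel.ι p) p (kernel.condition p)
  have hS : S.ShortExact :=
    { exact := ShortComplex.exact_kernel p
      mono_f := inferInstanceAs (Mono (kernel.ι p))
      epi_g := inferInstanceAs (Epi p) }
  obtain ⟨d, hd, hx⟩ := exists_pos_nsmul_eq_zero (kernel p) 0
    ((Ext.mk₀ b).comp hS.extClass (zero_add 1))
  have h1 : (Ext.mk₀ (d • b)).comp hS.extClass (zero_add 1) = 0 := by
    rw [ExtLocalize.mk₀_nsmul]
    refine Eq.trans ?_ hx
    exact map_nsmul (hS.extClass.postcomp (ZK K) (zero_add 1)) d (Ext.mk₀ b)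
  obtain ⟨x₂, hx₂⟩ := Ext.covariant_sequence_exact₃ (ZK K) hS (Ext.mk₀ (d • b)) rfl h1
  obtain ⟨a₀, rfl⟩ := (Ext.mk₀_bijective _ _).2 x₂
  have ha : a₀ ≫ p = d • b := by
    have h2 : Ext.mk₀ (a₀ ≫ p) = Ext.mk₀ (d • b) := (Ext.mk₀_comp_mk₀ a₀ p).symm.trans hx₂
    exact (Ext.mk₀_bijective _ _).1 h2
  refine ⟨d, hd, sec I a₀, ?_⟩
  rw [← sec_comp, ha, sec_nsmul, hb]

/-- a section of a quotient sheaf over a finite étale scheme lifts after multiplication by a
positive integer -/
lemma exists_nsmul_mem_range (W : (Spec (CommRingCat.of K)).Etale) [IsFinite W.hom]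
    {I Q : EtCoh.Ab (Spec (CommRingCat.of K))} (p : I ⟶ Q) [Epi p] (t : Q.obj.obj (op W)) :
    ∃ d : ℕ, 0 < d ∧ ∃ i : I.obj.obj (op W), p.hom.app (op W) i = d • t := by
  let W' : (Spec (CommRingCat.of K)).Etale :=
    (EtShriek.compEtale W.hom).obj ((EtCoh.bc W.hom).obj (EtCoh.top _))
  let c : W' ⟶ W := MorphismProperty.Over.homMk ((EtCoh.bc W.hom).obj (EtCoh.top _)).hom rfl
  have hw : W.hom ≫ 𝟙 (Spec (CommRingCat.of K)) = 𝟙 W.left ≫ W.hom :=
    (Category.comp_id _).trans (Category.id_comp _).symm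
  let dd : W ⟶ W' := MorphismProperty.Over.homMk
    (pullback.lift W.hom (𝟙 W.left) hw) (by
      change pullback.lift W.hom (𝟙 W.left) hw ≫ pullback.snd _ _ ≫ W.hom = W.hom
      exact (pullback.lift_snd_assoc _ _ _ _).trans (Category.id_comp _))
  have hdc : dd ≫ c = 𝟙 W := by
    apply MorphismProperty.Over.Hom.ext
    change pullback.lift W.hom (𝟙 W.left) hw ≫ pullback.snd _ _ = 𝟙 _
    exact pullback.lift_snd _ _ _
  have hepi : Epi ((Tπ W.hom).map p) := inferInstance
  let t' : ((Tπ W.hom).obj Q).obj.obj (op (EtCoh.top _)) := Q.obj.map c.op t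
  obtain ⟨d, hd, i', hi'⟩ := exists_nsmul_mem_range_top ((Tπ W.hom).map p) t'
  let i'' : I.obj.obj (op W') := i'
  have hi'' : p.hom.app (op W') i'' = d • Q.obj.map c.op t := hi'
  refine ⟨d, hd, I.obj.map dd.op i'', ?_⟩
  have hnat : p.hom.app (op W) (I.obj.map dd.op i'') = Q.obj.map dd.op (p.hom.app (op W') i'') :=
    ConcreteCategory.congr_hom (p.hom.naturality dd.op) i''
  rw [hnat, hi'', map_nsmul]
  congr 1
  have h3 : Q.obj.map dd.op (Q.obj.map c.op t) = Q.obj.map (dd ≫ c).op t := by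
    rw [op_comp, Q.obj.map_comp]
    rfl
  rw [h3, hdc]
  simp

end Groth.Agent.Lib.Helper47.GalEfface
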