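import Groth.Prelude.Def_Tors
import Mathlib

/-!
# Torsors under an abelian sheaf and `H¹` (helper47), part A: global sections, the torsor of lifts,
and `H¹ = 0` when all torsors are trivial.
-/

set_option autoImplicit false
universe u
open CategoryTheory CategoryTheory.Limits Opposite

namespace Groth.Agent.Lib.Helper47.TorsLib

variable {C : Type u} [SmallCategory C] {J : GrothendieckTopology C}

/-- the group `ℤ` in universe `u` -/
abbrev Zc : AddCommGrpCat.{u} := AddCommGrpCat.of (ULift.{u} ℤ)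

/-- the constant sheaf `ℤ` -/
noncomputable abbrev ZZ (J : GrothendieckTopology C) : Sheaf J AddCommGrpCat.{u} :=
  (constantSheaf J AddCommGrpCat.{u}).obj Zc

/-- compatible families of sections (global sections) of an abelian sheaf -/
structure GSec (F : Sheaf J AddCommGrpCat.{u}) where
  s : ∀ U : Cᵒᵖ, F.obj.obj U
  compat : ∀ {U V : Cᵒᵖ} (f : U ⟶ V), F.obj.map f (s U) = s V

namespace GSec

variable {F F' : Sheaf J AddCommGrpCat.{u}}

@[ext] lemma ext' {σ τ : GSec F} (h : ∀ U, σ.s U = τ.s U) : σ = τ := by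
  cases σ; cases τ; congr; funext U; exact h U

/-- push a global section along a morphism -/
def map (σ : GSec F) (φ : F ⟶ F') : GSec F' where
  s U := φ.hom.app U (σ.s U)
  compat {U V} f := by
    rw [← σ.compat f]
    exact (NatTrans.naturality_apply φ.hom f (σ.s U)).symm

/-- the presheaf morphism `ℤ ⟶ F` attached to a global section -/
def preHom (σ : GSec F) : (Functor.const Cᵒᵖ).obj Zc ⟶ F.obj where
  app U := AddCommGrpCat.ofHom
    ((zmultiplesHom (F.obj.obj U) (σ.s U)).comp AddEquiv.ulift.toAddMonoidHom)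
  naturality U V f := by
    ext n
    change (n.down • σ.s V) = F.obj.map f (n.down • σ.s U)
    rw [map_zsmul, σ.compat f]

lemma preHom_app (σ : GSec F) (U : Cᵒᵖ) (n : ULift.{u} ℤ) :
    (σ.preHom.app U) n = n.down • σ.s U := rfl

/-- the adjunction bijection, with the source written as the constant sheaf -/
noncomputable def adjEquiv (F : Sheaf J AddCommGrpCat.{u}) :
    (ZZ J ⟶ F) ≃ ((Functor.const Cᵒᵖ).obj Zc ⟶ F.obj) :=
  (sheafificationAdjunction J AddCommGrpCat.{u}).homEquiv ((Functor.const Cᵒᵖ).obj Zc) F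

lemma adjEquiv_symm_comp (f : (Functor.const Cᵒᵖ).obj Zc ⟶ F.obj) (φ : F ⟶ F') :
    (adjEquiv F).symm f ≫ φ = (adjEquiv F').symm (f ≫ φ.hom) :=
  ((sheafificationAdjunction J AddCommGrpCat.{u}).homEquiv_naturality_right_symm f φ).symm

/-- the morphism `ℤ ⟶ F` attached to a global section -/
noncomputable def hom (σ : GSec F) : ZZ J ⟶ F := (adjEquiv F).symm σ.preHom

/-- the global section attached to a morphism `ℤ ⟶ F` -/
noncomputable def ofHom (c : ZZ J ⟶ F) : GSec F where
  s U := ((adjEquiv F c).app U) (ULift.up 1)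
  compat f := (NatTrans.naturality_apply (adjEquiv F c) f (ULift.up 1)).symm

lemma hom_ofHom (c : ZZ J ⟶ F) : (ofHom c).hom = c := by
  apply (adjEquiv F).injective
  rw [hom, Equiv.apply_symm_apply]
  ext U n
  rw [preHom_app]
  change n.down • ((adjEquiv F c).app U) (ULift.up 1) = _
  rw [← map_zsmul]
  congr 1
  apply ULift.ext
  simp

lemma hom_comp (σ : GSec F) (φ : F ⟶ F') : σ.hom ≫ φ = (σ.map φ).hom := by
  rw [hom, hom, adjEquiv_symm_comp]
  congr 1
  ext U n
  change φ.hom.app U (n.down • σ.s U) = n.down • φ.hom.app U (σ.s U)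
  rw [map_zsmul]

end GSec

section Fibre

variable {G I Q : Sheaf J AddCommGrpCat.{u}} (ι : G ⟶ I) (π : I ⟶ Q)

/-- the presheaf of sets of local lifts of `σ` -/
def fibPre (σ : GSec Q) : Cᵒᵖ ⥤ Type u where
  obj U := {x : I.obj.obj U // π.hom.app U x = σ.s U}
  map {U V} f := TypeCat.ofHom (fun x => ⟨I.obj.map f x.1, by
    rw [NatTrans.naturality_apply π.hom f x.1, x.2, σ.compat f]⟩)
  map_id U := by
    ext x
    change I.obj.map (𝟙 U) x.1 = x.1
    simp
  map_comp f g := by
    ext x
    change I.obj.map (f ≫ g) x.1 = I.obj.map g (I.obj.map f x.1)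
    simp

lemma fibPre_map_val (σ : GSec Q) {U V : Cᵒᵖ} (f : U ⟶ V) (x : (fibPre π σ).obj U) :
    ((fibPre π σ).map f x).1 = I.obj.map f x.1 := rfl

lemma isSheaf_forget (F : Sheaf J AddCommGrpCat.{u}) :
    Presieve.IsSheaf J (F.obj ⋙ forget AddCommGrpCat.{u}) :=
  (isSheaf_iff_isSheaf_of_type _ _).1 ((sheafCompose J (forget AddCommGrpCat.{u})).obj F).property

lemma fibPre_isSheaf (σ : GSec Q) : Presheaf.IsSheaf J (fibPre π σ) := by
  rw [isSheaf_iff_isSheaf_of_type]
  have hI := isSheaf_forget I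
  have hQ := isSheaf_forget Q
  intro U S hS x hx
  let x' : Presieve.FamilyOfElements (I.obj ⋙ forget AddCommGrpCat.{u}) S.arrows :=
    fun V f hf => (x f hf).1
  have hx' : x'.Compatible := by
    intro Y₁ Y₂ Z g₁ g₂ f₁ f₂ h₁ h₂ e
    exact congrArg Subtype.val (hx g₁ g₂ h₁ h₂ e)
  obtain ⟨y, hy, hyu⟩ := hI S hS x' hx'
  have hπ : π.hom.app (op U) y = σ.s (op U) := by
    apply (hQ S hS).isSeparatedFor.ext
    intro V f hf
    change Q.obj.map f.op (π.hom.app (op U) y) = Q.obj.map f.op (σ.s (op U))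
    rw [← NatTrans.naturality_apply π.hom f.op y, σ.compat f.op]
    have h1 : I.obj.map f.op y = (x f hf).1 := hy f hf
    rw [h1]
    exact (x f hf).2
  refine ⟨⟨y, hπ⟩, ?_, ?_⟩
  · intro V f hf
    apply Subtype.ext
    exact hy f hf
  · intro z hz
    apply Subtype.ext
    apply hyu
    intro V f hf
    exact congrArg Subtype.val (hz f hf)

variable (w : ι ≫ π = 0) (hS : (ShortComplex.mk ι π w).ShortExact)

include hS in
lemma ι_app_injective (U : Cᵒᵖ) : Function.Injective (ι.hom.app U) := by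
  have := hS.mono_f
  have h : Mono ((sheafToPresheaf J AddCommGrpCat.{u} ⋙ (evaluation _ _).obj U).map ι) :=
    inferInstance
  exact (AddCommGrpCat.mono_iff_injective _).1 h

include hS in
lemma exists_of_π_app_eq_zero (U : Cᵒᵖ) (x : I.obj.obj U) (hx : π.hom.app U x = 0) :
    ∃ g : G.obj.obj U, ι.hom.app U g = x := by
  have h := hS.exact.map_of_mono_of_preservesKernel
    (sheafToPresheaf J AddCommGrpCat.{u} ⋙ (evaluation _ _).obj U) hS.mono_f inferInstance
  rw [ShortComplex.ab_exact_iff] at h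
  exact h x hx

lemma π_ι_app (w : ι ≫ π = 0) (U : Cᵒᵖ) (g : G.obj.obj U) :
    π.hom.app U (ι.hom.app U g) = 0 := by
  have h := congrArg (fun φ : G ⟶ Q => φ.hom.app U g) w
  exact h

include hS in
/-- the torsor of local lifts of a global section of the quotient -/
noncomputable def fibTorsor (σ : GSec Q) : Tors.Torsor G where
  P := ⟨fibPre π σ, fibPre_isSheaf π σ⟩
  vadd {U} g x := ⟨ι.hom.app U g + x.1, by
    rw [map_add, π_ι_app ι π w, zero_add, x.2]⟩
  zero_vadd {U} p := by
    apply Subtype.ext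
    change ι.hom.app U 0 + p.1 = p.1
    rw [map_zero, zero_add]
  add_vadd {U} g h p := by
    apply Subtype.ext
    change ι.hom.app U (g + h) + p.1 = ι.hom.app U g + (ι.hom.app U h + p.1)
    rw [map_add, add_assoc]
  map_vadd {U V} f g p := by
    apply Subtype.ext
    change I.obj.map f (ι.hom.app U g + p.1) = ι.hom.app V (G.obj.map f g) + I.obj.map f p.1
    rw [map_add, NatTrans.naturality_apply ι.hom f g]
  free_transitive {U} p q := by
    obtain ⟨g, hg⟩ := exists_of_π_app_eq_zero ι π w hS U (q.1 - p.1) (by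
      rw [map_sub, q.2, p.2, sub_self])
    refine ⟨g, ?_, ?_⟩
    · apply Subtype.ext
      change ι.hom.app U g + p.1 = q.1
      rw [hg, sub_add_cancel]
    · intro g' hg'
      apply ι_app_injective ι π w hS U
      have h1 : ι.hom.app U g' + p.1 = q.1 := congrArg Subtype.val hg'
      rw [hg, ← h1, add_sub_cancel_right]
  locally_nonempty U := by
    have := hS.epi_g
    have hls : Sheaf.IsLocallySurjective π := (Sheaf.isLocallySurjective_iff_epi' _ π).2 inferInstance
    refine ⟨Presheaf.imageSieve π.hom (σ.s (op U)), Presheaf.imageSieve_mem J π.hom _, ?_⟩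
    intro V f hf
    obtain ⟨t, ht⟩ := hf
    exact ⟨⟨t, ht.trans (σ.compat f.op)⟩⟩

end Fibre

section MainA

open Abelian

/-- a global section of a torsor gives a compatible family of elements -/
lemma exists_family_of_hasSection {G : Sheaf J AddCommGrpCat.{u}} (T : Tors.Torsor G)
    (h : T.HasSection) :
    ∃ s : ∀ U : Cᵒᵖ, T.P.obj.obj U, ∀ {U V : Cᵒᵖ} (f : U ⟶ V), T.P.obj.map f (s U) = s V := by
  obtain ⟨t⟩ := h
  let E : Sheaf J (Type u) :=
    ⟨(Functor.const _).obj PUnit, Presheaf.isSheaf_of_isTerminal J Types.isTerminalPUnit⟩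
  let τ : E ⟶ T.P := terminal.from E ≫ t
  refine ⟨fun U => τ.hom.app U PUnit.unit, ?_⟩
  intro U V f
  exact (NatTrans.naturality_apply τ.hom f PUnit.unit).symm

theorem ext_one_eq_zero_of_torsors (G : Sheaf J AddCommGrpCat.{u})
    (h : ∀ T : Tors.Torsor G, T.HasSection) (x : Ext.{u} (ZZ J) G 1) : x = 0 := by
  let ι : G ⟶ Injective.under G := Injective.ι G
  let π : Injective.under G ⟶ cokernel ι := cokernel.π ι
  have w : ι ≫ π = 0 := cokernel.condition ι
  have hS : (ShortComplex.mk ι π w).ShortExact :=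
    ShortComplex.ShortExact.mk' (ShortComplex.exact_cokernel ι) inferInstance inferInstance
  have h0 : x.comp (Ext.mk₀ ι) (add_zero 1) = 0 := Ext.eq_zero_of_injective _
  obtain ⟨x₃, hx₃⟩ := Ext.covariant_sequence_exact₁ (ZZ J) hS x h0 (zero_add 1)
  obtain ⟨c, rfl⟩ := (Ext.mk₀_bijective _ _).2 x₃
  let σ := GSec.ofHom c
  obtain ⟨s, hs⟩ := exists_family_of_hasSection _ (h (fibTorsor ι π w hS σ))
  let τ : GSec (Injective.under G) := ⟨fun U => (s U).1, fun f => congrArg Subtype.val (hs f)⟩
  have hτ : τ.map π = σ := by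
    ext U
    exact (s U).2
  have hc : c = τ.hom ≫ π := by
    rw [GSec.hom_comp, hτ, GSec.hom_ofHom]
  rw [← hx₃, hc, ← Ext.mk₀_comp_mk₀]
  rw [Ext.comp_assoc_of_second_deg_zero]
  have := hS.comp_extClass
  dsimp at this
  rw [this, Ext.comp_zero]

end MainA

end Groth.Agent.Lib.Helper47.TorsLib
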