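import Groth.Agent.Lib.Helper47.TorsA

/-!
# Torsors under an abelian sheaf and `H¹` (helper47), part B: the free abelian sheaf on a torsor and
trivialisation of torsors when `H¹ = 0`.
-/

set_option autoImplicit false
universe u
open CategoryTheory CategoryTheory.Limits Opposite

namespace Groth.Agent.Lib.Helper47.TorsLib

variable {C : Type u} [SmallCategory C] {J : GrothendieckTopology C}

section Diff

variable {G : Sheaf J AddCommGrpCat.{u}} (T : Tors.Torsor G)

/-- the difference `p - q` of two sections of a torsor -/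
noncomputable def diff {U : Cᵒᵖ} (p q : T.P.obj.obj U) : G.obj.obj U :=
  (T.free_transitive q p).choose

lemma diff_vadd {U : Cᵒᵖ} (p q : T.P.obj.obj U) : T.vadd (diff T p q) q = p :=
  (T.free_transitive q p).choose_spec.1

lemma diff_unique {U : Cᵒᵖ} (p q : T.P.obj.obj U) (g : G.obj.obj U) (h : T.vadd g q = p) :
    g = diff T p q :=
  (T.free_transitive q p).choose_spec.2 g h

lemma diff_add_diff {U : Cᵒᵖ} (a b c : T.P.obj.obj U) :
    diff T a c + diff T c b = diff T a b := by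
  apply diff_unique
  rw [T.add_vadd, diff_vadd, diff_vadd]

lemma diff_self {U : Cᵒᵖ} (a : T.P.obj.obj U) : diff T a a = 0 :=
  (diff_unique T a a 0 (T.zero_vadd a)).symm

lemma map_diff {U V : Cᵒᵖ} (f : U ⟶ V) (p q : T.P.obj.obj U) :
    G.obj.map f (diff T p q) = diff T (T.P.obj.map f p) (T.P.obj.map f q) := by
  apply diff_unique
  rw [← T.map_vadd, diff_vadd]

lemma vadd_neg_diff {U : Cᵒᵖ} (p q : T.P.obj.obj U) (a b : G.obj.obj U)
    (h : a - b = diff T p q) : T.vadd (-a) p = T.vadd (-b) q := by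
  have h1 : p = T.vadd (a - b) q := by rw [h, diff_vadd]
  rw [h1, ← T.add_vadd]
  congr 1
  abel

end Diff

section Free

variable {G : Sheaf J AddCommGrpCat.{u}} (T : Tors.Torsor G)

/-- the free abelian presheaf on the torsor -/
noncomputable def Fpre : Cᵒᵖ ⥤ AddCommGrpCat.{u} := T.P.obj ⋙ AddCommGrpCat.free

/-- the augmentation -/
noncomputable def εpre : Fpre T ⟶ (Functor.const Cᵒᵖ).obj Zc where
  app U := AddCommGrpCat.ofHom (FreeAbelianGroup.lift (fun _ => (ULift.up 1 : ULift.{u} ℤ)))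
  naturality U V f := by
    apply AddCommGrpCat.hom_ext
    apply FreeAbelianGroup.lift_ext
    intro x
    change FreeAbelianGroup.lift (fun _ => (ULift.up 1 : ULift.{u} ℤ))
      (FreeAbelianGroup.map (T.P.obj.map f) (FreeAbelianGroup.of x)) =
      FreeAbelianGroup.lift (fun _ => (ULift.up 1 : ULift.{u} ℤ)) (FreeAbelianGroup.of x)
    rw [FreeAbelianGroup.map_of_apply, FreeAbelianGroup.lift_apply_of,
      FreeAbelianGroup.lift_apply_of]

/-- the basis element attached to a section -/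
noncomputable def bas {U : Cᵒᵖ} (p : T.P.obj.obj U) : (Fpre T).obj U :=
  (FreeAbelianGroup.of p : FreeAbelianGroup (T.P.obj.obj U))

lemma εpre_bas {U : Cᵒᵖ} (p : T.P.obj.obj U) : (εpre T).app U (bas T p) = ULift.up 1 :=
  FreeAbelianGroup.lift_apply_of _ _

lemma Fpre_map_bas {U V : Cᵒᵖ} (f : U ⟶ V) (p : T.P.obj.obj U) :
    (Fpre T).map f (bas T p) = bas T (T.P.obj.map f p) :=
  FreeAbelianGroup.map_of_apply _

/-- the homomorphism `ℤ[P(U)] → G(U)`, `[p] ↦ p - p₀` -/
noncomputable def Dhom {U : Cᵒᵖ} (p₀ : T.P.obj.obj U) : (Fpre T).obj U ⟶ G.obj.obj U :=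
  AddCommGrpCat.ofHom (FreeAbelianGroup.lift (fun p => diff T p p₀))

lemma Dhom_bas {U : Cᵒᵖ} (p₀ p : T.P.obj.obj U) : Dhom T p₀ (bas T p) = diff T p p₀ :=
  FreeAbelianGroup.lift_apply_of _ _

/-- changing the base point changes `Dhom` by a multiple of the augmentation -/
lemma Dhom_sub {U : Cᵒᵖ} (p₀ p₁ : T.P.obj.obj U) (x : (Fpre T).obj U) :
    Dhom T p₀ x - Dhom T p₁ x = ((εpre T).app U x).down • diff T p₁ p₀ := by
  let φ : FreeAbelianGroup (T.P.obj.obj U) →+ G.obj.obj U :=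
    (Dhom T p₀).hom - (Dhom T p₁).hom
  let ψ : FreeAbelianGroup (T.P.obj.obj U) →+ G.obj.obj U :=
    ((zmultiplesHom (G.obj.obj U) (diff T p₁ p₀)).comp AddEquiv.ulift.toAddMonoidHom).comp
      ((εpre T).app U).hom
  have h : φ = ψ := by
    apply FreeAbelianGroup.lift_ext
    intro p
    change Dhom T p₀ (bas T p) - Dhom T p₁ (bas T p) =
      ((εpre T).app U (bas T p)).down • diff T p₁ p₀
    rw [Dhom_bas, Dhom_bas, εpre_bas, one_zsmul, sub_eq_iff_eq_add, add_comm, diff_add_diff]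
  exact DFunLike.congr_fun h x

lemma Dhom_eq_of_ker {U : Cᵒᵖ} (p₀ p₁ : T.P.obj.obj U) (x : (Fpre T).obj U)
    (hx : (εpre T).app U x = 0) : Dhom T p₀ x = Dhom T p₁ x := by
  have h := Dhom_sub T p₀ p₁ x
  rw [hx] at h
  have h2 : ((0 : ULift.{u} ℤ)).down • diff T p₁ p₀ = 0 := zero_zsmul _
  rw [sub_eq_zero.symm]
  exact h.trans h2

lemma map_Dhom {U V : Cᵒᵖ} (f : U ⟶ V) (p₀ : T.P.obj.obj U) (x : (Fpre T).obj U) :
    G.obj.map f (Dhom T p₀ x) = Dhom T (T.P.obj.map f p₀) ((Fpre T).map f x) := by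
  let φ : FreeAbelianGroup (T.P.obj.obj U) →+ G.obj.obj V :=
    (G.obj.map f).hom.comp (Dhom T p₀).hom
  let ψ : FreeAbelianGroup (T.P.obj.obj U) →+ G.obj.obj V :=
    (Dhom T (T.P.obj.map f p₀)).hom.comp ((Fpre T).map f).hom
  have h : φ = ψ := by
    apply FreeAbelianGroup.lift_ext
    intro p
    change G.obj.map f (Dhom T p₀ (bas T p)) =
      Dhom T (T.P.obj.map f p₀) ((Fpre T).map f (bas T p))
    rw [Dhom_bas, Fpre_map_bas, Dhom_bas, map_diff]
  exact DFunLike.congr_fun h x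

end Free

section Kernel

variable {G : Sheaf J AddCommGrpCat.{u}} (T : Tors.Torsor G)

/-- the kernel of the augmentation -/
noncomputable abbrev Kpre : Cᵒᵖ ⥤ AddCommGrpCat.{u} := kernel (εpre T)

/-- the inclusion of the kernel -/
noncomputable abbrev κ : Kpre T ⟶ Fpre T := kernel.ι (εpre T)

lemma ε_κ_apply (U : Cᵒᵖ) (k : (Kpre T).obj U) : (εpre T).app U ((κ T).app U k) = 0 := by
  have h := congrArg (fun φ : Kpre T ⟶ (Functor.const Cᵒᵖ).obj Zc => φ.app U k)
    (kernel.condition (εpre T))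
  exact h

lemma Fpre_eq_zero_of_isEmpty (U : Cᵒᵖ) (h : ¬ Nonempty (T.P.obj.obj U)) (x : (Fpre T).obj U) :
    x = 0 := by
  have h1 : AddMonoidHom.id (FreeAbelianGroup (T.P.obj.obj U)) = 0 :=
    FreeAbelianGroup.lift_ext _ _ (fun p => (h ⟨p⟩).elim)
  exact DFunLike.congr_fun h1 x

open Classical in
/-- the components of the canonical map from the kernel to `G` -/
noncomputable def dApp (U : Cᵒᵖ) : (Kpre T).obj U ⟶ G.obj.obj U :=
  if h : Nonempty (T.P.obj.obj U) then (κ T).app U ≫ Dhom T h.some else 0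

lemma dApp_eq (U : Cᵒᵖ) (p₀ : T.P.obj.obj U) (k : (Kpre T).obj U) :
    dApp T U k = Dhom T p₀ ((κ T).app U k) := by
  have h : Nonempty (T.P.obj.obj U) := ⟨p₀⟩
  rw [dApp, dif_pos h]
  exact Dhom_eq_of_ker T _ _ _ (ε_κ_apply T U k)

lemma dApp_eq_zero (U : Cᵒᵖ) (h : ¬ Nonempty (T.P.obj.obj U)) (k : (Kpre T).obj U) :
    dApp T U k = 0 := by
  rw [dApp, dif_neg h]
  rfl

/-- the canonical map from the kernel of the augmentation to `G` -/
noncomputable def dpre : Kpre T ⟶ G.obj where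
  app U := dApp T U
  naturality U V f := by
    ext k
    change dApp T V ((Kpre T).map f k) = G.obj.map f (dApp T U k)
    by_cases h : Nonempty (T.P.obj.obj U)
    · obtain ⟨p₀⟩ := h
      rw [dApp_eq T U p₀, dApp_eq T V (T.P.obj.map f p₀), map_Dhom]
      congr 1
      exact NatTrans.naturality_apply (κ T) f k
    · rw [dApp_eq_zero T U h, map_zero]
      by_cases h' : Nonempty (T.P.obj.obj V)
      · obtain ⟨p₁⟩ := h'
        rw [dApp_eq T V p₁, NatTrans.naturality_apply (κ T) f k,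
          Fpre_eq_zero_of_isEmpty T U h ((κ T).app U k), map_zero, map_zero]
      · exact dApp_eq_zero T V h' _

lemma dpre_app (U : Cᵒᵖ) (p₀ : T.P.obj.obj U) (k : (Kpre T).obj U) :
    (dpre T).app U k = Dhom T p₀ ((κ T).app U k) := dApp_eq T U p₀ k

/-- the presheaf short complex -/
noncomputable abbrev Spre : ShortComplex (Cᵒᵖ ⥤ AddCommGrpCat.{u}) :=
  ShortComplex.mk (κ T) (εpre T) (kernel.condition _)

lemma Spre_exact : (Spre T).Exact := ShortComplex.exact_kernel _

/-- every difference of basis elements comes from the kernel -/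
lemma exists_κ_eq (U : Cᵒᵖ) (x : (Fpre T).obj U) (hx : (εpre T).app U x = 0) :
    ∃ k : (Kpre T).obj U, (κ T).app U k = x := by
  have h := (Spre_exact T).map ((evaluation Cᵒᵖ AddCommGrpCat.{u}).obj U)
  rw [ShortComplex.ab_exact_iff] at h
  exact h x hx

instance isLocallySurjective_εpre : Presheaf.IsLocallySurjective J (εpre T) where
  imageSieve_mem {U} s := by
    obtain ⟨S, hS, hS'⟩ := T.locally_nonempty U
    refine J.superset_covering ?_ hS
    intro V f hf
    obtain ⟨p⟩ := hS' f hf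
    refine ⟨s.down • bas T p, ?_⟩
    rw [map_zsmul, εpre_bas]
    change s.down • (ULift.up 1 : ULift.{u} ℤ) = s
    apply ULift.ext
    simp

/-- the sheafified short complex -/
noncomputable abbrev Ssh : ShortComplex (Sheaf J AddCommGrpCat.{u}) :=
  (Spre T).map (presheafToSheaf J AddCommGrpCat.{u})

lemma Ssh_shortExact : (Ssh T).ShortExact := by
  have h1 : (Ssh T).Exact := (Spre_exact T).map _
  have h2 : Mono (Ssh T).f := by
    change Mono ((presheafToSheaf J AddCommGrpCat.{u}).map (κ T))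
    infer_instance
  have h3 : Epi (Ssh T).g := by
    change Epi ((presheafToSheaf J AddCommGrpCat.{u}).map (εpre T))
    rw [← Sheaf.isLocallySurjective_iff_epi', Presheaf.isLocallySurjective_presheafToSheaf_map_iff]
    infer_instance
  exact ShortComplex.ShortExact.mk' h1 h2 h3

end Kernel

section MainB

open Abelian

variable {G : Sheaf J AddCommGrpCat.{u}} (T : Tors.Torsor G)

/-- adjunction bijection -/
noncomputable def shEquiv (P : Cᵒᵖ ⥤ AddCommGrpCat.{u}) (F : Sheaf J AddCommGrpCat.{u}) :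
    ((presheafToSheaf J AddCommGrpCat.{u}).obj P ⟶ F) ≃ (P ⟶ F.obj) :=
  (sheafificationAdjunction J AddCommGrpCat.{u}).homEquiv P F

lemma shEquiv_map_comp {P P' : Cᵒᵖ ⥤ AddCommGrpCat.{u}} (F : Sheaf J AddCommGrpCat.{u})
    (a : P ⟶ P') (ψ : (presheafToSheaf J AddCommGrpCat.{u}).obj P' ⟶ F) :
    shEquiv P F ((presheafToSheaf J AddCommGrpCat.{u}).map a ≫ ψ) = a ≫ shEquiv P' F ψ :=
  (sheafificationAdjunction J AddCommGrpCat.{u}).homEquiv_naturality_left a ψ

theorem exists_equivariant (h : ∀ x : Ext.{u} (ZZ J) G 1, x = 0) :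
    ∃ ψ : Fpre T ⟶ G.obj, κ T ≫ ψ = dpre T := by
  have hS := Ssh_shortExact T
  let dsh : (Ssh T).X₁ ⟶ G := (shEquiv (Kpre T) G).symm (dpre T)
  have hx : hS.extClass.comp (Ext.mk₀ dsh) (add_zero 1) = 0 := h _
  obtain ⟨x₂, hx₂⟩ := Ext.contravariant_sequence_exact₁ hS G (Ext.mk₀ dsh) (add_zero 1) hx
  obtain ⟨ψ, rfl⟩ := (Ext.mk₀_bijective _ _).2 x₂
  rw [Ext.mk₀_comp_mk₀] at hx₂
  have h2 : (Ssh T).f ≫ ψ = dsh := (Ext.mk₀_bijective _ _).1 hx₂
  refine ⟨shEquiv _ _ ψ, ?_⟩
  rw [← shEquiv_map_comp]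
  have h3 : (presheafToSheaf J AddCommGrpCat.{u}).map (κ T) ≫ ψ = dsh := h2
  rw [h3]
  exact Equiv.apply_symm_apply _ _

variable (ψ : Fpre T ⟶ G.obj) (hψ : κ T ≫ ψ = dpre T)

include hψ in
lemma ψ_sub (U : Cᵒᵖ) (p q : T.P.obj.obj U) :
    ψ.app U (bas T p) - ψ.app U (bas T q) = diff T p q := by
  obtain ⟨k, hk⟩ := exists_κ_eq T U (bas T p - bas T q)
    (by rw [map_sub, εpre_bas, εpre_bas, sub_self])
  have h1 : ψ.app U ((κ T).app U k) = (dpre T).app U k :=
    congrArg (fun φ : Kpre T ⟶ G.obj => φ.app U k) hψ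
  rw [hk, map_sub] at h1
  rw [h1, dpre_app T U q k, hk, map_sub, Dhom_bas, Dhom_bas, diff_self, sub_zero]

/-- the canonical section on an object where the torsor has a section -/
noncomputable def can (U : Cᵒᵖ) (p : T.P.obj.obj U) : T.P.obj.obj U :=
  T.vadd (-(ψ.app U (bas T p))) p

include hψ in
lemma can_eq (U : Cᵒᵖ) (p q : T.P.obj.obj U) : can T ψ U p = can T ψ U q :=
  vadd_neg_diff T p q _ _ (ψ_sub T ψ hψ U p q)

lemma map_can {U V : Cᵒᵖ} (f : U ⟶ V) (p : T.P.obj.obj U) :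
    T.P.obj.map f (can T ψ U p) = can T ψ V (T.P.obj.map f p) := by
  rw [can, T.map_vadd, map_neg, ← NatTrans.naturality_apply ψ f, Fpre_map_bas]
  rfl

include hψ in
theorem hasSection_of_equivariant : T.HasSection := by
  have hP : Presieve.IsSheaf J T.P.obj := (isSheaf_iff_isSheaf_of_type _ _).1 T.P.property
  choose S hS hS' using T.locally_nonempty
  let x : ∀ U : C, Presieve.FamilyOfElements T.P.obj (S U).arrows :=
    fun U V f hf => can T ψ (op V) (hS' U f hf).some
  have hx : ∀ U, (x U).Compatible := by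
    intro U Y₁ Y₂ Z g₁ g₂ f₁ f₂ h₁ h₂ e
    change T.P.obj.map g₁.op (can T ψ (op Y₁) _) = T.P.obj.map g₂.op (can T ψ (op Y₂) _)
    rw [map_can, map_can]
    exact can_eq T ψ hψ _ _ _
  let s : ∀ U : C, T.P.obj.obj (op U) := fun U => (hP (S U) (hS U)).amalgamate (x U) (hx U)
  have hs : ∀ (U V : C) (f : V ⟶ U) (hf : S U f), T.P.obj.map f.op (s U) = x U f hf :=
    fun U V f hf => (hP _ (hS U)).valid_glue (hx U) f hf
  have hA : ∀ (U W : C) (g : W ⟶ U) (p : T.P.obj.obj (op W)),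
      T.P.obj.map g.op (s U) = can T ψ (op W) p := by
    intro U W g p
    apply (hP _ (J.pullback_stable g (hS U))).isSeparatedFor.ext
    intro W' k hk
    have h1 : T.P.obj.map k.op (T.P.obj.map g.op (s U)) = T.P.obj.map (k ≫ g).op (s U) := by
      rw [op_comp, Functor.map_comp]
      rfl
    rw [h1, hs U W' (k ≫ g) hk, map_can]
    exact can_eq T ψ hψ _ _ _
  have hnat : ∀ (U V : C) (f : V ⟶ U), T.P.obj.map f.op (s U) = s V := by
    intro U V f
    apply (hP _ (hS V)).isSeparatedFor.ext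
    intro W g hg
    obtain ⟨p⟩ := hS' V g hg
    have h1 : T.P.obj.map g.op (T.P.obj.map f.op (s U)) = T.P.obj.map (g ≫ f).op (s U) := by
      rw [op_comp, Functor.map_comp]
      rfl
    rw [hA V W g p, h1, hA U W (g ≫ f) p]
  refine ⟨ObjectProperty.homMk
    { app := fun U => TypeCat.ofHom (fun _ => s U.unop)
      naturality := ?_ }⟩
  intro U V f
  ext y
  exact (hnat U.unop V.unop f.unop).symm

theorem hasSection_of_ext_one_eq_zero (h : ∀ x : Ext.{u} (ZZ J) G 1, x = 0) : T.HasSection := by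
  obtain ⟨ψ, hψ⟩ := exists_equivariant T h
  exact hasSection_of_equivariant T ψ hψ

end MainB

end Groth.Agent.Lib.Helper47.TorsLib
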